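import Groth.Prelude.Def_CohB1
import Mathlib.AlgebraicGeometry.ProjectiveSpectrum.Basic
import Mathlib.AlgebraicGeometry.Morphisms.UnderlyingMap
import Mathlib.AlgebraicGeometry.Morphisms.IsIso
import Mathlib.RingTheory.MvPolynomial.Ideal
import Mathlib.AlgebraicGeometry.PullbackCarrier

/-!
# Elementary facts about `CohB1.ProjSpace`
-/

namespace Groth.Agent.ProjLib

open CategoryTheory CategoryTheory.Limits AlgebraicGeometry MvPolynomial HomogeneousLocalization

universe u

variable (n : ℕ) (R : Type u) [CommRing R]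

lemma X_mem_polyGrading (i : Fin (n + 1)) : (X i : MvPolynomial (Fin (n + 1)) R) ∈ CohB1.polyGrading n R 1 :=
  isHomogeneous_X R i

/-- The ring map `R → Away (polyGrading n R) f`. -/
noncomputable def toAway (f : MvPolynomial (Fin (n + 1)) R) :
    R →+* Away (CohB1.polyGrading n R) f :=
  (fromZeroRingHom (CohB1.polyGrading n R) _).comp (algebraMap R (CohB1.polyGrading n R 0))

lemma val_toAway (f : MvPolynomial (Fin (n + 1)) R) (r : R) :
    (toAway n R f r).val = algebraMap (MvPolynomial (Fin (n + 1)) R) (Localization.Away f) (C r) := by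
  rw [← Localization.mk_one_eq_algebraMap]
  rfl

lemma awayι_toSpec {f : MvPolynomial (Fin (n + 1)) R} {d : ℕ}
    (hf : f ∈ CohB1.polyGrading n R d) (hd : 0 < d) :
    Proj.awayι (CohB1.polyGrading n R) f hf hd ≫ CohB1.ProjSpace.toSpec n R =
      Spec.map (CommRingCat.ofHom (toAway n R f)) := by
  refine (Proj.awayι_toSpecZero_assoc _ f hf hd _).trans ?_
  rw [← Spec.map_comp]
  rfl

/-- Evaluation at the coordinate point `(1,0,…,0)`. -/
noncomputable def evalPt : Away (CohB1.polyGrading n R) (X 0) →+* R :=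
  (IsLocalization.Away.lift (S := Localization.Away (X 0 : MvPolynomial (Fin (n + 1)) R))
      (X 0 : MvPolynomial (Fin (n + 1)) R) (g := eval (fun i => if i = 0 then (1 : R) else 0))
      (by rw [eval_X, if_pos rfl]; exact isUnit_one)).comp
    (algebraMap (Away (CohB1.polyGrading n R) (X 0)) (Localization.Away (X 0 : MvPolynomial (Fin (n + 1)) R)))

lemma evalPt_toAway (r : R) : evalPt n R (toAway n R (X 0) r) = r := by
  simp only [evalPt, RingHom.comp_apply, HomogeneousLocalization.algebraMap_apply, val_toAway,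
    IsLocalization.Away.lift_eq, eval_C]

lemma exists_section_toSpec :
    ∃ s : Spec (CommRingCat.of R) ⟶ CohB1.ProjSpace n R, s ≫ CohB1.ProjSpace.toSpec n R = 𝟙 _ := by
  refine ⟨Spec.map (CommRingCat.ofHom (evalPt n R)) ≫
    Proj.awayι (CohB1.polyGrading n R) (X 0) (X_mem_polyGrading n R 0) one_pos, ?_⟩
  refine (Category.assoc _ _ _).trans ?_
  refine (congrArg (fun g => Spec.map (CommRingCat.ofHom (evalPt n R)) ≫ g)
    (awayι_toSpec n R (X_mem_polyGrading n R 0) one_pos)).trans ?_
  rw [← Spec.map_comp, ← Spec.map_id]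
  congr 1
  ext r
  exact evalPt_toAway n R r

lemma toSpec_surjective : Surjective (CohB1.ProjSpace.toSpec n R) := by
  obtain ⟨s, hs⟩ := exists_section_toSpec n R
  have : Surjective (s ≫ CohB1.ProjSpace.toSpec n R) := by rw [hs]; infer_instance
  exact Surjective.of_comp s _

lemma toBase_surjective (S : Scheme.{u}) : Surjective (CohB1.ProjSpaceOver.toBase n S) :=
  haveI := toSpec_surjective n (ULift.{u} ℤ)
  inferInstanceAs (Surjective (pullback.snd _ _))

lemma irrelevant_le_span_X :
    (HomogeneousIdeal.irrelevant (CohB1.polyGrading n R)).toIdeal ≤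
      Ideal.span (Set.range (X : Fin (n + 1) → MvPolynomial (Fin (n + 1)) R)) := by
  classical
  refine (HomogeneousIdeal.toIdeal_irrelevant_le _).mpr fun i hi p hp => ?_
  rw [← Set.image_univ]
  refine mem_ideal_span_X_image.mpr ?_
  intro m hm
  have h1 := (mem_homogeneousSubmodule i p).mp hp (mem_support_iff.mp hm)
  have h2 : m ≠ 0 := by
    rintro rfl
    simp only [map_zero] at h1
    omega
  obtain ⟨j, hj⟩ := Finsupp.ne_iff.mp h2
  exact ⟨j, trivial, hj⟩

lemma iSup_basicOpen_X :
    ⨆ i, Proj.basicOpen (CohB1.polyGrading n R) (X i) = ⊤ :=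
  Proj.iSup_basicOpen_eq_top _ _ (irrelevant_le_span_X n R)

lemma toAway_zero_bijective : Function.Bijective (toAway 0 R (X 0)) := by
  constructor
  · refine (injective_iff_map_eq_zero _).mpr fun r hr => ?_
    have h := congrArg HomogeneousLocalization.val hr
    rw [val_toAway, HomogeneousLocalization.val_zero] at h
    obtain ⟨⟨_, k, rfl⟩, hk⟩ := (IsLocalization.map_eq_zero_iff (Submonoid.powers (X 0 : MvPolynomial (Fin (0 + 1)) R))
      (Localization.Away (X 0 : MvPolynomial (Fin (0 + 1)) R)) _).mp h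
    have := congrArg (eval (fun _ => (1 : R))) hk
    simpa using this
  · intro x
    obtain ⟨k, p, hp, rfl⟩ := Away.mk_surjective (CohB1.polyGrading 0 R) (X_mem_polyGrading 0 R 0) x
    rw [smul_eq_mul, mul_one] at hp
    refine ⟨coeff (Finsupp.single 0 k) p, HomogeneousLocalization.val_injective _ ?_⟩
    have hp' : p = C (coeff (Finsupp.single 0 k) p) * X 0 ^ k := by
      rw [X_pow_eq_monomial, C_mul_monomial, mul_one]
      ext m
      rw [coeff_monomial]
      split_ifs with h
      · rw [h]
      · by_contra hne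
        refine h ?_
        have h1 := (mem_homogeneousSubmodule k p).mp hp hne
        ext j
        rw [Fin.fin_one_eq_zero j, Finsupp.single_eq_same, ← h1]
        simp [Finsupp.weight, Finsupp.linearCombination_apply, Finsupp.sum_fintype]
    rw [val_toAway, Away.val_mk, Localization.mk_eq_mk', IsLocalization.eq_mk'_iff_mul_eq]
    conv_rhs => rw [hp']
    rw [map_mul, map_pow]

lemma awayι_zero_isIso :
    IsIso (Proj.awayι (CohB1.polyGrading 0 R) (X 0) (X_mem_polyGrading 0 R 0) one_pos) := by
  rw [isIso_iff_isOpenImmersion_and_surjective]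
  refine ⟨inferInstance, ⟨fun y => ?_⟩⟩
  have h : y ∈ Proj.basicOpen (CohB1.polyGrading 0 R) (X 0) := by
    have := (iSup_basicOpen_X 0 R).ge (Set.mem_univ y)
    obtain ⟨i, hi⟩ := TopologicalSpace.Opens.mem_iSup.mp this
    rwa [Fin.fin_one_eq_zero i] at hi
  rwa [← Proj.opensRange_awayι _ _ (X_mem_polyGrading 0 R 0) one_pos] at h

lemma isIso_toSpec_zero : IsIso (CohB1.ProjSpace.toSpec 0 R) := by
  have := awayι_zero_isIso R
  have h := awayι_toSpec 0 R (X_mem_polyGrading 0 R 0) one_pos
  have : IsIso (CommRingCat.ofHom (toAway 0 R (X 0))) :=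
    (ConcreteCategory.isIso_iff_bijective _).mpr (toAway_zero_bijective R)
  have : IsIso (Proj.awayι (CohB1.polyGrading 0 R) (X 0) (X_mem_polyGrading 0 R 0) one_pos ≫
      CohB1.ProjSpace.toSpec 0 R) := by
    rw [h]; infer_instance
  exact IsIso.of_isIso_comp_left (Proj.awayι (CohB1.polyGrading 0 R) (X 0) (X_mem_polyGrading 0 R 0) one_pos) _

end Groth.Agent.ProjLib
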