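import Mathlib.RingTheory.GradedAlgebra.FiniteType
import Mathlib.RingTheory.GradedAlgebra.Noetherian
import Mathlib.RingTheory.GradedAlgebra.Homogeneous.Ideal
import Mathlib.RingTheory.FiniteType
import Mathlib.RingTheory.Nilpotent.Lemmas
import Mathlib.RingTheory.Finiteness.Ideal
import Mathlib.Algebra.Group.Submonoid.BigOperators
import Mathlib.RingTheory.Polynomial.Basic

/-!
# Generators of rings graded in nonnegative degrees
-/

namespace Groth.Agent.ProjLib

open DirectSum HomogeneousIdeal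

universe u

section general

variable {σ A : Type u} [CommRing A] [SetLike σ A] [AddSubgroupClass σ A] (𝒜 : ℕ → σ)
  [GradedRing 𝒜]

lemma decompose_zero_of_mem_irrelevant {x : A} (hx : x ∈ (irrelevant 𝒜).toIdeal) :
    (decompose 𝒜 x 0 : A) = 0 := hx

lemma mem_irrelevant_of_pos {x : A} {n : ℕ} (hn : 0 < n) (hx : x ∈ 𝒜 n) :
    x ∈ (irrelevant 𝒜).toIdeal := mem_irrelevant_of_mem 𝒜 hn hx

lemma irrelevant_le_of_homogeneous {I : Ideal A}
    (h : ∀ n : ℕ, 0 < n → ∀ x ∈ 𝒜 n, x ∈ I) : (irrelevant 𝒜).toIdeal ≤ I := by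
  classical
  intro x hx
  rw [← sum_support_decompose 𝒜 x]
  refine sum_mem fun n _ => ?_
  rcases n.eq_zero_or_pos with rfl | hn
  · rw [decompose_zero_of_mem_irrelevant 𝒜 hx]; exact zero_mem _
  · exact h n hn _ (decompose 𝒜 x n).2

/-- A set of homogeneous elements of positive degree generating the irrelevant ideal generates the
algebra over the degree zero part. -/
lemma adjoin_eq_top_of_irrelevant_le_span {E : Set A} (hE : ∀ e ∈ E, ∃ d : ℕ, 0 < d ∧ e ∈ 𝒜 d)
    (h : (irrelevant 𝒜).toIdeal ≤ Ideal.span E) : Algebra.adjoin (𝒜 0) E = ⊤ := by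
  classical
  have key : ∀ n : ℕ, ∀ x ∈ 𝒜 n, x ∈ Algebra.adjoin (𝒜 0) E := by
    intro n
    induction n using Nat.strong_induction_on with
    | _ n ih =>
      intro x hx
      rcases n.eq_zero_or_pos with rfl | hn
      · exact (Algebra.adjoin (𝒜 0) E).algebraMap_mem ⟨x, hx⟩
      · obtain ⟨c, hc⟩ := (Finsupp.mem_span_iff_linearCombination A E x).mp
          (h (mem_irrelevant_of_pos 𝒜 hn hx))
        rw [Finsupp.linearCombination_apply, Finsupp.sum] at hc
        rw [← decompose_of_mem_same 𝒜 hx, ← hc, decompose_sum, DFinsupp.finsetSum_apply,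
          AddSubmonoidClass.coe_finsetSum]
        refine sum_mem fun e _ => ?_
        obtain ⟨d, hd, hed⟩ := hE e.1 e.2
        rw [smul_eq_mul, coe_decompose_mul_of_right_mem 𝒜 n hed]
        split_ifs with hle
        · exact mul_mem (ih (n - d) (by omega) _ (decompose 𝒜 (c e) (n - d)).2)
            (Algebra.subset_adjoin e.2)
        · exact zero_mem _
  rw [_root_.eq_top_iff]
  intro x _
  rw [← sum_support_decompose 𝒜 x]
  exact sum_mem fun n _ => key n _ (decompose 𝒜 x n).2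

lemma irrelevant_le_span_of_adjoin_eq_top {E : Set A} (hE : ∀ e ∈ E, ∃ d : ℕ, 0 < d ∧ e ∈ 𝒜 d)
    (h : Algebra.adjoin (𝒜 0) E = ⊤) : (irrelevant 𝒜).toIdeal ≤ Ideal.span E := by
  classical
  intro x hx
  have key : ∀ y ∈ Algebra.adjoin (𝒜 0) E,
      y - GradedRing.projZeroRingHom 𝒜 y ∈ Ideal.span E := by
    intro y hy
    induction hy using Algebra.adjoin_induction with
    | mem y hy =>
      obtain ⟨d, hd, hyd⟩ := hE y hy
      rw [GradedRing.projZeroRingHom_apply, decompose_of_mem_ne 𝒜 hyd hd.ne', sub_zero]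
      exact Ideal.subset_span hy
    | algebraMap r =>
      convert zero_mem (Ideal.span E)
      rw [sub_eq_zero]
      exact (decompose_of_mem_same 𝒜 r.2).symm
    | add a b _ _ ha hb => rw [map_add, add_sub_add_comm]; exact add_mem ha hb
    | mul a b _ _ ha hb =>
      convert add_mem (Ideal.mul_mem_left _ a hb)
        (Ideal.mul_mem_right (GradedRing.projZeroRingHom 𝒜 b) _ ha) using 1
      rw [map_mul]; ring
  have := key x (h ▸ Algebra.mem_top)
  rwa [GradedRing.projZeroRingHom_apply, decompose_zero_of_mem_irrelevant 𝒜 hx, sub_zero] at this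

lemma irrelevant_eq_span_iff {E : Set A} (hE : ∀ e ∈ E, ∃ d : ℕ, 0 < d ∧ e ∈ 𝒜 d) :
    (irrelevant 𝒜).toIdeal = Ideal.span E ↔ Algebra.adjoin (𝒜 0) E = ⊤ := by
  refine ⟨fun h => adjoin_eq_top_of_irrelevant_le_span 𝒜 hE h.le, fun h => le_antisymm
    (irrelevant_le_span_of_adjoin_eq_top 𝒜 hE h) (Ideal.span_le.mpr fun e he => ?_)⟩
  obtain ⟨d, hd, hed⟩ := hE e he
  exact mem_irrelevant_of_pos 𝒜 hd hed

lemma exists_finset_homogeneous_adjoin_eq_top [Algebra.FiniteType (𝒜 0) A] :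
    ∃ (s : Finset A) (d : A → ℕ), (∀ e ∈ s, 0 < d e ∧ e ∈ 𝒜 (d e)) ∧
      Algebra.adjoin (𝒜 0) (s : Set A) = ⊤ := by
  classical
  obtain ⟨s, hs, h⟩ := GradedAlgebra.exists_finset_adjoin_eq_top_and_homogeneous_ne_zero 𝒜
  choose! d hd hd' using h
  exact ⟨s, d, fun e he => ⟨Nat.pos_of_ne_zero (hd e he), hd' e he⟩, hs⟩

lemma exists_finset_homogeneous_span_eq_irrelevant (hfg : (irrelevant 𝒜).toIdeal.FG) :
    ∃ s : Finset A, (∀ e ∈ s, ∃ d : ℕ, 0 < d ∧ e ∈ 𝒜 d) ∧
      (irrelevant 𝒜).toIdeal = Ideal.span (s : Set A) := by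
  classical
  obtain ⟨F, hF⟩ := hfg
  refine ⟨(F.biUnion fun x => ((decompose 𝒜 x).support.filter (· ≠ 0)).image
    fun n => (decompose 𝒜 x n : A)), ?_, ?_⟩
  · intro e he
    simp only [Finset.mem_biUnion, Finset.mem_image, Finset.mem_filter] at he
    obtain ⟨x, _, n, ⟨_, hn⟩, rfl⟩ := he
    exact ⟨n, Nat.pos_of_ne_zero hn, (decompose 𝒜 x n).2⟩
  · refine le_antisymm ?_ (Ideal.span_le.mpr fun e he => ?_)
    · refine hF.ge.trans (Ideal.span_le.mpr fun x hx => ?_)
      have hx' : x ∈ (irrelevant 𝒜).toIdeal := hF ▸ Ideal.subset_span hx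
      rw [SetLike.mem_coe, ← sum_support_decompose 𝒜 x]
      refine sum_mem fun n hn => ?_
      rcases eq_or_ne n 0 with rfl | hn0
      · rw [decompose_zero_of_mem_irrelevant 𝒜 hx']; exact zero_mem _
      · exact Ideal.subset_span (Finset.mem_coe.mpr (Finset.mem_biUnion.mpr
          ⟨x, hx, Finset.mem_image.mpr ⟨n, Finset.mem_filter.mpr ⟨hn, hn0⟩, rfl⟩⟩))
    · simp only [Finset.mem_coe, Finset.mem_biUnion, Finset.mem_image, Finset.mem_filter] at he
      obtain ⟨x, _, n, ⟨_, hn⟩, rfl⟩ := he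
      exact mem_irrelevant_of_pos 𝒜 (Nat.pos_of_ne_zero hn) (decompose 𝒜 x n).2

lemma irrelevant_fg_iff : (irrelevant 𝒜).toIdeal.FG ↔ Algebra.FiniteType (𝒜 0) A := by
  constructor
  · intro h
    obtain ⟨s, hs, hspan⟩ := exists_finset_homogeneous_span_eq_irrelevant 𝒜 h
    exact ⟨⟨s, adjoin_eq_top_of_irrelevant_le_span 𝒜 hs hspan.le⟩⟩
  · intro h
    obtain ⟨s, d, hd, hs⟩ := exists_finset_homogeneous_adjoin_eq_top 𝒜
    exact ⟨s, ((irrelevant_eq_span_iff 𝒜 fun e he => ⟨d e, hd e he⟩).mpr hs).symm⟩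

lemma isNoetherianRing_iff_degZero :
    IsNoetherianRing A ↔ IsNoetherianRing (𝒜 0) ∧ Algebra.FiniteType (𝒜 0) A := by
  refine ⟨fun h => ⟨inferInstance, (irrelevant_fg_iff 𝒜).mp (IsNoetherian.noetherian _)⟩,
    fun ⟨h0, hft⟩ => Algebra.FiniteType.isNoetherianRing (𝒜 0) A⟩

end general

section submodule

variable {R : Type*} {A : Type u} [CommRing R] [CommRing A] [Algebra R A] (𝒜 : ℕ → Submodule R A)
  [GradedAlgebra 𝒜]

lemma mem_of_prod_pow {ι : Type*} (s : Finset ι) (f : ι → A) (d a : ι → ℕ)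
    (hf : ∀ i ∈ s, f i ∈ 𝒜 (d i)) :
    ∏ i ∈ s, f i ^ a i ∈ 𝒜 (∑ i ∈ s, a i * d i) := by
  refine SetLike.prod_mem_graded 𝒜 (fun i => a i * d i) _ fun i hi => ?_
  simpa [smul_eq_mul] using SetLike.pow_mem_graded (a i) (hf i hi)

/-- To check that a homogeneous component lies in an additive subgroup it suffices to check it on
the monomials in a system of homogeneous generators. -/
lemma degree_le_of_monomials {s : Finset A} {d : A → ℕ} (hd : ∀ e ∈ s, e ∈ 𝒜 (d e))
    (hs : Algebra.adjoin (𝒜 0) (s : Set A) = ⊤) (n : ℕ) (N : AddSubmonoid A)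
    (h : ∀ c ∈ 𝒜 0, ∀ a : A → ℕ, ∑ e ∈ s, a e * d e = n → c * ∏ e ∈ s, e ^ a e ∈ N) :
    ∀ x ∈ 𝒜 n, x ∈ N := by
  classical
  intro x hx
  have hmem : x ∈ Submodule.span (𝒜 0) (Submonoid.closure (s : Set A) : Set A) := by
    rw [← Algebra.adjoin_eq_span, hs]; exact Submodule.mem_top
  obtain ⟨c, hc⟩ := (Finsupp.mem_span_iff_linearCombination _ _ x).mp hmem
  rw [Finsupp.linearCombination_apply, Finsupp.sum] at hc
  rw [← decompose_of_mem_same 𝒜 hx, ← hc, decompose_sum, DFinsupp.finsetSum_apply,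
    AddSubmonoidClass.coe_finsetSum]
  refine sum_mem fun m _ => ?_
  obtain ⟨a, _, ha⟩ := Submonoid.mem_closure_finset.mp m.2
  have hm : (m : A) ∈ 𝒜 (∑ e ∈ s, a e * d e) := by
    rw [← ha]; exact mem_of_prod_pow 𝒜 s id d a hd
  have hcm : ((c m : 𝒜 0) : A) * (m : A) ∈ 𝒜 (∑ e ∈ s, a e * d e) := by
    simpa using SetLike.mul_mem_graded (c m).2 hm
  rw [Algebra.smul_def]
  change ((decompose 𝒜 (((c m : 𝒜 0) : A) * (m : A))) n : A) ∈ N
  by_cases hn : ∑ e ∈ s, a e * d e = n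
  · rw [decompose_of_mem_same 𝒜 (hn ▸ hcm), ← ha]
    exact h _ (c m).2 a hn
  · rw [decompose_of_mem_ne 𝒜 hcm hn]; exact zero_mem _

/-- A monomial of large degree splits off factors of degree exactly `l`, `l` a common multiple of
the degrees of the generators. -/
lemma monomial_split {s : Finset A} {d : A → ℕ} (hd : ∀ e ∈ s, 0 < d e ∧ e ∈ 𝒜 (d e))
    {l : ℕ} (hl : ∀ e ∈ s, d e ∣ l) :
    ∀ (j : ℕ) (a : A → ℕ) (n : ℕ), ∑ e ∈ s, a e * d e = n + j * l → s.card * l ≤ n + l →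
      ∏ e ∈ s, e ^ a e ∈ 𝒜 (j * l) * 𝒜 n := by
  classical
  intro j
  induction j with
  | zero =>
    intro a n hsum _
    have := mem_of_prod_pow 𝒜 s id d a fun e he => (hd e he).2
    rw [← one_mul (∏ e ∈ s, e ^ a e)]
    refine Submodule.mul_mem_mul (by simpa using SetLike.one_mem_graded 𝒜) ?_
    simpa [hsum] using this
  | succ j ih =>
    intro a n hsum hn
    rcases Nat.eq_zero_or_pos l with hl0 | hl0
    · subst hl0
      have := ih a n (by simpa using hsum) hn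
      simpa using this
    have hex : ∃ e ∈ s, l ≤ a e * d e := by
      by_contra hcon
      push Not at hcon
      rcases s.eq_empty_or_nonempty with rfl | hne
      · simp only [Finset.sum_empty, Nat.succ_mul] at hsum; omega
      · have hlt := Finset.sum_lt_sum_of_nonempty hne hcon
        rw [Finset.sum_const, smul_eq_mul, hsum, Nat.succ_mul] at hlt
        omega
    obtain ⟨e, he, hle⟩ := hex
    obtain ⟨q, hq⟩ := hl e he
    have hqa : q ≤ a e := by
      rw [hq, mul_comm (d e)] at hle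
      exact Nat.le_of_mul_le_mul_right hle (hd e he).1
    let a' := Function.update a e (a e - q)
    have ha' : ∀ x ∈ s, a x = (if x = e then q else 0) + a' x := by
      intro x _
      by_cases hx : x = e
      · subst hx; simp only [a', Function.update_self, if_true]; omega
      · simp [a', hx]
    have hsum' : ∑ x ∈ s, a' x * d x = n + j * l := by
      have : ∑ x ∈ s, a x * d x = l + ∑ x ∈ s, a' x * d x := by
        rw [Finset.sum_congr rfl fun x hx => by rw [ha' x hx, add_mul], Finset.sum_add_distrib]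
        simp [he, hq, mul_comm]
      rw [hsum, Nat.succ_mul] at this
      omega
    have hprod : ∏ x ∈ s, x ^ a x = e ^ q * ∏ x ∈ s, x ^ a' x := by
      rw [Finset.prod_congr rfl fun x hx => by rw [ha' x hx, pow_add], Finset.prod_mul_distrib]
      simp [pow_ite, Finset.prod_ite_eq', he]
    rw [hprod]
    have h1 : e ^ q ∈ 𝒜 l := by
      rw [hq, mul_comm]; simpa [smul_eq_mul] using SetLike.pow_mem_graded q (hd e he).2
    have h2 := Submodule.mul_mem_mul h1 (ih a' n hsum' hn)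
    rw [← mul_assoc] at h2
    refine SetLike.le_def.mp (mul_le_mul_left ?_ _) h2
    rw [Submodule.mul_le]
    intro x hx y hy
    rw [Nat.succ_mul, add_comm]
    exact SetLike.mul_mem_graded hx hy

/-- There are `h > 0` and `n₁` with `𝒜 (n + h) = 𝒜 h * 𝒜 n` for `n ≥ n₁`, and `n₁ ≤ h`. -/
lemma exists_mul_degree_eq [Algebra.FiniteType (𝒜 0) A] :
    ∃ h : ℕ, 0 < h ∧ ∀ n : ℕ, h ≤ n → 𝒜 (n + h) = 𝒜 h * 𝒜 n := by
  classical
  obtain ⟨s, d, hd, hs⟩ := exists_finset_homogeneous_adjoin_eq_top 𝒜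
  let l := ∏ e ∈ s, d e
  have hl : 0 < l := Finset.prod_pos fun e he => (hd e he).1
  refine ⟨(s.card + 1) * l, Nat.mul_pos (by omega) hl, fun n hn => le_antisymm ?_ ?_⟩
  · refine fun x hx => degree_le_of_monomials 𝒜 (fun e he => (hd e he).2) hs _
      (𝒜 ((s.card + 1) * l) * 𝒜 n).toAddSubmonoid (fun c hc a ha => ?_) x hx
    have h2 := monomial_split 𝒜 hd (fun e he => Finset.dvd_prod_of_mem d he) (s.card + 1) a n ha
      ((Nat.mul_le_mul_right l (Nat.le_succ _)).trans (hn.trans (Nat.le_add_right _ _)))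
    have h3 := Submodule.mul_mem_mul hc h2
    rw [← mul_assoc] at h3
    refine SetLike.le_def.mp (mul_le_mul_left ?_ _) h3
    rw [Submodule.mul_le]
    intro x hx y hy
    simpa using SetLike.mul_mem_graded hx hy
  · rw [Submodule.mul_le]
    intro x hx y hy
    rw [add_comm]
    exact SetLike.mul_mem_graded hx hy

lemma exists_pow_degree_eq [Algebra.FiniteType (𝒜 0) A] :
    ∃ h : ℕ, 0 < h ∧ ∀ m : ℕ, 0 < m → 𝒜 (m * h) = (𝒜 h : Submodule R A) ^ m := by
  obtain ⟨h, hpos, hh⟩ := exists_mul_degree_eq 𝒜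
  refine ⟨h, hpos, fun m hm => ?_⟩
  induction m, hm using Nat.le_induction with
  | base => simp
  | succ m hm ih =>
    rw [Nat.succ_mul, hh _ (Nat.le_mul_of_pos_left h hm), ih, pow_succ']

lemma exists_degree_le_pow [Algebra.FiniteType (𝒜 0) A] (n : ℕ) :
    ∃ m₀ : ℕ, ∀ m : ℕ, m₀ ≤ m →
      (𝒜 m : Set A) ⊆ ((irrelevant 𝒜).toIdeal ^ n : Ideal A) := by
  classical
  obtain ⟨s, d, hd, hs⟩ := exists_finset_homogeneous_adjoin_eq_top 𝒜
  refine ⟨n * (∑ e ∈ s, d e) + 1, fun m hm x hx => ?_⟩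
  refine degree_le_of_monomials 𝒜 (fun e he => (hd e he).2) hs m
    ((irrelevant 𝒜).toIdeal ^ n).toAddSubmonoid (fun c _ a ha => ?_) x hx
  refine Ideal.mul_mem_left _ c ?_
  have hn : n ≤ ∑ e ∈ s, a e := by
    by_contra hlt
    push Not at hlt
    have hle : m ≤ (∑ e ∈ s, a e) * ∑ e ∈ s, d e := by
      rw [← ha, Finset.sum_mul]
      exact Finset.sum_le_sum fun e he =>
        Nat.mul_le_mul_left _ (Finset.single_le_sum (fun x _ => Nat.zero_le (d x)) he)
    have := hle.trans (Nat.mul_le_mul_right _ hlt.le)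
    omega
  refine Ideal.pow_le_pow_right hn ?_
  rw [← Finset.prod_pow_eq_pow_sum]
  exact Ideal.prod_mem_prod fun e he =>
    Ideal.pow_mem_pow (mem_irrelevant_of_pos 𝒜 (hd e he).1 (hd e he).2) _

lemma exists_degree_eq_bot [Algebra.FiniteType (𝒜 0) A]
    (h : (irrelevant 𝒜).toIdeal ≤ nilradical A) :
    ∃ n : ℕ, ∀ k : ℕ, n ≤ k → 𝒜 k = ⊥ := by
  obtain ⟨N, hN⟩ := Ideal.exists_pow_le_of_le_radical_of_fg (J := (⊥ : Ideal A)) h
    ((irrelevant_fg_iff 𝒜).mpr inferInstance)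
  obtain ⟨m₀, hm⟩ := exists_degree_le_pow 𝒜 N
  exact ⟨m₀, fun k hk => eq_bot_iff.mpr fun x hx => hN (hm k hk hx)⟩

end submodule

end Groth.Agent.ProjLib
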