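import Groth.Agent.ProjLib.RelProjBasics
import Groth.Agent.ProjLib.GradedGen

/-!
# Graded rings generated in degree one
-/

set_option linter.unusedSectionVars false

namespace Groth.Agent.ProjLib

open DirectSum HomogeneousLocalization AlgebraicGeometry CategoryTheory Opposite

universe u

section algebra

variable {σ A : Type u} [CommRing A] [SetLike σ A] [AddSubgroupClass σ A] {𝒜 : ℕ → σ}
  [GradedRing 𝒜] (hgen : Subring.closure ((𝒜 0 : Set A) ∪ (𝒜 1 : Set A)) = ⊤)
  {R : Type u} [CommRing R] (r : R →+* 𝒜 0) (T : Finset A) (hT : ∀ t ∈ T, t ∈ 𝒜 1)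
  (hspan : ∀ x ∈ 𝒜 1, ∃ c : A → R, x = ∑ t ∈ T, (r (c t) : A) * t)

include hgen in
lemma mem_irrelevant_le_span_degree_one :
    (HomogeneousIdeal.irrelevant 𝒜).toIdeal ≤ Ideal.span (𝒜 1 : Set A) := by
  intro x hx
  have key : ∀ y ∈ Subring.closure ((𝒜 0 : Set A) ∪ (𝒜 1 : Set A)),
      y - GradedRing.projZeroRingHom 𝒜 y ∈ Ideal.span (𝒜 1 : Set A) := by
    intro y hy
    induction hy using Subring.closure_induction with
    | mem y hy =>
      rcases hy with hy | hy
      · rw [GradedRing.projZeroRingHom_apply, decompose_of_mem_same 𝒜 hy, sub_self]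
        exact zero_mem _
      · rw [GradedRing.projZeroRingHom_apply, decompose_of_mem_ne 𝒜 hy one_ne_zero, sub_zero]
        exact Ideal.subset_span hy
    | zero => simp
    | one => rw [map_one, sub_self]; exact zero_mem _
    | add a b _ _ ha hb => rw [map_add, add_sub_add_comm]; exact add_mem ha hb
    | neg a _ ha => rw [map_neg, ← neg_sub']; exact neg_mem ha
    | mul a b _ _ ha hb =>
      rw [map_mul, show a * b - GradedRing.projZeroRingHom 𝒜 a * GradedRing.projZeroRingHom 𝒜 b =
        a * (b - GradedRing.projZeroRingHom 𝒜 b) +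
          GradedRing.projZeroRingHom 𝒜 b * (a - GradedRing.projZeroRingHom 𝒜 a) by ring]
      exact add_mem (Ideal.mul_mem_left _ _ hb) (Ideal.mul_mem_left _ _ ha)
  have h := key x (hgen ▸ Subring.mem_top x)
  rwa [GradedRing.projZeroRingHom_apply, decompose_zero_of_mem_irrelevant 𝒜 hx, sub_zero] at h

include hgen hspan in
lemma irrelevant_le_span_finset :
    (HomogeneousIdeal.irrelevant 𝒜).toIdeal ≤ Ideal.span (Set.range fun t : T => (t : A)) := by
  refine (mem_irrelevant_le_span_degree_one hgen).trans (Ideal.span_le.mpr fun x hx => ?_)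
  obtain ⟨c, rfl⟩ := hspan x hx
  exact Ideal.sum_mem _ fun t ht => Ideal.mul_mem_left _ _ (Ideal.subset_span ⟨⟨t, ht⟩, rfl⟩)

include hgen hT hspan in
lemma away_finiteType {t : A} (ht : t ∈ 𝒜 1) :
    ((fromZeroRingHom 𝒜 (Submonoid.powers t)).comp r).FiniteType := by
  classical
  let := ((fromZeroRingHom 𝒜 (Submonoid.powers t)).comp r).toAlgebra
  let gen : T → Away 𝒜 t := fun s => Away.mk 𝒜 ht 1 s.1 (by simpa using hT s.1 s.2)
  let B := Algebra.adjoin R (Set.range gen)
  let B' : Subring (Localization.Away t) :=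
    B.toSubring.map (algebraMap (Away 𝒜 t) (Localization.Away t))
  let fr : ℕ → A → Localization.Away t :=
    fun n y => Localization.mk y ⟨t ^ n, pow_mem (Submonoid.mem_powers t) n⟩
  let G : Set A := {y | ∃ n, y ∈ 𝒜 n ∧ fr n y ∈ B'}
  have hone : ∀ x ∈ 𝒜 1, fr 1 x ∈ B' := by
    intro x hx
    obtain ⟨c, rfl⟩ := hspan x hx
    refine Finset.sum_induction (s := T) (fun s => (r (c s) : A) * s) (fun z => fr 1 z ∈ B')
      (fun a b ha hb => ?_) ?_ fun s hs => ?_
    · simp only [fr]
      rw [← Localization.add_mk_self]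
      exact add_mem ha hb
    · simp only [fr, Localization.mk_zero]; exact zero_mem _
    · refine ⟨algebraMap R _ (c s) * gen ⟨s, hs⟩,
        mul_mem (B.algebraMap_mem _) (Algebra.subset_adjoin ⟨_, rfl⟩), ?_⟩
      change (algebraMap R (Away 𝒜 t) (c s) * gen ⟨s, hs⟩).val = _
      rw [val_mul, Away.val_mk]
      change Localization.mk (r (c s) : A) 1 * _ = _
      rw [Localization.mk_mul, one_mul]
  have hzero : ∀ x ∈ 𝒜 0, fr 0 x ∈ B' := by
    intro x hx
    have h1 : x * t ∈ 𝒜 1 := by
      simpa using SetLike.mul_mem_graded (A := 𝒜) hx ht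
    have h2 : fr 0 x = fr 1 (x * t) := by
      simp only [fr]
      rw [Localization.mk_eq_mk_iff, Localization.r_iff_exists]
      exact ⟨1, by simp [mul_comm]⟩
    rw [h2]; exact hone _ h1
  have hall : ∀ y : A, y ∈ AddSubgroup.closure G := by
    intro y
    have hy : y ∈ Subring.closure ((𝒜 0 : Set A) ∪ (𝒜 1 : Set A)) := hgen ▸ Subring.mem_top y
    induction hy using Subring.closure_induction with
    | mem y hy =>
      rcases hy with hy | hy
      · exact AddSubgroup.subset_closure ⟨0, hy, hzero y hy⟩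
      · exact AddSubgroup.subset_closure ⟨1, hy, hone y hy⟩
    | zero => exact zero_mem _
    | one => exact AddSubgroup.subset_closure ⟨0, SetLike.GradedOne.one_mem, hzero 1 SetLike.GradedOne.one_mem⟩
    | add a b _ _ ha hb => exact add_mem ha hb
    | neg a _ ha => exact neg_mem ha
    | mul a b ha0 hb0 ha hb =>
      clear ha0 hb0
      induction ha using AddSubgroup.closure_induction with
      | mem a ha' =>
        induction hb using AddSubgroup.closure_induction with
        | mem b hb' =>
          obtain ⟨n, hn, hn'⟩ := ha'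
          obtain ⟨m, hm, hm'⟩ := hb'
          refine AddSubgroup.subset_closure ⟨n + m, SetLike.mul_mem_graded hn hm, ?_⟩
          have := mul_mem hn' hm'
          simp only [fr, Localization.mk_mul] at this ⊢
          convert! this using 3
          exact pow_add t n m
        | zero => rw [mul_zero]; exact zero_mem _
        | add u v _ _ hu hv => rw [mul_add]; exact add_mem hu hv
        | neg u _ hu => rw [mul_neg]; exact neg_mem hu
      | zero => rw [zero_mul]; exact zero_mem _
      | add u v _ _ hu hv => rw [add_mul]; exact add_mem hu hv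
      | neg u _ hu => rw [neg_mul]; exact neg_mem hu
  refine ⟨⟨Finset.univ.image gen, ?_⟩⟩
  rw [Finset.coe_image, Finset.coe_univ, Set.image_univ, eq_top_iff]
  rintro z -
  obtain ⟨n, x, hx, rfl⟩ := Away.mk_surjective 𝒜 ht z
  rw [smul_eq_mul, mul_one] at hx
  have hcomp : fr n (decompose 𝒜 x n : A) ∈ B' := by
    refine AddSubgroup.closure_induction (p := fun y _ => fr n (decompose 𝒜 y n : A) ∈ B')
      ?_ ?_ ?_ ?_ (hall x)
    · rintro y ⟨m, hm, hm'⟩
      by_cases h : m = n
      · subst h; rwa [decompose_of_mem_same 𝒜 hm]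
      · rw [decompose_of_mem_ne 𝒜 hm h]
        simp only [fr, Localization.mk_zero]
        exact zero_mem _
    · rw [decompose_zero]
      simp only [fr, DirectSum.zero_apply, ZeroMemClass.coe_zero, Localization.mk_zero]
      exact zero_mem _
    · intro a b _ _ ha hb
      rw [decompose_add, DirectSum.add_apply, AddMemClass.coe_add]
      simp only [fr] at ha hb ⊢
      rw [← Localization.add_mk_self]
      exact add_mem ha hb
    · intro a _ ha
      rw [decompose_neg, DFinsupp.neg_apply, NegMemClass.coe_neg]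
      simp only [fr] at ha ⊢
      rw [← Localization.neg_mk]
      exact neg_mem ha
  obtain ⟨w, hw, hw'⟩ := hcomp
  rw [decompose_of_mem_same 𝒜 hx] at hw'
  have : w = Away.mk 𝒜 ht n x (by simpa using hx) := val_injective _ (by rw [Away.val_mk]; exact hw')
  rw [← this]
  exact hw

variable (ρ : CommRingCat.of R ⟶ CommRingCat.of (𝒜 0)) (hρ : ρ.hom = r)

set_option backward.isDefEq.respectTransparency.types false in
include hgen hT hspan hρ in
lemma proj_finiteType_of_gen_degree_one :
    LocallyOfFiniteType (Proj.toSpecZero 𝒜 ≫ Spec.map ρ) ∧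
      QuasiCompact (Proj.toSpecZero 𝒜 ≫ Spec.map ρ) := by
  have hcov := Proj.iSup_basicOpen_eq_top 𝒜 (fun t : T => (t : A))
    (irrelevant_le_span_finset hgen r T hspan)
  constructor
  · rw [IsZariskiLocalAtSource.iff_of_iSup_eq_top (P := @LocallyOfFiniteType.{u}) _ hcov]
    intro t
    rw [← MorphismProperty.cancel_left_of_respectsIso (P := @LocallyOfFiniteType.{u})
      (Proj.basicOpenIsoSpec 𝒜 (t : A) (hT t.1 t.2) one_pos).inv, ← Category.assoc,
      ← Proj.awayι, Proj.awayι_toSpecZero_assoc, ← Spec.map_comp,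
      HasRingHomProperty.Spec_iff (P := @LocallyOfFiniteType.{u})]
    have := away_finiteType hgen r T hT hspan (hT t.1 t.2)
    rw [← hρ] at this
    exact this
  · have hc : IsCompact (Set.univ : Set (Proj 𝒜)) := by
      have h2 := congr($(hcov).1)
      simp only [TopologicalSpace.Opens.iSup_mk, TopologicalSpace.Opens.carrier_eq_coe,
        TopologicalSpace.Opens.coe_mk, TopologicalSpace.Opens.coe_top] at h2
      rw [← h2]
      exact isCompact_iUnion fun t =>
        (Proj.isAffineOpen_basicOpen 𝒜 _ (hT t.1 t.2) one_pos).isCompact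
    have : CompactSpace (Proj 𝒜) := ⟨hc⟩
    exact (HasAffineProperty.iff_of_isAffine (P := @QuasiCompact.{u})).mpr this

end algebra

variable {S P : Scheme.{u}} {𝒮 : RelProj.QCGrAlg S} {p : P ⟶ S}
  {chart : ∀ (U : S.Opens) (hU : IsAffineOpen U),
    (((p ⁻¹ᵁ U : P.Opens) : Scheme.{u}) ≅ Proj (𝒮.deg U hU))}

set_option backward.isDefEq.respectTransparency.types false in
lemma finiteType_relProj_of_genDegOne (hP : RelProj.IsRelProj 𝒮 p chart)
    (hgen : 𝒮.IsGenDegOne) (hft : 𝒮.IsFTDeg 1) : LocallyOfFiniteType p ∧ QuasiCompact p := by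
  have key : ∀ (U : S.Opens) (hU : IsAffineOpen U),
      LocallyOfFiniteType (Proj.toSpecZero (𝒮.deg U hU) ≫ Spec.map (𝒮.strZero U hU)) ∧
        QuasiCompact (Proj.toSpecZero (𝒮.deg U hU) ≫ Spec.map (𝒮.strZero U hU)) := by
    intro U hU
    obtain ⟨T, hT, hspan⟩ := hft U hU
    exact proj_finiteType_of_gen_degree_one (hgen U hU) (𝒮.strZero U hU).hom T
      (fun t ht => hT ht) hspan (𝒮.strZero U hU) rfl
  constructor
  · refine property_of_charts hP fun U hU => ?_
    rw [chartBase, ← Category.assoc,
      MorphismProperty.cancel_right_of_respectsIso (P := @LocallyOfFiniteType.{u})]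
    exact (key U hU).1
  · refine property_of_charts hP fun U hU => ?_
    rw [chartBase, ← Category.assoc,
      MorphismProperty.cancel_right_of_respectsIso (P := @QuasiCompact.{u})]
    exact (key U hU).2

end Groth.Agent.ProjLib
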