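import Mathlib.AlgebraicGeometry.ProjectiveSpectrum.Basic
import Mathlib.RingTheory.GradedAlgebra.Radical
import Mathlib.RingTheory.Nilpotent.Lemmas

/-!
# Zero loci in the projective spectrum and radicals of homogeneous ideals
-/

namespace Groth.Agent.ProjLib

open DirectSum HomogeneousIdeal AlgebraicGeometry

universe u

variable {σ A : Type u} [CommRing A] [SetLike σ A] [AddSubgroupClass σ A] (𝒜 : ℕ → σ)
  [GradedRing 𝒜]

lemma mem_radical_of_zeroLocus_subset {I : Ideal A} (hI : I.IsHomogeneous 𝒜) {g : A}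
    (hg : g ∈ (irrelevant 𝒜).toIdeal)
    (h : ∀ x : ProjectiveSpectrum 𝒜, I ≤ x.asHomogeneousIdeal.toIdeal →
      g ∈ x.asHomogeneousIdeal.toIdeal) :
    g ∈ I.radical := by
  rw [hI.radical_eq, Ideal.mem_sInf]
  rintro J ⟨hJ, hIJ, hJp⟩
  by_cases hle : (irrelevant 𝒜).toIdeal ≤ J
  · exact hle hg
  · exact h ⟨⟨J, hJ⟩, hJp, hle⟩ hIJ

lemma isNilpotent_of_forall_mem {g : A} (hg : g ∈ (irrelevant 𝒜).toIdeal)
    (h : ∀ x : ProjectiveSpectrum 𝒜, g ∈ x.asHomogeneousIdeal.toIdeal) : IsNilpotent g :=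
  mem_nilradical.mp (mem_radical_of_zeroLocus_subset 𝒜 (Ideal.IsHomogeneous.bot 𝒜) hg
    fun x _ => h x)

lemma mem_of_isNilpotent {g : A} (h : IsNilpotent g) (x : ProjectiveSpectrum 𝒜) :
    g ∈ x.asHomogeneousIdeal.toIdeal :=
  nilradical_le_prime _ (mem_nilradical.mpr h)

lemma basicOpen_eq_bot_iff {g : A} (hg : g ∈ (irrelevant 𝒜).toIdeal) :
    Proj.basicOpen 𝒜 g = ⊥ ↔ IsNilpotent g := by
  refine ⟨fun h => isNilpotent_of_forall_mem 𝒜 hg fun x => ?_, fun h => ?_⟩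
  · by_contra hx
    have : x ∈ Proj.basicOpen 𝒜 g := hx
    rw [h] at this
    exact this
  · exact bot_unique fun x hx => hx (mem_of_isNilpotent 𝒜 h x)

lemma isEmpty_proj_iff :
    IsEmpty (Proj 𝒜) ↔ ∀ f ∈ (irrelevant 𝒜).toIdeal, IsNilpotent f := by
  constructor
  · exact fun h f hf => isNilpotent_of_forall_mem 𝒜 hf fun x => h.elim x
  · exact fun h => ⟨fun x => x.not_irrelevant_le fun f hf => mem_of_isNilpotent 𝒜 (h f hf) x⟩

lemma iSup_basicOpen_eq_top_iff {ι : Type*} (f : ι → A) (hf : ∀ i, ∃ d : ℕ, f i ∈ 𝒜 d) :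
    (⨆ i, Proj.basicOpen 𝒜 (f i)) = ⊤ ↔
      (irrelevant 𝒜).toIdeal ≤ (Ideal.span (Set.range f)).radical := by
  constructor
  · intro h g hg
    refine mem_radical_of_zeroLocus_subset 𝒜
      (Ideal.homogeneous_span _ _ (by rintro _ ⟨i, rfl⟩; exact hf i)) hg fun x hx => ?_
    obtain ⟨i, hi⟩ := TopologicalSpace.Opens.mem_iSup.mp (h.ge (Set.mem_univ x))
    exact absurd (hx (Ideal.subset_span ⟨i, rfl⟩)) hi
  · intro h
    refine top_unique fun x _ => TopologicalSpace.Opens.mem_iSup.mpr ?_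
    classical
    by_contra! H
    refine x.not_irrelevant_le (h.trans ?_)
    refine (Ideal.radical_mono (Ideal.span_le.mpr ?_)).trans x.isPrime.radical.le
    rintro _ ⟨i, rfl⟩
    exact Decidable.not_not.mp (H i)

lemma homogeneousHull_le_iff (E : Set A) (I : HomogeneousIdeal 𝒜) :
    (Ideal.homogeneousHull 𝒜 (Ideal.span E)).toIdeal ≤ I.toIdeal ↔ E ⊆ I.toIdeal := by
  rw [toIdeal_le_toIdeal_iff, (Ideal.homogeneousHull.gc 𝒜).le_iff_le,
    Ideal.span_le]

lemma irrelevant_inf_vanishingIdeal_zeroLocus (E : Set A) :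
    (irrelevant 𝒜).toIdeal ⊓
        (ProjectiveSpectrum.vanishingIdeal (ProjectiveSpectrum.zeroLocus 𝒜 E)).toIdeal =
      (irrelevant 𝒜).toIdeal ⊓ (Ideal.homogeneousHull 𝒜 (Ideal.span E)).toIdeal.radical := by
  refine le_antisymm ?_ ?_ <;> intro g hg <;> refine ⟨hg.1, ?_⟩
  · refine mem_radical_of_zeroLocus_subset 𝒜 (HomogeneousIdeal.isHomogeneous _) hg.1 fun x hx => ?_
    exact (ProjectiveSpectrum.mem_vanishingIdeal _ g).mp hg.2 x
      ((homogeneousHull_le_iff 𝒜 E _).mp hx)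
  · refine (ProjectiveSpectrum.mem_vanishingIdeal _ g).mpr fun x hx => ?_
    exact x.isPrime.radical.le (Ideal.radical_mono ((homogeneousHull_le_iff 𝒜 E _).mpr hx) hg.2)

lemma zeroLocus_eq_univ_iff {E : Set A} (hE : E ⊆ (irrelevant 𝒜).toIdeal) :
    ProjectiveSpectrum.zeroLocus 𝒜 E = Set.univ ↔ ∀ e ∈ E, IsNilpotent e := by
  refine ⟨fun h e he => isNilpotent_of_forall_mem 𝒜 (hE he) fun x => ?_, fun h => ?_⟩
  · exact (h ▸ Set.mem_univ x : x ∈ ProjectiveSpectrum.zeroLocus 𝒜 E) he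
  · exact Set.eq_univ_of_forall fun x e he => mem_of_isNilpotent 𝒜 (h e he) x

/-- `D₊(g)` for `g` homogeneous of positive degree form a basis of the topology. -/
lemma exists_homogeneous_basicOpen_subset {U : Set (Proj 𝒜)} (hU : IsOpen U) {x : Proj 𝒜}
    (hx : x ∈ U) : ∃ (d : ℕ) (g : A), 0 < d ∧ g ∈ 𝒜 d ∧ g ∉ x.asHomogeneousIdeal.toIdeal ∧
      (Proj.basicOpen 𝒜 g : Set (Proj 𝒜)) ⊆ U := by
  classical
  obtain ⟨_, ⟨a, rfl⟩, hxa, haU⟩ :=
    (ProjectiveSpectrum.isTopologicalBasis_basic_opens 𝒜).exists_subset_of_mem_open hx hU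
  have hxa' : x ∈ Proj.basicOpen 𝒜 a := hxa
  rw [Proj.basicOpen_eq_iSup_proj] at hxa'
  obtain ⟨i, hi⟩ := TopologicalSpace.Opens.mem_iSup.mp hxa'
  obtain ⟨j, t, hj, ht, htx⟩ : ∃ j, ∃ t, 0 < j ∧ t ∈ 𝒜 j ∧ t ∉ x.asHomogeneousIdeal.toIdeal := by
    by_contra! hcon
    exact x.not_irrelevant_le ((HomogeneousIdeal.toIdeal_irrelevant_le 𝒜).mpr fun j hj t ht => hcon j t hj ht)
  refine ⟨i + j, GradedRing.proj 𝒜 i a * t, by omega,
    SetLike.mul_mem_graded (decompose 𝒜 a i).2 ht,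
    fun h => (x.isPrime.mem_or_mem h).elim hi htx, fun y hy => haU ?_⟩
  change y ∈ Proj.basicOpen 𝒜 a
  rw [Proj.basicOpen_eq_iSup_proj]
  exact TopologicalSpace.Opens.mem_iSup.mpr ⟨i, Proj.basicOpen_mono 𝒜 _ _ ⟨t, rfl⟩ hy⟩

/-- A radical homogeneous ideal that is prime on `S₊` gives an irreducible closed subset. -/
lemma isIrreducible_iff_prime_on_irrelevant (Z : Set (ProjectiveSpectrum 𝒜)) (hZ : IsClosed Z) :
    IsIrreducible Z ↔
      (¬ (irrelevant 𝒜).toIdeal ≤ (ProjectiveSpectrum.vanishingIdeal Z).toIdeal ∧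
        ∀ f ∈ (irrelevant 𝒜).toIdeal, ∀ g ∈ (irrelevant 𝒜).toIdeal,
          f * g ∈ (ProjectiveSpectrum.vanishingIdeal Z).toIdeal →
            f ∈ (ProjectiveSpectrum.vanishingIdeal Z).toIdeal ∨
              g ∈ (ProjectiveSpectrum.vanishingIdeal Z).toIdeal) := by
  set I := ProjectiveSpectrum.vanishingIdeal Z with hIdef
  have hZI : Z = ProjectiveSpectrum.zeroLocus 𝒜 (I : Set A) := by
    conv_lhs => rw [← hZ.closure_eq, ← ProjectiveSpectrum.zeroLocus_vanishingIdeal_eq_closure]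
  have hmem : ∀ a, a ∈ I.toIdeal ↔ ∀ x ∈ Z, a ∈ x.asHomogeneousIdeal.toIdeal :=
    fun a => ProjectiveSpectrum.mem_vanishingIdeal Z a
  constructor
  · intro hirr
    obtain ⟨z, hz⟩ := hirr.nonempty
    refine ⟨fun h => z.not_irrelevant_le fun a ha => (hmem a).mp (h ha) z hz,
      fun f _ g _ hfg => ?_⟩
    have hsub : Z ⊆ ProjectiveSpectrum.zeroLocus 𝒜 {f} ∪ ProjectiveSpectrum.zeroLocus 𝒜 {g} := by
      rw [← ProjectiveSpectrum.zeroLocus_singleton_mul]
      exact fun x hx => Set.singleton_subset_iff.mpr ((hmem _).mp hfg x hx)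
    rcases isPreirreducible_iff_isClosed_union_isClosed.mp hirr.2 _ _
      (ProjectiveSpectrum.isClosed_zeroLocus 𝒜 _) (ProjectiveSpectrum.isClosed_zeroLocus 𝒜 _)
      hsub with h | h
    · exact Or.inl ((hmem f).mpr fun x hx => h hx rfl)
    · exact Or.inr ((hmem g).mpr fun x hx => h hx rfl)
  · rintro ⟨hne, hprime⟩
    obtain ⟨t, ht, htI⟩ := SetLike.not_le_iff_exists.mp hne
    have hp : I.toIdeal.IsPrime := by
      refine ⟨fun htop => hne (htop ▸ le_top), fun {a b} hab => ?_⟩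
      have key : ∀ c, c * t ∈ I.toIdeal → c ∈ I.toIdeal := fun c hc =>
        (hmem c).mpr fun x hx => by
          by_contra hcx
          refine x.not_irrelevant_le fun u hu => ?_
          have h1 : c * u * (t * t) ∈ I.toIdeal := by
            have := Ideal.mul_mem_right (u * t) _ hc
            rwa [show c * t * (u * t) = c * u * (t * t) by ring] at this
          rcases hprime _ (Ideal.mul_mem_left _ c hu) _ (Ideal.mul_mem_left _ t ht) h1 with h2 | h2
          · exact (x.isPrime.mem_or_mem ((hmem _).mp h2 x hx)).resolve_left hcx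
          · exact ((hprime _ ht _ ht h2).elim htI htI).elim
      rcases hprime _ (Ideal.mul_mem_left _ a ht) _ (Ideal.mul_mem_left _ b ht) (by
          have := Ideal.mul_mem_right (t * t) _ hab
          rwa [show a * b * (t * t) = a * t * (b * t) by ring] at this) with h | h
      · exact Or.inl (key a h)
      · exact Or.inr (key b h)
    let q : ProjectiveSpectrum 𝒜 := ⟨I, hp, hne⟩
    have : Z = closure {q} := by
      rw [← ProjectiveSpectrum.zeroLocus_vanishingIdeal_eq_closure,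
        ProjectiveSpectrum.vanishingIdeal_singleton]
      exact hZI
    rw [this]
    exact isIrreducible_singleton.closure

end Groth.Agent.ProjLib
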