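import Mathlib.AlgebraicGeometry.ProjectiveSpectrum.Functor
import Mathlib.AlgebraicGeometry.Morphisms.Affine
import Mathlib.AlgebraicGeometry.Morphisms.ClosedImmersion
import Mathlib.AlgebraicGeometry.Morphisms.IsIso
import Groth.Agent.ProjLib.SpecLocus
import Groth.Agent.ProjLib.GradedGen

/-!
# Local properties of `Proj.map`
-/

set_option linter.unusedSectionVars false

namespace Groth.Agent.ProjLib

open DirectSum HomogeneousIdeal AlgebraicGeometry CategoryTheory CategoryTheory.Limits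
  HomogeneousLocalization

universe u

variable {σ A : Type u} [CommRing A] [SetLike σ A] [AddSubgroupClass σ A] {𝒜 : ℕ → σ}
  [GradedRing 𝒜] {τ B : Type u} [CommRing B] [SetLike τ B] [AddSubgroupClass τ B]
  {ℬ : ℕ → τ} [GradedRing ℬ]

section

variable (𝒜)

/-- A fraction vanishing in `Away 𝒜 f`. -/
lemma away_mk_eq_zero_iff {d : ℕ} {f : A} (hf : f ∈ 𝒜 d) (n : ℕ) (a : A)
    (ha : a ∈ 𝒜 (n • d)) : Away.mk 𝒜 hf n a ha = 0 ↔ ∃ k : ℕ, f ^ k * a = 0 := by
  rw [HomogeneousLocalization.ext_iff_val, Away.val_mk, HomogeneousLocalization.val_zero]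
  constructor
  · intro h
    rw [Localization.mk_eq_mk', IsLocalization.mk'_eq_zero_iff] at h
    obtain ⟨⟨_, k, rfl⟩, hk⟩ := h
    exact ⟨k, hk⟩
  · rintro ⟨k, hk⟩
    rw [Localization.mk_eq_mk', IsLocalization.mk'_eq_zero_iff]
    exact ⟨⟨_, k, rfl⟩, hk⟩

lemma away_eq_zero_of_forall {d : ℕ} {f : A} (hf : f ∈ 𝒜 d) (x : Away 𝒜 f)
    (h : ∀ (n : ℕ) (a : A) (ha : a ∈ 𝒜 (n • d)), x = Away.mk 𝒜 hf n a ha →
      ∃ k : ℕ, f ^ k * a = 0) : x = 0 := by
  obtain ⟨n, a, ha, rfl⟩ := Away.mk_surjective 𝒜 hf x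
  exact (away_mk_eq_zero_iff 𝒜 hf n a ha).mpr (h n a ha rfl)

/-- The irrelevant ideal contains no nonzero nilpotent: the charts of `Proj` are reduced. -/
lemma away_isReduced (hred : ∀ f ∈ (irrelevant 𝒜).toIdeal, IsNilpotent f → f = 0) {d : ℕ}
    (hd : 0 < d) {f : A} (hf : f ∈ 𝒜 d) : _root_.IsReduced (Away 𝒜 f) := by
  refine ⟨fun x ⟨m, hm⟩ => away_eq_zero_of_forall 𝒜 hf x fun n a ha hx => ?_⟩
  have h2 := congrArg HomogeneousLocalization.val hm
  rw [hx, val_pow, Away.val_mk, HomogeneousLocalization.val_zero, Localization.mk_pow,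
    Localization.mk_eq_mk', IsLocalization.mk'_eq_zero_iff] at h2
  obtain ⟨⟨_, k, rfl⟩, hk⟩ := h2
  refine ⟨k + 1, hred _ (Ideal.mul_mem_right _ _ ?_) ⟨m + 1, ?_⟩⟩
  · rw [pow_succ]
    exact Ideal.mul_mem_left _ _ (mem_irrelevant_of_pos 𝒜 hd hf)
  · change f ^ k * a ^ m = 0 at hk
    calc (f ^ (k + 1) * a) ^ (m + 1)
        = f ^ k * a ^ m * (f ^ (k * m + m + 1) * a) := by ring
      _ = 0 := by rw [hk, zero_mul]

lemma proj_isReduced (hred : ∀ f ∈ (irrelevant 𝒜).toIdeal, IsNilpotent f → f = 0) :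
    AlgebraicGeometry.IsReduced (Proj 𝒜) := by
  have : ∀ i, AlgebraicGeometry.IsReduced ((Proj.affineOpenCover 𝒜).openCover.X i) := fun i => by
    have := away_isReduced 𝒜 hred i.1.2 i.2.2
    exact inferInstanceAs (AlgebraicGeometry.IsReduced (Spec (CommRingCat.of (Away 𝒜 (i.2 : A)))))
  exact IsReduced.of_openCover (Proj 𝒜) (Proj.affineOpenCover 𝒜).openCover

set_option backward.isDefEq.respectTransparency.types false in
/-- `D₊(g) ⟶ Proj` is affine. -/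
lemma basicOpen_ι_isAffineHom {d : ℕ} (hd : 0 < d) {g : A} (hg : g ∈ 𝒜 d) :
    IsAffineHom (Proj.basicOpen 𝒜 g).ι := by
  refine (IsZariskiLocalAtTarget.iff_of_iSup_eq_top (P := (@IsAffineHom.{u} : MorphismProperty Scheme.{u}))
    (fun i : (Proj.affineOpenCover 𝒜).I₀ => Proj.basicOpen 𝒜 (i.2 : A)) ?_).mpr fun i => ?_
  · rw [← (Proj.affineOpenCover 𝒜).openCover.iSup_opensRange]
    refine iSup_congr fun j => ?_
    exact (Proj.opensRange_awayι 𝒜 _ j.2.2 j.1.2).symm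
  · have : IsAffine ((Proj.basicOpen 𝒜 (i.2 : A)).toScheme) :=
      Proj.isAffineOpen_basicOpen 𝒜 _ i.2.2 i.1.2
    refine (HasAffineProperty.iff_of_isAffine (P := @IsAffineHom) (f := (Proj.basicOpen 𝒜 g).ι ∣_ _)).mpr ?_
    refine ((Proj.basicOpen 𝒜 g).ι.isAffineOpen_iff_of_isOpenImmersion).mp ?_
    rw [Scheme.Hom.image_preimage_eq_opensRange_inf, Scheme.Opens.opensRange_ι,
      ← Proj.basicOpen_mul]
    exact Proj.isAffineOpen_basicOpen 𝒜 _ (SetLike.mul_mem_graded hg i.2.2)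
      (Nat.add_pos_left hd _)

lemma awayMap_injective_of_nonZeroDivisor {d e : ℕ} {f g : A} (hf : f ∈ 𝒜 d) (hg : g ∈ 𝒜 e)
    (hnz : g ∈ nonZeroDivisors A) {x : A} (hx : x = f * g) :
    Function.Injective (awayMap 𝒜 hg hx) := by
  refine (injective_iff_map_eq_zero _).mpr fun y hy => away_eq_zero_of_forall 𝒜 hf y
    fun n a ha hya => ?_
  rw [hya, awayMap_mk 𝒜 hg hx n hf a ha, away_mk_eq_zero_iff] at hy
  obtain ⟨k, hk⟩ := hy
  refine ⟨k, (mul_right_mem_nonZeroDivisors_eq_zero_iff (pow_mem hnz (k + n))).mp ?_⟩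
  rw [← hk, hx]; ring

lemma ker_basicOpen_ι {d : ℕ} (hd : 0 < d) {g : A} (hg : g ∈ 𝒜 d) (hnz : g ∈ nonZeroDivisors A) :
    (Proj.basicOpen 𝒜 g).ι.ker = ⊥ := by
  have := basicOpen_ι_isAffineHom 𝒜 hd hg
  refine Scheme.IdealSheafData.ext_of_iSup_eq_top
    (fun i : (Proj.affineOpenCover 𝒜).I₀ =>
      ⟨Proj.basicOpen 𝒜 (i.2 : A), Proj.isAffineOpen_basicOpen 𝒜 _ i.2.2 i.1.2⟩) ?_ fun i => ?_
  · rw [← (Proj.affineOpenCover 𝒜).openCover.iSup_opensRange]
    refine iSup_congr fun j => ?_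
    exact (Proj.opensRange_awayι 𝒜 _ j.2.2 j.1.2).symm
  · simp only [Scheme.Hom.ker_apply, Scheme.IdealSheafData.ideal_bot, Pi.bot_apply,
      ← RingHom.injective_iff_ker_eq_bot]
    let x := (i.2 : A) * g
    have hle : Proj.basicOpen 𝒜 x ≤
        (Proj.basicOpen 𝒜 g).ι ''ᵁ ((Proj.basicOpen 𝒜 g).ι ⁻¹ᵁ Proj.basicOpen 𝒜 (i.2 : A)) := by
      rw [Scheme.Hom.image_preimage_eq_opensRange_inf, Scheme.Opens.opensRange_ι,
        ← Proj.basicOpen_mul, mul_comm g]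
    intro s t hst
    obtain ⟨s', rfl⟩ := (ConcreteCategory.bijective_of_isIso
      (Proj.basicOpenIsoAway 𝒜 (i.2 : A) i.2.2 i.1.2).hom).2 s
    obtain ⟨t', rfl⟩ := (ConcreteCategory.bijective_of_isIso
      (Proj.basicOpenIsoAway 𝒜 (i.2 : A) i.2.2 i.1.2).hom).2 t
    rw [Scheme.Opens.ι_app] at hst
    have h2 := congrArg ((Proj 𝒜).presheaf.map (homOfLE hle).op) hst
    change (((Proj.awayToSection 𝒜 (i.2 : A)) ≫ (Proj 𝒜).presheaf.map _) ≫
        (Proj 𝒜).presheaf.map _) s' =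
      (((Proj.awayToSection 𝒜 (i.2 : A)) ≫ (Proj 𝒜).presheaf.map _) ≫
        (Proj 𝒜).presheaf.map _) t' at h2
    rw [Category.assoc, ← Functor.map_comp] at h2
    have h3 := Proj.awayMap_awayToSection 𝒜 (f := (i.2 : A)) hg (x := x) rfl
    have h4 : awayMap 𝒜 hg rfl s' = awayMap 𝒜 hg rfl t' := by
      have hb : Function.Injective (Proj.awayToSection 𝒜 x) :=
        (ConcreteCategory.bijective_of_isIso (Proj.basicOpenIsoAway 𝒜 x
          (SetLike.mul_mem_graded i.2.2 hg) (Nat.add_pos_left i.1.2 _)).hom).1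
      apply hb
      change (CommRingCat.ofHom (awayMap 𝒜 hg rfl) ≫ Proj.awayToSection 𝒜 x) s' =
        (CommRingCat.ofHom (awayMap 𝒜 hg rfl) ≫ Proj.awayToSection 𝒜 x) t'
      rw [h3]
      exact h2
    rw [awayMap_injective_of_nonZeroDivisor 𝒜 i.2.2 hg hnz rfl h4]

end

variable (φ : 𝒜 →+*ᵍ ℬ) (hφ : irrelevant ℬ ≤ (irrelevant 𝒜).map φ)

/-- The restriction of `Proj.map` to a standard chart. -/
lemma isPullback_map_awayι {d : ℕ} (hd : 0 < d) (s : A) (hs : s ∈ 𝒜 d) :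
    IsPullback (Proj.awayι ℬ (φ s) (show φ s ∈ ℬ _ from φ.2 hs) hd) (Spec.map (CommRingCat.ofHom (Away.map φ s)))
      (Proj.map φ hφ) (Proj.awayι 𝒜 s hs hd) := by
  refine ((IsOpenImmersion.isPullback _ _ _ _ (Proj.awayι_comp_map φ hφ hd s hs) ?_)).flip
  rw [Proj.opensRange_awayι, Proj.opensRange_awayι]
  exact (Proj.map_preimage_basicOpen φ hφ s).symm

lemma property_pullback_snd {P : MorphismProperty Scheme.{u}} [P.RespectsIso] {d : ℕ} (hd : 0 < d)
    (s : A) (hs : s ∈ 𝒜 d)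
    (H : P (Spec.map (CommRingCat.ofHom (Away.map φ s : Away 𝒜 s →+* Away ℬ (φ s))))) :
    P (pullback.snd (Proj.map φ hφ) (Proj.awayι 𝒜 s hs hd)) := by
  have h := isPullback_map_awayι φ hφ hd s hs
  refine (P.cancel_left_of_respectsIso h.isoPullback.hom _).mp ?_
  rw [h.isoPullback_hom_snd]
  exact H

lemma map_property {P : MorphismProperty Scheme.{u}} [IsZariskiLocalAtTarget P]
    (H : ∀ (d : ℕ) (s : A), 0 < d → s ∈ 𝒜 d →
      P (Spec.map (CommRingCat.ofHom (Away.map φ s : Away 𝒜 s →+* Away ℬ (φ s))))) :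
    P (Proj.map φ hφ) := by
  refine IsZariskiLocalAtTarget.of_openCover (Proj.affineOpenCover 𝒜).openCover fun i => ?_
  exact property_pullback_snd φ hφ i.1.2 (i.2 : A) i.2.2 (H _ _ i.1.2 i.2.2)

set_option backward.isDefEq.respectTransparency.types false in
lemma map_isAffineHom : IsAffineHom (Proj.map φ hφ) :=
  map_property φ hφ fun _ _ _ _ => inferInstance

lemma away_map_surjective {d : ℕ} (hd : 0 < d) {s : A} (hs : s ∈ 𝒜 d)
    (h : ∀ n : ℕ, 0 < n → ∀ b ∈ ℬ n, ∃ a ∈ 𝒜 n, φ a = b) :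
    Function.Surjective (Away.map φ s : Away 𝒜 s →+* Away ℬ (φ s)) := by
  intro y
  obtain ⟨n, b, hb, rfl⟩ := Away.mk_surjective ℬ (show φ s ∈ ℬ _ from φ.2 hs) y
  obtain ⟨a, ha, hab⟩ := h ((n + 1) * d) (Nat.mul_pos (by omega) hd) (b * φ s) (by
    have := SetLike.mul_mem_graded hb (show φ s ∈ ℬ _ from φ.2 hs)
    rwa [Nat.succ_mul, ← smul_eq_mul])
  refine ⟨Away.mk 𝒜 hs (n + 1) a (by simpa using ha), ?_⟩
  ext
  rw [Away.map_mk φ s hs, Away.val_mk, Away.val_mk, Localization.mk_eq_mk_iff,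
    Localization.r_iff_exists]
  exact ⟨1, by simp [hab]; ring⟩

lemma away_map_injective {d : ℕ} (hd : 0 < d) {s : A} (hs : s ∈ 𝒜 d)
    (h : ∀ n : ℕ, 0 < n → ∀ a ∈ 𝒜 n, φ a = 0 → a = 0) :
    Function.Injective (Away.map φ s : Away 𝒜 s →+* Away ℬ (φ s)) := by
  refine (injective_iff_map_eq_zero _).mpr fun y hy => away_eq_zero_of_forall 𝒜 hs y
    fun n a ha hya => ?_
  rw [hya, Away.map_mk φ s hs, away_mk_eq_zero_iff] at hy
  obtain ⟨k, hk⟩ := hy
  refine ⟨k + 1, h ((k + 1) * d + n * d) (Nat.add_pos_left (Nat.mul_pos (by omega) hd) _) _ ?_ ?_⟩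
  · have := SetLike.mul_mem_graded (SetLike.pow_mem_graded (k + 1) hs) ha
    simpa using this
  · rw [map_mul, map_pow, pow_succ, mul_right_comm, hk, zero_mul]

set_option backward.isDefEq.respectTransparency.types false in
lemma map_isClosedImmersion (h : ∀ n : ℕ, 0 < n → ∀ b ∈ ℬ n, ∃ a ∈ 𝒜 n, φ a = b) :
    IsClosedImmersion (Proj.map φ hφ) :=
  map_property φ hφ fun _ _ hd hs =>
    IsClosedImmersion.spec_of_surjective _ (away_map_surjective φ hd hs h)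

set_option backward.isDefEq.respectTransparency.types false in
lemma map_isIso (hbij : ∀ n : ℕ, 0 < n → Set.BijOn φ (𝒜 n) (ℬ n)) : IsIso (Proj.map φ hφ) := by
  refine map_property φ hφ (P := MorphismProperty.isomorphisms Scheme) fun _ s hd hs => ?_
  have : IsIso (CommRingCat.ofHom (Away.map φ s : Away 𝒜 s →+* Away ℬ (φ s))) := by
    rw [ConcreteCategory.isIso_iff_bijective]
    exact ⟨away_map_injective φ hd hs fun n hn a ha h =>
        (hbij n hn).injOn ha (zero_mem (𝒜 n)) (h.trans (map_zero φ).symm),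
      away_map_surjective φ hd hs fun n hn b hb => (hbij n hn).surjOn hb⟩
  exact inferInstanceAs (IsIso (Spec.map _))

lemma exists_preimage_homogeneous (hsurj : Function.Surjective φ) (n : ℕ) {b : B} (hb : b ∈ ℬ n) :
    ∃ a ∈ 𝒜 n, φ a = b := by
  obtain ⟨a, rfl⟩ := hsurj b
  refine ⟨decompose 𝒜 a n, (decompose 𝒜 a n).2, ?_⟩
  exact (GradedRingHom.map_directSumDecompose (𝒜 := 𝒜) (ℬ := ℬ) φ (x := a) (i := n)).trans (decompose_of_mem_same ℬ hb)

lemma map_denseRange (hker : ∀ a : A, φ a = 0 → IsNilpotent a) :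
    DenseRange (Proj.map φ hφ).base := by
  intro x
  refine mem_closure_iff.mpr fun U hU hxU => ?_
  obtain ⟨d, g, hd, hg, hgx, hgU⟩ := exists_homogeneous_basicOpen_subset 𝒜 hU hxU
  have hne : Proj.basicOpen ℬ (φ g) ≠ ⊥ := by
    refine fun hb => ?_
    replace hb := (basicOpen_eq_bot_iff ℬ (mem_irrelevant_of_pos ℬ hd (show φ g ∈ ℬ _ from φ.2 hg))).mp hb
    revert hb
    rintro ⟨k, hk⟩
    obtain ⟨j, hj⟩ := hker (g ^ k) (by rw [map_pow, hk])
    exact hgx (mem_of_isNilpotent 𝒜 ⟨k * j, by rwa [pow_mul]⟩ x)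
  obtain ⟨y, hy⟩ := (TopologicalSpace.Opens.ne_bot_iff_nonempty _).mp hne
  exact ⟨_, hgU hy, y, rfl⟩

end Groth.Agent.ProjLib
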