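import Groth.Agent.ProjLib.RelProjBasics

/-!
# Morphisms of relative `Proj` given by graded homomorphisms
-/

set_option linter.unusedSectionVars false

namespace Groth.Agent.ProjLib

open CategoryTheory CategoryTheory.Limits AlgebraicGeometry TopologicalSpace Opposite
open scoped HomogeneousIdeal

universe u

variable {S : Scheme.{u}} {𝒜 ℬ : RelProj.QCGrAlg S} (φ : 𝒜.toQCAlg ⟶ ℬ.toQCAlg)
  (hφ : RelProj.IsGradedHom φ)

lemma gradedHomAt_res {U V : S.Opens} (hU : IsAffineOpen U) (hV : IsAffineOpen V) (i : V ≤ U) :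
    (ℬ.res hU hV i).comp (RelProj.gradedHomAt φ hφ U hU) =
      (RelProj.gradedHomAt φ hφ V hV).comp (𝒜.res hU hV i) :=
  GradedRingHom.ext fun x => (ConcreteCategory.congr_hom (φ.hom.naturality (homOfLE i).op) x).symm

lemma gradedHomAt_strZero (U : S.Opens) (hU : IsAffineOpen U) :
    𝒜.strZero U hU ≫ CommRingCat.ofHom (degZeroMap (RelProj.gradedHomAt φ hφ U hU)) =
      ℬ.strZero U hU := by
  ext r
  exact ConcreteCategory.congr_hom (congrArg (fun h => h.app (op U)) φ.comm) r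

variable (hirr : ∀ (U : S.Opens) (hU : IsAffineOpen U),
  (ℬ.deg U hU)₊ ≤ ((𝒜.deg U hU)₊).map (RelProj.gradedHomAt φ hφ U hU))

/-- `Proj` of `φ(U)`. -/
noncomputable def chartMap (U : S.Opens) (hU : IsAffineOpen U) :
    Proj (ℬ.deg U hU) ⟶ Proj (𝒜.deg U hU) :=
  Proj.map (RelProj.gradedHomAt φ hφ U hU) (hirr U hU)

lemma chartMap_res (U : S.Opens) (hU : IsAffineOpen U) (r : Γ(S, U)) :
    Proj.map (ℬ.res hU (hU.basicOpen r) (S.basicOpen_le r)) (ℬ.irrelevant_le_map U hU r) ≫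
        chartMap φ hφ hirr U hU =
      chartMap φ hφ hirr (S.basicOpen r) (hU.basicOpen r) ≫
        Proj.map (𝒜.res hU (hU.basicOpen r) (S.basicOpen_le r)) (𝒜.irrelevant_le_map U hU r) := by
  rw [chartMap, chartMap, ← Proj.map_comp, ← Proj.map_comp]
  exact projMap_congr (gradedHomAt_res φ hφ hU (hU.basicOpen r) (S.basicOpen_le r)) _

@[reassoc]
lemma chartMap_chartBase (U : S.Opens) (hU : IsAffineOpen U) :
    chartMap φ hφ hirr U hU ≫ chartBase 𝒜 U hU = chartBase ℬ U hU := by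
  simp only [chartMap, chartBase]
  rw [← Category.assoc, map_toSpecZero, Category.assoc, ← Spec.map_comp_assoc,
    gradedHomAt_strZero φ hφ U hU]

variable {PA PB : Scheme.{u}} {pA : PA ⟶ S} {pB : PB ⟶ S}
  {chartA : ∀ (U : S.Opens) (hU : IsAffineOpen U),
    (((pA ⁻¹ᵁ U : PA.Opens) : Scheme.{u}) ≅ Proj (𝒜.deg U hU))}
  {chartB : ∀ (U : S.Opens) (hU : IsAffineOpen U),
    (((pB ⁻¹ᵁ U : PB.Opens) : Scheme.{u}) ≅ Proj (ℬ.deg U hU))}
  (hA : RelProj.IsRelProj 𝒜 pA chartA) (hB : RelProj.IsRelProj ℬ pB chartB)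

include hA hB in
lemma relProjMap_compat (U : S.Opens) (hU : IsAffineOpen U) (r : Γ(S, U)) :
    PB.homOfLE (pB.preimage_mono (S.basicOpen_le r)) ≫
        (chartB U hU).hom ≫ chartMap φ hφ hirr U hU ≫ (chartA U hU).inv ≫ (pA ⁻¹ᵁ U).ι =
      (chartB (S.basicOpen r) (hU.basicOpen r)).hom ≫
        chartMap φ hφ hirr (S.basicOpen r) (hU.basicOpen r) ≫
        (chartA (S.basicOpen r) (hU.basicOpen r)).inv ≫ (pA ⁻¹ᵁ S.basicOpen r).ι := by
  rw [← Category.assoc, hB.chart_res, Category.assoc, ← Category.assoc (Proj.map _ _),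
    chartMap_res φ hφ hirr U hU r, Category.assoc]
  congr 2
  rw [Iso.eq_inv_comp, ← Category.assoc, ← hA.chart_res, Category.assoc, Iso.hom_inv_id_assoc,
    Scheme.homOfLE_ι]

include hA hB in
lemma existsUnique_relProjMap :
    ∃! h : PB ⟶ PA, RelProj.IsRelProjMap φ hφ hirr chartA chartB h :=
  existsUnique_glueAffine pB
    (fun U hU => (chartB U hU).hom ≫ chartMap φ hφ hirr U hU ≫ (chartA U hU).inv ≫ (pA ⁻¹ᵁ U).ι)
    (relProjMap_compat φ hφ hirr hA hB)

variable {h : PB ⟶ PA} (hh : RelProj.IsRelProjMap φ hφ hirr chartA chartB h)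

include hA hB hh in
lemma relProjMap_comp : h ≫ pA = pB := by
  refine hom_ext_affine pB fun U hU => ?_
  rw [← Category.assoc, hh U hU]
  simp only [Category.assoc]
  rw [← morphismRestrict_ι, chart_morphismRestrict hA U hU]
  simp only [Category.assoc, Iso.inv_hom_id_assoc]
  erw [chartMap_chartBase_assoc φ hφ hirr U hU U.ι]
  rw [← Category.assoc, ← chart_morphismRestrict hB U hU, morphismRestrict_ι]

include hA hB hh in
/-- A property local at the target holds for `h` if it holds for all the chart maps. -/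
lemma relProjMap_property {Q : MorphismProperty Scheme.{u}} [IsZariskiLocalAtTarget Q]
    (H : ∀ (U : S.Opens) (hU : IsAffineOpen U), Q (chartMap φ hφ hirr U hU)) : Q h := by
  refine IsZariskiLocalAtTarget.of_iSup_eq_top (fun U : S.affineOpens => pA ⁻¹ᵁ U.1)
    (iSup_preimage_affine pA) fun U => ?_
  obtain ⟨U, hU⟩ := U
  have e : h ⁻¹ᵁ pA ⁻¹ᵁ U = pB ⁻¹ᵁ U := by
    rw [← Scheme.Hom.comp_preimage, relProjMap_comp φ hφ hirr hA hB hh]
  have key : h ∣_ pA ⁻¹ᵁ U = (PB.isoOfEq e).hom ≫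
      (chartB U hU).hom ≫ chartMap φ hφ hirr U hU ≫ (chartA U hU).inv := by
    rw [← cancel_mono (pA ⁻¹ᵁ U).ι, morphismRestrict_ι]
    simp only [Category.assoc]
    refine Eq.trans ?_ (congrArg ((PB.isoOfEq e).hom ≫ ·) (hh U hU))
    exact (Scheme.isoOfEq_hom_ι_assoc PB e h).symm
  simp only
  rw [key, Q.cancel_left_of_respectsIso, Q.cancel_left_of_respectsIso,
    Q.cancel_right_of_respectsIso]
  exact H U hU

end Groth.Agent.ProjLib
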