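import Groth.Agent.ProjLib.DomMap
import Groth.Agent.RelConeLib.PolyAway
import Mathlib.Algebra.Polynomial.Laurent

/-!
# Charts at an element of degree one: `A_f = A_(f)[T,T⁻¹]` and `A[z]_(f) = A_(f)[T]`
-/

set_option linter.unusedSectionVars false
set_option autoImplicit false

namespace Groth.Agent.ProjLib

open HomogeneousLocalization DirectSum Graded
open scoped LaurentPolynomial

universe u

variable {σ A : Type u} [CommRing A] [SetLike σ A] [AddSubgroupClass σ A] {𝒜 : ℕ → σ}
  [GradedRing 𝒜] {f : A} (hf : f ∈ 𝒜 1)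

/-- `a / f ^ i` for `a` of degree `i`. -/
noncomputable def degOneFrac (i : ℕ) (a : 𝒜 i) : Away 𝒜 f :=
  Away.mk 𝒜 hf i a.1 (by rw [smul_eq_mul, mul_one]; exact a.2)

theorem val_degOneFrac (i : ℕ) (a : 𝒜 i) :
    (degOneFrac hf i a).val =
      Localization.mk a.1 ⟨f ^ i, pow_mem (Submonoid.mem_powers f) i⟩ := Away.val_mk ..

/-- The components of `a ↦ ∑ (a_i / f^i) T^i`. -/
noncomputable def laurentComp (i : ℕ) : 𝒜 i →+ LaurentPolynomial (Away 𝒜 f) where
  toFun a := LaurentPolynomial.C (degOneFrac hf i a) * LaurentPolynomial.T i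
  map_zero' := by
    have : degOneFrac hf i (0 : 𝒜 i) = 0 := val_injective _ (by
      rw [val_degOneFrac, val_zero, ZeroMemClass.coe_zero, Localization.mk_zero])
    rw [this, map_zero, zero_mul]
  map_add' a b := by
    have : degOneFrac hf i (a + b) = degOneFrac hf i a + degOneFrac hf i b := val_injective _ (by
      rw [val_add, val_degOneFrac, val_degOneFrac, val_degOneFrac, Localization.add_mk_self]; rfl)
    rw [this, map_add, add_mul]

/-- `a ↦ ∑ (a_i / f^i) T^i`. -/
noncomputable def toLaurent : A →+* LaurentPolynomial (Away 𝒜 f) :=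
  (DirectSum.toSemiring (laurentComp hf)
    (by
      show LaurentPolynomial.C (degOneFrac hf 0 _) * LaurentPolynomial.T 0 = 1
      have : degOneFrac hf 0 (GradedMonoid.GOne.one (A := fun i ↦ 𝒜 i)) = 1 := val_injective _ (by
        rw [val_degOneFrac, val_one]
        refine Eq.trans ?_ Localization.mk_one
        congr 1
        exact Subtype.ext (show f ^ 0 = 1 from pow_zero f))
      rw [this, map_one, LaurentPolynomial.T_zero, mul_one])
    (fun {i j} a b ↦ by
      show LaurentPolynomial.C (degOneFrac hf (i + j) _) * LaurentPolynomial.T ((i + j : ℕ) : ℤ) =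
        (LaurentPolynomial.C (degOneFrac hf i a) * LaurentPolynomial.T i) *
          (LaurentPolynomial.C (degOneFrac hf j b) * LaurentPolynomial.T j)
      have : degOneFrac hf (i + j) (GradedMonoid.GMul.mul (A := fun k ↦ 𝒜 k) a b) =
          degOneFrac hf i a * degOneFrac hf j b := val_injective _ (by
        rw [val_mul, val_degOneFrac, val_degOneFrac, val_degOneFrac, Localization.mk_mul]
        congr 1
        exact Subtype.ext (show f ^ (i + j) = f ^ i * f ^ j from pow_add f i j))
      rw [this, map_mul, Nat.cast_add, LaurentPolynomial.T_add]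
      ring)).comp (decomposeRingEquiv 𝒜).toRingHom

theorem toLaurent_of_mem {i : ℕ} {a : A} (ha : a ∈ 𝒜 i) :
    toLaurent hf a = LaurentPolynomial.C (degOneFrac hf i ⟨a, ha⟩) * LaurentPolynomial.T i := by
  rw [toLaurent, RingHom.comp_apply]
  show DirectSum.toSemiring _ _ _ (decompose 𝒜 a) = _
  rw [decompose_of_mem 𝒜 ha, DirectSum.toSemiring_of]
  rfl

theorem toLaurent_self : toLaurent hf f = LaurentPolynomial.T 1 := by
  rw [toLaurent_of_mem hf hf]
  have : degOneFrac hf 1 ⟨f, hf⟩ = 1 := val_injective _ (by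
    rw [val_degOneFrac, val_one]
    convert Localization.mk_self (⟨f, Submonoid.mem_powers f⟩ : Submonoid.powers f) using 2
    exact Subtype.ext (pow_one f))
  rw [this, map_one, one_mul, Nat.cast_one]

theorem isUnit_toLaurent_self : IsUnit (toLaurent hf f) := by
  rw [toLaurent_self]; exact LaurentPolynomial.isUnit_T 1

/-- `A_f → A_(f)[T,T⁻¹]`. -/
noncomputable def locToLaurent : Localization.Away f →+* LaurentPolynomial (Away 𝒜 f) :=
  IsLocalization.Away.lift f (isUnit_toLaurent_self hf)

/-- `f` as a unit of `A_f`. -/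
noncomputable def fUnit : (Localization.Away f)ˣ := (IsLocalization.Away.algebraMap_isUnit f).unit

/-- `A_(f)[T,T⁻¹] → A_f`. -/
noncomputable def laurentToLoc : LaurentPolynomial (Away 𝒜 f) →+* Localization.Away f :=
  LaurentPolynomial.eval₂ (algebraMap (Away 𝒜 f) (Localization.Away f)) (fUnit (f := f))

theorem laurentToLoc_C (q : Away 𝒜 f) : laurentToLoc (LaurentPolynomial.C q) = q.val := by
  rw [laurentToLoc, LaurentPolynomial.eval₂_C, HomogeneousLocalization.algebraMap_apply]

theorem laurentToLoc_comp_toLaurent :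
    laurentToLoc.comp (toLaurent hf) = algebraMap A (Localization.Away f) := by
  refine RingHom.ext fun a ↦ ?_
  classical
  rw [← sum_support_decompose 𝒜 a, map_sum, map_sum]
  refine Finset.sum_congr rfl fun i _ ↦ ?_
  rw [RingHom.comp_apply, toLaurent_of_mem hf (decompose 𝒜 a i).2, map_mul, laurentToLoc_C,
    laurentToLoc, LaurentPolynomial.eval₂_T, val_degOneFrac, zpow_natCast, Units.val_pow_eq_pow_val,
    fUnit, IsUnit.unit_spec, Localization.mk_eq_mk', ← map_pow]
  exact IsLocalization.mk'_spec (Localization.Away f) _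
    (⟨f ^ i, pow_mem (Submonoid.mem_powers f) i⟩ : Submonoid.powers f)

/-- `A_f = A_(f)[T,T⁻¹]`. -/
noncomputable def laurentEquiv : LaurentPolynomial (Away 𝒜 f) ≃+* Localization.Away f :=
  RingEquiv.ofRingHom laurentToLoc (locToLaurent hf)
    (by
      refine IsLocalization.ringHom_ext (Submonoid.powers f) ?_
      rw [RingHom.comp_assoc, locToLaurent, IsLocalization.Away.lift_comp, laurentToLoc_comp_toLaurent,
        RingHom.id_comp])
    (by
      have hT : ∀ n : ℤ, locToLaurent hf ((fUnit (f := f) ^ n : (Localization.Away f)ˣ) : Localization.Away f) =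
          LaurentPolynomial.T n := by
        intro n
        have h1 : Units.map (locToLaurent hf).toMonoidHom (fUnit (f := f)) =
            (LaurentPolynomial.isUnit_T (1 : ℤ)).unit := Units.ext (by
          show locToLaurent hf (fUnit (f := f)).val = (LaurentPolynomial.isUnit_T (1 : ℤ)).unit.val
          rw [fUnit, IsUnit.unit_spec, locToLaurent, IsLocalization.Away.lift_eq, toLaurent_self,
            IsUnit.unit_spec])
        have h2 := congrArg Units.val ((map_zpow (Units.map (locToLaurent hf).toMonoidHom) (fUnit (f := f)) n).trans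
          (congrArg (· ^ n) h1))
        refine h2.trans ?_
        clear h2
        induction n with
        | zero => simp
        | succ k ih => rw [zpow_add_one, Units.val_mul, ih, IsUnit.unit_spec, ← LaurentPolynomial.T_add]
        | pred k ih =>
          rw [zpow_sub_one, Units.val_mul, ih]
          refine (Units.mul_inv_eq_iff_eq_mul _).mpr ?_
          rw [IsUnit.unit_spec, ← LaurentPolynomial.T_add, sub_add_cancel]
      refine AddMonoidAlgebra.ringHom_ext (fun q ↦ ?_) (fun n ↦ ?_)
      · show locToLaurent hf (laurentToLoc (LaurentPolynomial.C q)) = LaurentPolynomial.C q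
        obtain ⟨n, a, ha, rfl⟩ := Away.mk_surjective 𝒜 hf q
        rw [laurentToLoc_C, Away.val_mk, Localization.mk_eq_mk', locToLaurent, IsLocalization.Away.lift,
          IsLocalization.lift_mk', Units.mul_inv_eq_iff_eq_mul, IsUnit.coe_liftRight]
        show toLaurent hf a = _ * toLaurent hf (f ^ n)
        rw [map_pow, toLaurent_self, LaurentPolynomial.T_pow, mul_one,
          toLaurent_of_mem hf (show a ∈ 𝒜 n by simpa using ha)]
        rfl
      · show locToLaurent hf (laurentToLoc (LaurentPolynomial.T n)) = LaurentPolynomial.T n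
        rw [laurentToLoc, LaurentPolynomial.eval₂_T]
        exact hT n)

theorem laurentEquiv_comp_C :
    (laurentEquiv hf).toRingHom.comp LaurentPolynomial.C = algebraMap (Away 𝒜 f) (Localization.Away f) :=
  RingHom.ext fun q ↦ (laurentToLoc_C q).trans (HomogeneousLocalization.algebraMap_apply q).symm

section poly

variable {τ B : Type u} [CommRing B] [SetLike τ B] [AddSubgroupClass τ B] {ℬ : ℕ → τ} [GradedRing ℬ]
  (ψ : 𝒜 →+*ᵍ ℬ) {z : B} (hz : z ∈ ℬ 1)
  (hbij : Function.Bijective (Polynomial.eval₂RingHom ψ.toRingHom z))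

/-- `a ↦ ∑ a_i / f^i`. -/
noncomputable def dehomOne : A →+* Away 𝒜 f :=
  (LaurentPolynomial.eval₂ (RingHom.id _) 1).comp (toLaurent hf)

theorem dehomOne_of_mem {i : ℕ} {a : A} (ha : a ∈ 𝒜 i) : dehomOne hf a = degOneFrac hf i ⟨a, ha⟩ := by
  rw [dehomOne, RingHom.comp_apply, toLaurent_of_mem hf ha, map_mul, LaurentPolynomial.eval₂_C,
    LaurentPolynomial.eval₂_T, one_zpow, Units.val_one, mul_one, RingHom.id_apply]

theorem dehomOne_self : dehomOne hf f = 1 := by
  rw [dehomOne, RingHom.comp_apply, toLaurent_self, LaurentPolynomial.eval₂_T, one_zpow, Units.val_one]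

/-- `z / ψ f`. -/
noncomputable def zFrac : Away ℬ (ψ f) :=
  Away.mk ℬ (map_mem ψ hf) 1 z (by rw [smul_eq_mul, mul_one]; exact hz)

/-- `A_(f)[T] → ℬ_(ψ f)`. -/
noncomputable def polyToAway : Polynomial (Away 𝒜 f) →+* Away ℬ (ψ f) :=
  Polynomial.eval₂RingHom (Away.map ψ f) (zFrac hf ψ hz)

/-- `B → A_(f)[T]`. -/
noncomputable def toPoly : B →+* Polynomial (Away 𝒜 f) :=
  (Polynomial.mapRingHom (dehomOne hf)).comp (RingEquiv.ofBijective _ hbij).symm.toRingHom

theorem toPoly_ψ (a : A) : toPoly hf ψ hbij (ψ a) = Polynomial.C (dehomOne hf a) := by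
  have e : (RingEquiv.ofBijective _ hbij).symm (ψ a) = Polynomial.C a :=
    (RingEquiv.symm_apply_eq _).mpr (by simp)
  show Polynomial.map (dehomOne hf) ((RingEquiv.ofBijective _ hbij).symm (ψ a)) = _
  rw [e, Polynomial.map_C]

theorem toPoly_z : toPoly hf ψ hbij z = Polynomial.X := by
  have e : (RingEquiv.ofBijective _ hbij).symm z = Polynomial.X :=
    (RingEquiv.symm_apply_eq _).mpr (by simp)
  show Polynomial.map (dehomOne hf) ((RingEquiv.ofBijective _ hbij).symm z) = _
  rw [e, Polynomial.map_X]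

theorem isUnit_toPoly_ψf : IsUnit (toPoly hf ψ hbij (ψ f)) := by
  rw [toPoly_ψ, dehomOne_self, map_one]; exact isUnit_one

/-- `ℬ_(ψ f) → A_(f)[T]`. -/
noncomputable def awayToPoly : Away ℬ (ψ f) →+* Polynomial (Away 𝒜 f) :=
  (IsLocalization.Away.lift (ψ f) (isUnit_toPoly_ψf hf ψ hbij)).comp
    (algebraMap (Away ℬ (ψ f)) (Localization.Away (ψ f)))

theorem awayToPoly_mk (n : ℕ) (b : B) (hb : b ∈ ℬ (n • 1)) :
    awayToPoly hf ψ hbij (Away.mk ℬ (map_mem ψ hf) n b hb) = toPoly hf ψ hbij b := by
  rw [awayToPoly, RingHom.comp_apply, HomogeneousLocalization.algebraMap_apply, Away.val_mk,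
    Localization.mk_eq_mk', IsLocalization.Away.lift, IsLocalization.lift_mk',
    Units.mul_inv_eq_iff_eq_mul, IsUnit.coe_liftRight]
  show toPoly hf ψ hbij b = _ * toPoly hf ψ hbij (ψ f ^ n)
  rw [map_pow, toPoly_ψ, dehomOne_self, map_one, one_pow, mul_one]

/-- `ℬ_(ψ f) = A_(f)[T]` for `ℬ = A[z]`. -/
noncomputable def polyEquivAway : Polynomial (Away 𝒜 f) ≃+* Away ℬ (ψ f) :=
  RingEquiv.ofRingHom (polyToAway hf ψ hz) (awayToPoly hf ψ hbij)
    (by
      refine RingHom.ext fun q ↦ ?_
      obtain ⟨n, b, hb, rfl⟩ := Away.mk_surjective ℬ (map_mem ψ hf) q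
      rw [RingHom.comp_apply, awayToPoly_mk, RingHom.id_apply]
      obtain ⟨x, hx, rfl⟩ := RelConeLib.exists_decomp ψ hz hbij (show b ∈ ℬ n by simpa using hb)
      rw [map_sum, map_sum]
      apply val_injective
      rw [← HomogeneousLocalization.algebraMap_apply, map_sum, Away.val_mk, Localization.mk_sum]
      refine Finset.sum_congr rfl fun i hi ↦ ?_
      obtain ⟨k, rfl⟩ := Nat.exists_eq_add_of_le (Nat.lt_succ_iff.mp (Finset.mem_range.mp hi))
      rw [Nat.add_sub_cancel_left, map_mul, map_pow, toPoly_ψ, toPoly_z, map_mul, map_pow, polyToAway,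
        Polynomial.coe_eval₂RingHom, Polynomial.eval₂_C, Polynomial.eval₂_X, dehomOne_of_mem hf (hx i),
        map_mul, map_pow, HomogeneousLocalization.algebraMap_apply, HomogeneousLocalization.algebraMap_apply,
        degOneFrac, Away.map_mk, zFrac, Away.val_mk, Away.val_mk, Localization.mk_pow, Localization.mk_mul]
      congr 1
      exact Subtype.ext (by simp [pow_add]))
    (by
      refine Polynomial.ringHom_ext (fun q ↦ ?_) ?_
      · obtain ⟨n, a, ha, rfl⟩ := Away.mk_surjective 𝒜 hf q
        rw [RingHom.comp_apply, polyToAway, Polynomial.coe_eval₂RingHom, Polynomial.eval₂_C,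
          Away.map_mk, awayToPoly_mk, toPoly_ψ, RingHom.id_apply,
          dehomOne_of_mem hf (show a ∈ 𝒜 n by simpa using ha)]
        rfl
      · rw [RingHom.comp_apply, polyToAway, Polynomial.coe_eval₂RingHom, Polynomial.eval₂_X, zFrac,
          awayToPoly_mk, toPoly_z, RingHom.id_apply])

theorem polyEquivAway_comp_C :
    (polyEquivAway hf ψ hz hbij).toRingHom.comp Polynomial.C = Away.map ψ f :=
  RingHom.ext fun q ↦ Polynomial.eval₂_C _ _

end poly

end Groth.Agent.ProjLib
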