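import Groth.Agent.ProjLib.GradedGen

/-!
# Finiteness of Veronese subrings
-/

set_option linter.unusedSectionVars false

namespace Groth.Agent.ProjLib

open DirectSum HomogeneousIdeal

universe u

variable {R A : Type u} [CommRing R] [CommRing A] [Algebra R A] (𝒜 : ℕ → Submodule R A)
  [GradedAlgebra 𝒜]
variable {B : Type u} [CommRing B] [Algebra R B] (ℬ : ℕ → Submodule R B) [GradedAlgebra ℬ]
  {d : ℕ} (φ : B →ₐ[R] A) (hdeg : ∀ n : ℕ, Submodule.map φ.toLinearMap (ℬ n) = 𝒜 (n * d))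

include hdeg in
lemma veronese_mem {n : ℕ} {b : B} (hb : b ∈ ℬ n) : φ b ∈ 𝒜 (n * d) :=
  (hdeg n).le (Submodule.mem_map_of_mem hb)

include hdeg in
lemma veronese_surj {n : ℕ} {a : A} (ha : a ∈ 𝒜 (n * d)) : ∃ b ∈ ℬ n, φ b = a :=
  (hdeg n).ge ha

/-- The map of degree zero parts. -/
def veroneseZero : ℬ 0 →+* 𝒜 0 where
  toFun b := ⟨φ b, by simpa using veronese_mem 𝒜 ℬ φ hdeg b.2⟩
  map_one' := by ext; simp
  map_mul' x y := by ext; simp
  map_zero' := by ext; simp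
  map_add' x y := by ext; simp

lemma veroneseZero_surjective : Function.Surjective (veroneseZero 𝒜 ℬ φ hdeg) := fun a => by
  obtain ⟨b, hb, h⟩ := veronese_surj 𝒜 ℬ φ hdeg (n := 0) (a := a) (by simpa using a.2)
  exact ⟨⟨b, hb⟩, Subtype.ext h⟩

include hdeg in
lemma veronese_finiteType [Algebra.FiniteType (𝒜 0) A] (hd : 0 < d) (hφ : Function.Injective φ) :
    Algebra.FiniteType (ℬ 0) B := by
  classical
  obtain ⟨s, dg, hdg, hs⟩ := exists_finset_homogeneous_adjoin_eq_top 𝒜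
  let G : Set A := (fun e => e ^ d) '' (s : Set A) ∪
    ((fun r : s → Fin d => ∏ e : s, (e : A) ^ (r e : ℕ)) '' {r | d ∣ ∑ e : s, (r e : ℕ) * dg e})
  have hGfin : G.Finite := (s.finite_toSet.image _).union (Set.toFinite _)
  let GB : Set B := φ ⁻¹' G
  have hGB : GB.Finite := hGfin.preimage hφ.injOn
  have hG : G ⊆ Set.range φ := by
    rintro _ (⟨e, he, rfl⟩ | ⟨r, ⟨q, hq⟩, rfl⟩)
    · obtain ⟨b, _, hb⟩ := veronese_surj 𝒜 ℬ φ hdeg (n := dg e) (a := e ^ d)
        (by simpa [mul_comm] using SetLike.pow_mem_graded d (hdg e he).2)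
      exact ⟨b, hb⟩
    · obtain ⟨b, _, hb⟩ := veronese_surj 𝒜 ℬ φ hdeg (n := q) (a := ∏ e : s, (e : A) ^ (r e : ℕ))
        (by rw [mul_comm q, ← hq]
            exact mem_of_prod_pow 𝒜 _ (fun e : s => (e : A)) (fun e => dg e) _
              fun e _ => (hdg e e.2).2)
      exact ⟨b, hb⟩
  let T := Algebra.adjoin (ℬ 0) GB
  have key : ∀ n : ℕ, ∀ b ∈ ℬ n, b ∈ T := by
    intro n b hb
    obtain ⟨t, ht, htb⟩ : φ b ∈ T.toSubring.toAddSubgroup.toAddSubmonoid.map
        (φ.toRingHom.toAddMonoidHom) := by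
      refine degree_le_of_monomials 𝒜 (fun e he => (hdg e he).2) hs (n * d) _
        (fun c hc a ha => ?_) _ (veronese_mem 𝒜 ℬ φ hdeg hb)
      obtain ⟨c', hc', rfl⟩ := veronese_surj 𝒜 ℬ φ hdeg (n := 0) (a := c) (by simp [hc])
      have hmon : ∏ e ∈ s, e ^ a e ∈ T.toSubring.map φ.toRingHom := by
        have h1 : ∏ e ∈ s, e ^ a e = (∏ e ∈ s, (e ^ d) ^ (a e / d)) *
            ∏ e : s, (e : A) ^ (a e % d) := by
          rw [Finset.prod_coe_sort s (fun e => e ^ (a e % d)), ← Finset.prod_mul_distrib]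
          refine Finset.prod_congr rfl fun e _ => ?_
          rw [← pow_mul, ← pow_add, Nat.div_add_mod]
        rw [h1]
        have hmem : ∀ g ∈ G, g ∈ T.toSubring.map φ.toRingHom := fun g hg => by
          obtain ⟨b, rfl⟩ := hG hg
          exact ⟨b, Algebra.subset_adjoin hg, rfl⟩
        refine mul_mem (prod_mem fun e he => pow_mem (hmem _ (Or.inl ⟨e, he, rfl⟩)) _) (hmem _ ?_)
        refine Or.inr ⟨fun e => ⟨a e % d, Nat.mod_lt _ hd⟩, ?_, rfl⟩
        change d ∣ ∑ e : s, a e % d * dg e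
        rw [Finset.sum_coe_sort s (fun e => a e % d * dg e)]
        have h2 : ∑ e ∈ s, a e % d * dg e + d * ∑ e ∈ s, a e / d * dg e = n * d := by
          rw [← ha, Finset.mul_sum, ← Finset.sum_add_distrib]
          refine Finset.sum_congr rfl fun e _ => ?_
          rw [← mul_assoc, ← add_mul, Nat.mod_add_div]
        exact (Nat.dvd_add_left ⟨_, rfl⟩).mp (h2 ▸ dvd_mul_left d n)
      obtain ⟨m, hm, hmeq⟩ := hmon
      exact ⟨c' * m, T.mul_mem (T.algebraMap_mem ⟨c', hc'⟩) hm, by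
        simp only [RingHom.toAddMonoidHom_eq_coe, AddMonoidHom.coe_coe, map_mul]
        rw [← hmeq]; rfl⟩
    exact hφ htb ▸ ht
  refine ⟨hGB.toFinset, ?_⟩
  rw [Set.Finite.coe_toFinset, _root_.eq_top_iff]
  intro b _
  rw [← sum_support_decompose ℬ b]
  exact sum_mem fun n _ => key n _ (decompose ℬ b n).2

include hdeg in
lemma veronese_isNoetherianRing [IsNoetherianRing A] (hd : 0 < d) (hφ : Function.Injective φ) :
    IsNoetherianRing B := by
  obtain ⟨h0, hft⟩ := (isNoetherianRing_iff_degZero 𝒜).mp inferInstance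
  have hinj : Function.Injective (veroneseZero 𝒜 ℬ φ hdeg) := fun x y h =>
    Subtype.ext (hφ (congrArg Subtype.val h))
  exact (isNoetherianRing_iff_degZero ℬ).mpr ⟨isNoetherianRing_of_ringEquiv _
    (RingEquiv.ofBijective _ ⟨hinj, veroneseZero_surjective 𝒜 ℬ φ hdeg⟩).symm,
    veronese_finiteType 𝒜 ℬ φ hdeg hd hφ⟩

end Groth.Agent.ProjLib
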