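import Mathlib.RingTheory.GradedAlgebra.HomogeneousLocalization
import Mathlib.RingTheory.GradedAlgebra.RingHom
import Mathlib.RingTheory.Ideal.Quotient.Operations
import Mathlib.RingTheory.Polynomial.Basic
import Groth.Agent.ProjLib.Veronese

/-!
# Dehomogenisation, and `Away` for Veronese subrings
-/

set_option linter.unusedSectionVars false

namespace Groth.Agent.ProjLib

open DirectSum HomogeneousLocalization

universe u

variable {R A : Type u} [CommRing R] [CommRing A] [Algebra R A] {𝒜 : ℕ → Submodule R A}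
  [GradedAlgebra 𝒜] {B : Type u} [CommRing B] [Algebra R B] {ℬ : ℕ → Submodule R B}
  [GradedAlgebra ℬ]

/-- A ring homomorphism into a localization with values in the degree zero part. -/
noncomputable def liftVal {X : Type*} [CommRing X] {f : A} (Λ : X →+* Localization.Away f)
    (h : ∀ x, ∃ y : Away 𝒜 f, y.val = Λ x) : X →+* Away 𝒜 f where
  toFun x := (h x).choose
  map_one' := val_injective _ (by rw [(h 1).choose_spec, map_one, val_one])
  map_mul' x y := val_injective _ (by
    rw [(h (x * y)).choose_spec, map_mul, val_mul, (h x).choose_spec, (h y).choose_spec])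
  map_zero' := val_injective _ (by rw [(h 0).choose_spec, map_zero, val_zero])
  map_add' x y := val_injective _ (by
    rw [(h (x + y)).choose_spec, map_add, val_add, (h x).choose_spec, (h y).choose_spec])

lemma liftVal_val {X : Type*} [CommRing X] {f : A} (Λ : X →+* Localization.Away f)
    (h : ∀ x, ∃ y : Away 𝒜 f, y.val = Λ x) (x : X) : (liftVal Λ h x).val = Λ x :=
  (h x).choose_spec

section dehom

variable (φ : 𝒜 →+*ᵍ ℬ) {z : B} (hz : z ∈ ℬ 1)

/-- The additive map `a ↦ φ a / z ^ n` on the degree `n` part. -/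
noncomputable def dehomPiece (n : ℕ) : 𝒜 n →+ Away ℬ z where
  toFun a := Away.mk ℬ hz n (φ a) (by simpa using φ.map_mem a.2)
  map_zero' := val_injective _ (by simp [Away.val_mk, Localization.mk_zero])
  map_add' a b := val_injective _ (by
    rw [val_add]
    simp [Away.val_mk, Localization.add_mk_self])

/-- `a ∈ 𝒜 n ↦ φ a / z ^ n`. -/
noncomputable def dehom : A →+* Away ℬ z :=
  (DirectSum.toSemiring (dehomPiece φ hz)
    (val_injective _ (by simp [dehomPiece, Away.val_mk]))
    (fun {i j} a b => val_injective _ (by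
      simp [dehomPiece, Away.val_mk, Localization.mk_mul, pow_add]))).comp
    (DirectSum.decomposeRingEquiv 𝒜).toRingHom

lemma dehom_val {n : ℕ} {a : A} (ha : a ∈ 𝒜 n) :
    (dehom φ hz a).val =
      Localization.mk (φ a) ⟨z ^ n, pow_mem (Submonoid.mem_powers z) n⟩ := by
  have h : DirectSum.decomposeRingEquiv 𝒜 a = DirectSum.of (fun i => 𝒜 i) n ⟨a, ha⟩ :=
    decompose_of_mem 𝒜 ha
  rw [dehom, RingHom.comp_apply, RingEquiv.toRingHom_eq_coe, RingEquiv.coe_toRingHom, h,
    toSemiring_of]
  simp [dehomPiece, Away.val_mk]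

end dehom

section veronese

variable {d : ℕ} (φ : B →ₐ[R] A) (hdeg : ∀ n : ℕ, Submodule.map φ.toLinearMap (ℬ n) = 𝒜 (n * d))
  {e : ℕ} {g : B} (hg : g ∈ ℬ e)

include hdeg hg in
lemma veroneseAway_range (x : Away ℬ g) : ∃ y : Away 𝒜 (φ g),
    y.val = Localization.awayMap φ.toRingHom g x.val := by
  obtain ⟨n, b, hb, rfl⟩ := Away.mk_surjective ℬ hg x
  refine ⟨Away.mk 𝒜 (veronese_mem 𝒜 ℬ φ hdeg hg) n (φ b)
    (by simpa [mul_assoc] using veronese_mem 𝒜 ℬ φ hdeg hb), ?_⟩
  rw [Away.val_mk, Away.val_mk, Localization.awayMap, IsLocalization.Away.map,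
    Localization.mk_eq_mk', Localization.mk_eq_mk', IsLocalization.map_mk']
  congr 1
  ext
  simp

/-- The map `S'_(g) → S_(φ g)`, `b / g ^ k ↦ φ b / φ g ^ k`. -/
noncomputable def veroneseAway : Away ℬ g →+* Away 𝒜 (φ g) :=
  liftVal ((Localization.awayMap φ.toRingHom g).comp (algebraMap (Away ℬ g) (Localization.Away g)))
    (veroneseAway_range φ hdeg hg)

lemma veroneseAway_val (x : Away ℬ g) : (veroneseAway φ hdeg hg x).val =
    Localization.awayMap φ.toRingHom g x.val :=
  liftVal_val _ _ x

lemma veroneseAway_bijective (hφ : Function.Injective φ) :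
    Function.Bijective (veroneseAway (𝒜 := 𝒜) φ hdeg hg) := by
  constructor
  · refine (injective_iff_map_eq_zero _).mpr fun x hx => ?_
    obtain ⟨n, b, hb, rfl⟩ := Away.mk_surjective ℬ hg x
    have h2 := congrArg HomogeneousLocalization.val hx
    rw [veroneseAway_val, Away.val_mk, Localization.awayMap, IsLocalization.Away.map,
      Localization.mk_eq_mk', IsLocalization.map_mk', val_zero] at h2
    replace h2 := (IsLocalization.mk'_eq_zero_iff (M := Submonoid.powers (φ g)) (S := Localization.Away (φ g)) _ _).mp h2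
    obtain ⟨⟨_, k, rfl⟩, hk⟩ := h2
    apply val_injective
    rw [Away.val_mk, val_zero, Localization.mk_eq_mk', IsLocalization.mk'_eq_zero_iff]
    refine ⟨⟨g ^ k, k, rfl⟩, hφ ?_⟩
    simpa using hk
  · intro y
    obtain ⟨n, a, ha, rfl⟩ := Away.mk_surjective 𝒜 (veronese_mem 𝒜 ℬ φ hdeg hg) y
    obtain ⟨b, hb, rfl⟩ := veronese_surj 𝒜 ℬ φ hdeg (n := n * e)
      (by simpa [mul_assoc] using ha)
    refine ⟨Away.mk ℬ hg n b (by simpa using hb), val_injective _ ?_⟩
    rw [veroneseAway_val, Away.val_mk, Away.val_mk, Localization.awayMap, IsLocalization.Away.map,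
      Localization.mk_eq_mk', Localization.mk_eq_mk', IsLocalization.map_mk']
    congr 1
    ext
    simp

end veronese

section eval

variable {f : B} (hf : f ∈ ℬ 1)

/-- Evaluation at `f = 1`. -/
noncomputable def evalOne : Localization.Away f →+* B ⧸ Ideal.span {f - 1} :=
  IsLocalization.Away.lift f (g := Ideal.Quotient.mk (Ideal.span {f - 1})) (by
    rw [show Ideal.Quotient.mk (Ideal.span {f - 1}) f = 1 from
      (Ideal.Quotient.eq.mpr (Ideal.mem_span_singleton_self _)).trans (map_one _)]
    exact isUnit_one)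

lemma evalOne_mk (b : B) (n : ℕ) :
    evalOne (Localization.mk b (⟨f ^ n, pow_mem (Submonoid.mem_powers f) n⟩ : Submonoid.powers f)) =
      Ideal.Quotient.mk (Ideal.span {f - 1}) b := by
  have h1 : Ideal.Quotient.mk (Ideal.span {f - 1}) f = 1 :=
    (Ideal.Quotient.eq.mpr (Ideal.mem_span_singleton_self _)).trans (map_one _)
  rw [Localization.mk_eq_mk', evalOne, IsLocalization.Away.lift, IsLocalization.lift_mk'_spec]
  simp [map_pow, h1]

/-- `ℬ_(f) ≅ B / (f - 1)` for `f` of degree one. -/
noncomputable def awayEquivQuotient : Away ℬ f ≃+* B ⧸ Ideal.span {f - 1} :=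
  RingEquiv.ofRingHom (evalOne.comp (algebraMap (Away ℬ f) (Localization.Away f)))
    (Ideal.Quotient.lift _ (dehom (GradedRingHom.id ℬ) hf) (fun x hx => by
      obtain ⟨c, rfl⟩ := Ideal.mem_span_singleton.mp hx
      have h1 : dehom (GradedRingHom.id ℬ) hf f = 1 := val_injective _ (by
        rw [dehom_val _ _ hf, val_one]
        simp [Localization.mk_eq_mk'])
      rw [map_mul, map_sub, h1, map_one, sub_self, zero_mul]))
    (Ideal.Quotient.ringHom_ext (by
      refine RingHom.ext fun b => ?_
      induction b using DirectSum.Decomposition.inductionOn (ℳ := ℬ) with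
      | zero => simp
      | @homogeneous i b =>
        rw [RingHom.comp_apply, RingHom.comp_apply, Ideal.Quotient.lift_mk, RingHom.comp_apply,
          HomogeneousLocalization.algebraMap_apply, dehom_val _ _ b.2, evalOne_mk]
        rfl
      | add a b ha hb => simp only [map_add, ha, hb]))
    (RingHom.ext fun x => by
      obtain ⟨n, b, hb, rfl⟩ := Away.mk_surjective ℬ hf x
      apply val_injective
      rw [RingHom.comp_apply, RingHom.comp_apply, HomogeneousLocalization.algebraMap_apply, Away.val_mk, evalOne_mk,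
        Ideal.Quotient.lift_mk, RingHom.id_apply, Away.val_mk]
      rw [dehom_val _ _ (show b ∈ ℬ n by simpa using hb)]
      rfl)

end eval

end Groth.Agent.ProjLib
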