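import Groth.Agent.ProjLib.QMapHom
import Mathlib.AlgebraicGeometry.Morphisms.UnderlyingMap

/-!
# Dominance of `Proj(u)`
-/

set_option linter.unusedSectionVars false
set_option autoImplicit false
set_option backward.isDefEq.respectTransparency.types false

namespace Groth.Agent.QProj

open CategoryTheory CategoryTheory.Limits AlgebraicGeometry TopologicalSpace Opposite
open scoped HomogeneousIdeal
open Groth.Agent.ProjLib (mem_of_isNilpotent basicOpen_eq_bot_iff exists_homogeneous_basicOpen_subset)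

universe u

variable {S P : Scheme.{u}} {𝒮 : RelProj.QCGrAlg S} {p : P ⟶ S}
  {chart : ∀ (U : S.Opens) (hU : IsAffineOpen U), (((p ⁻¹ᵁ U : P.Opens) : Scheme.{u}) ≅ Proj (𝒮.deg U hU))}

lemma nz_eq_bot_iff (U : S.Opens) (hU : IsAffineOpen U) {d : ℕ} (hd : 0 < d) {t : 𝒮.presheaf.obj (op U)}
    (ht : t ∈ 𝒮.deg U hU d) : nz chart U hU t = ⊥ ↔ IsNilpotent t := by
  rw [← basicOpen_eq_bot_iff (𝒮.deg U hU) (HomogeneousIdeal.mem_irrelevant_of_mem _ hd ht)]
  constructor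
  · intro h
    refine eq_bot_iff.mpr fun y hy => ?_
    have : RelProj.emb p chart U hU y ∈ nz chart U hU t := ⟨y, hy, rfl⟩
    rw [h] at this
    exact this
  · intro h
    refine eq_bot_iff.mpr ?_
    rintro _ ⟨y, hy, rfl⟩
    rw [h] at hy
    exact hy.elim

lemma exists_nz_subset {O : Set P} (hO : IsOpen O) {x : P} (hx : x ∈ O) (U : S.Opens) (hU : IsAffineOpen U)
    (hxU : p x ∈ U) :
    ∃ (d : ℕ) (_ : 0 < d) (f : 𝒮.presheaf.obj (op U)), f ∈ 𝒮.deg U hU d ∧ x ∈ nz chart U hU f ∧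
      (nz chart U hU f : Set P) ⊆ O := by
  obtain ⟨y, rfl⟩ := (range_emb (p := p) (chart := chart) U hU).ge hxU
  obtain ⟨d, f, hd, hf, hyf, hfO⟩ := exists_homogeneous_basicOpen_subset (𝒮.deg U hU)
    (hO.preimage (RelProj.emb p chart U hU).continuous) hx
  refine ⟨d, hd, f, hf, ⟨y, hyf, rfl⟩, ?_⟩
  rintro _ ⟨w, hw, rfl⟩
  exact hfO hw

variable {S' P' : Scheme.{u}} {g : S' ⟶ S} {𝒮' : RelProj.QCGrAlg S'} (u : RelProj.QGrHom g 𝒮 𝒮')
  (hP : RelProj.IsRelProj 𝒮 p chart) {p' : P' ⟶ S'}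
  {chart' : ∀ (U' : S'.Opens) (hU' : IsAffineOpen U'), (((p' ⁻¹ᵁ U' : P'.Opens) : Scheme.{u}) ≅ Proj (𝒮'.deg U' hU'))}
  (hP' : RelProj.IsRelProj 𝒮' p' chart')
  {v : (RelProj.domQ u p' chart').toScheme ⟶ P}
  (hv : RelProj.IsProjQMapOn u p chart p' chart' (RelProj.domQ u p' chart') v)

/-- The images of a section over all affine opens are nilpotent. -/
def NilImages (U : S.Opens) (hU : IsAffineOpen U) (s : 𝒮.presheaf.obj (op U)) : Prop :=
  ∀ (U' : S'.Opens) (hU' : IsAffineOpen U') (hle : U' ≤ g ⁻¹ᵁ U), IsNilpotent (u.gradedAt U hU U' hU' hle s)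

include hP hP' hv in
theorem isNilpotent_of_isDominant [IsDominant v] (U : S.Opens) (hU : IsAffineOpen U) {d : ℕ} (hd : 0 < d)
    {s : 𝒮.presheaf.obj (op U)} (hs : s ∈ 𝒮.deg U hU d) (h : NilImages u U hU s) : IsNilpotent s := by
  rw [← nz_eq_bot_iff (chart := chart) U hU hd hs]
  by_contra hne
  obtain ⟨w, hw⟩ := (Opens.ne_bot_iff_nonempty _).mp hne
  obtain ⟨_, hwU, x, rfl⟩ := mem_closure_iff.mp (v.denseRange w) _ (nz chart U hU s).isOpen hw
  have hxU : g (p' x.1) ∈ U := by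
    rw [← apply_qMap u hP hP' hv x]
    exact nz_le U hU s hwU
  obtain ⟨_, ⟨U', hU', rfl⟩, hxU', hle⟩ :=
    S'.isBasis_affineOpens.exists_subset_of_mem_open (show p' x.1 ∈ g ⁻¹ᵁ U from hxU) (g ⁻¹ᵁ U).isOpen
  have h1 := (mem_preimage_nz_iff u hP hP' hv U hU U' hU' hle hd hs x hxU').mp hwU
  rw [(nz_eq_bot_iff (chart := chart') U' hU' hd (Graded.map_mem (u.gradedAt U hU U' hU' hle) hs)).mpr (h U' hU' hle)] at h1
  exact h1

include hP hP' hv in
theorem isDominant_of_nilImages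
    (h : ∀ x : S, ∃ (U : S.Opens) (hU : IsAffineOpen U), x ∈ U ∧ ∀ (d : ℕ), 0 < d →
      ∀ s ∈ 𝒮.deg U hU d, NilImages u U hU s → IsNilpotent s) : IsDominant v := by
  refine ⟨fun x => mem_closure_iff.mpr fun O hO hxO => ?_⟩
  obtain ⟨U, hU, hxU, hnil⟩ := h (p x)
  obtain ⟨d, hd, f, hf, hxf, hfO⟩ := exists_nz_subset (chart := chart) hO hxO U hU hxU
  have hne : ¬ IsNilpotent f := fun hc => by
    rw [(nz_eq_bot_iff (chart := chart) U hU hd hf).mpr hc] at hxf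
    exact hxf
  have := mt (hnil d hd f hf) hne
  simp only [NilImages, not_forall] at this
  obtain ⟨U', hU', hle, hU'f⟩ := this
  rw [← nz_eq_bot_iff (chart := chart') U' hU' hd (Graded.map_mem (u.gradedAt U hU U' hU' hle) hf)] at hU'f
  obtain ⟨z, hz⟩ := (Opens.ne_bot_iff_nonempty _).mp hU'f
  have hzU' : p' z ∈ U' := nz_le U' hU' _ hz
  have hzd : z ∈ RelProj.domQ u p' chart' :=
    (mem_domQ_iff u hP' U hU U' hU' hle hzU').mpr ⟨d, hd, f, hf, hz⟩
  exact ⟨_, hfO ((mem_preimage_nz_iff u hP hP' hv U hU U' hU' hle hd hf ⟨z, hzd⟩ hzU').mpr hz), ⟨z, hzd⟩, rfl⟩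

include hP hP' hv in
theorem isDominant_qMap_iff :
    IsDominant v ↔ ∀ (U : S.Opens) (hU : IsAffineOpen U) (d : ℕ), 0 < d →
      ∀ s ∈ 𝒮.deg U hU d, NilImages u U hU s → IsNilpotent s := by
  refine ⟨fun _ U hU d hd s hs hn => isNilpotent_of_isDominant u hP hP' hv U hU hd hs hn, fun h => ?_⟩
  refine isDominant_of_nilImages u hP hP' hv fun x => ?_
  obtain ⟨U, hU⟩ := Opens.mem_iSup.mp ((iSup_affineOpens_eq_top S).ge (Set.mem_univ x))
  exact ⟨U.1, U.2, hU, h U.1 U.2⟩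

include hP' in
lemma nilImages_of_local (U : S.Opens) (hU : IsAffineOpen U) {d : ℕ} (hd : 0 < d) {s : 𝒮.presheaf.obj (op U)}
    (hs : s ∈ 𝒮.deg U hU d)
    (h : ∀ x : S', g x ∈ U → ∃ (V : S'.Opens) (hV : IsAffineOpen V) (hle : V ≤ g ⁻¹ᵁ U), x ∈ V ∧
      IsNilpotent (u.gradedAt U hU V hV hle s)) : NilImages u U hU s := by
  intro U' hU' hle
  rw [← nz_eq_bot_iff (chart := chart') U' hU' hd (Graded.map_mem (u.gradedAt U hU U' hU' hle) hs), eq_bot_iff]
  intro z hz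
  have hzU' : p' z ∈ U' := nz_le U' hU' _ hz
  obtain ⟨V, hV, hleV, hzV, hnil⟩ := h (p' z) (hle hzU')
  obtain ⟨O, hO, hzO, hOU, hOV, -, -, -⟩ := exists_common_basic hU' hV ⊤ hzU' hzV (Set.mem_univ _)
  have h1 := (mem_nz_res_iff hP' hU' hO hOU _ hzO).mpr hz
  rw [gradedAt_res_right] at h1
  have h2 : IsNilpotent (u.gradedAt U hU O hO (hOU.trans hle) s) := by
    rw [← gradedAt_res_right u hU hV hO hleV hOV]
    exact hnil.map _
  rw [(nz_eq_bot_iff (chart := chart') O hO hd (Graded.map_mem (u.gradedAt U hU O hO (hOU.trans hle)) hs)).mpr h2] at h1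
  exact h1

section comp

variable {𝒯 : RelProj.QCGrAlg S} (w : 𝒯.toQCAlg ⟶ 𝒮.toQCAlg) (u' : RelProj.QGrHom g 𝒯 𝒮')
  (hu' : ∀ U : S.Opens, u'.app U = w.hom.app (op U) ≫ u.app U)

include hu' in
lemma gradedAt_comp (U : S.Opens) (hU : IsAffineOpen U) (U' : S'.Opens) (hU' : IsAffineOpen U')
    (hle : U' ≤ g ⁻¹ᵁ U) (t : 𝒯.presheaf.obj (op U)) :
    u'.gradedAt U hU U' hU' hle t = u.gradedAt U hU U' hU' hle ((w.hom.app (op U)).hom t) := by
  show (u'.app U ≫ _).hom t = (u.app U ≫ _).hom ((w.hom.app (op U)).hom t)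
  rw [hu']
  rfl

include hu' in
lemma nilImages_comp_iff (U : S.Opens) (hU : IsAffineOpen U) (t : 𝒯.presheaf.obj (op U)) :
    NilImages u' U hU t ↔ NilImages u U hU ((w.hom.app (op U)).hom t) := by
  simp only [NilImages, gradedAt_comp u w u' hu']

end comp

lemma nilImages_pow {U : S.Opens} {hU : IsAffineOpen U} {s : 𝒮.presheaf.obj (op U)} {n : ℕ} (hn : 0 < n)
    (h : NilImages u U hU s) : NilImages u U hU (s ^ n) := fun U' hU' hle => by
  rw [map_pow]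
  exact (h U' hU' hle).pow_of_pos hn.ne'

end Groth.Agent.QProj
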