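import Mathlib.AlgebraicGeometry.IdealSheaf.Functorial

/-!
# The inverse image ideal sheaf on affine opens
-/

namespace Groth.Agent.ProjLib

open CategoryTheory CategoryTheory.Limits AlgebraicGeometry TopologicalSpace

universe u

variable {X Y : Scheme.{u}} (I : Y.IdealSheafData) (f : X ⟶ Y) (U : Y.affineOpens) (V : X.affineOpens)
  (e : V.1 ≤ f ⁻¹ᵁ U.1)

lemma map_ideal_le_comap_ideal :
    (I.ideal U).map (f.appLE U.1 V.1 e).hom ≤ (I.comap f).ideal V := by
  rw [Ideal.map_le_iff_le_comap]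
  intro x hx
  rw [Ideal.mem_comap, ← (I.comap f).ker_subschemeι_app V, RingHom.mem_ker]
  have h1 : x ∈ ((I.comap f).subschemeι ≫ f).ker.ideal U :=
    Scheme.IdealSheafData.le_map_comap I f U hx
  have h2 : (((I.comap f).subschemeι ≫ f).app U.1).hom x = 0 :=
    RingHom.mem_ker.mp (Scheme.Hom.ideal_ker_le _ _ h1)
  have h3 := ConcreteCategory.congr_hom ((I.comap f).subschemeι.naturality (homOfLE e).op)
    ((f.app U.1).hom x)
  refine (Eq.trans ?_ h3).trans ?_
  · rfl
  · refine Eq.trans ?_ (map_zero ((I.comap f).subscheme.presheaf.map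
      ((Opens.map (I.comap f).subschemeι.base).map (homOfLE e)).op).hom)
    exact congrArg _ h2

lemma comap_ideal_le_map_ideal :
    (I.comap f).ideal V ≤ (I.ideal U).map (f.appLE U.1 V.1 e).hom := by
  have hV : IsAffineOpen V.1 := V.2
  set φ := (f.appLE U.1 V.1 e).hom
  set K := (I.ideal U).map φ
  let q : Spec (CommRingCat.of (Γ(X, V.1) ⧸ K)) ⟶ X :=
    Spec.map (CommRingCat.ofHom (Ideal.Quotient.mk K)) ≫ hV.fromSpec
  let ψ : Γ(Y, U.1) ⧸ I.ideal U →+* Γ(X, V.1) ⧸ K :=
    Ideal.quotientMap K φ Ideal.le_comap_map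
  let t : Spec (CommRingCat.of (Γ(X, V.1) ⧸ K)) ⟶ I.subscheme :=
    Spec.map (CommRingCat.ofHom ψ) ≫ I.subschemeCover.f U
  have hψ : CommRingCat.ofHom (Ideal.Quotient.mk (I.ideal U)) ≫ CommRingCat.ofHom ψ =
      f.appLE U.1 V.1 e ≫ CommRingCat.ofHom (Ideal.Quotient.mk K) := by
    ext x
    simp [ψ]
    rfl
  have ht : q ≫ f = t ≫ I.subschemeι := by
    refine Eq.trans ?_ ((Category.assoc _ _ _).trans
      (congrArg (fun g => Spec.map (CommRingCat.ofHom ψ) ≫ g)
        ((I.subschemeCover_map_subschemeι U).trans (I.glueDataObjι_ι U)))).symm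
    simp only [q, Category.assoc, ← U.2.SpecMap_appLE_fromSpec f hV e]
    rw [← Spec.map_comp_assoc, ← hψ, Spec.map_comp_assoc]
  have hle : (I.comap f).ideal V ≤ q.ker.ideal V := by
    have := Scheme.Hom.le_ker_comp (pullback.lift q t ht) (pullback.fst f I.subschemeι)
    rw [pullback.lift_fst] at this
    exact this V
  refine hle.trans ((Scheme.Hom.ideal_ker_le _ _).trans fun x hx => ?_)
  rw [RingHom.mem_ker] at hx
  have h1 : q.app V.1 = CommRingCat.ofHom (Ideal.Quotient.mk K) ≫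
      (Scheme.ΓSpecIso (CommRingCat.of (Γ(X, V.1) ⧸ K))).inv ≫
        (Spec (CommRingCat.of (Γ(X, V.1) ⧸ K))).presheaf.map (eqToHom (by
          rw [Scheme.Hom.comp_preimage, hV.fromSpec_preimage_self, Scheme.Hom.preimage_top])).op := by
    rw [Scheme.Hom.comp_app, IsAffineOpen.fromSpec_app_self, Category.assoc,
      Scheme.Hom.naturality, Scheme.ΓSpecIso_inv_naturality_assoc]
    rfl
  rw [h1] at hx
  simp only [CommRingCat.hom_comp, RingHom.comp_apply] at hx
  have := (map_eq_zero_iff _ (ConcreteCategory.bijective_of_isIso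
      ((Scheme.ΓSpecIso (CommRingCat.of (Γ(X, V.1) ⧸ K))).inv ≫
        (Spec (CommRingCat.of (Γ(X, V.1) ⧸ K))).presheaf.map (eqToHom (by
          rw [Scheme.Hom.comp_preimage, hV.fromSpec_preimage_self, Scheme.Hom.preimage_top])).op)).1).mp hx
  exact Ideal.Quotient.eq_zero_iff_mem.mp this

/-- On affine opens the inverse image ideal is the extended ideal. -/
lemma comap_ideal_eq : (I.comap f).ideal V = (I.ideal U).map (f.appLE U.1 V.1 e).hom :=
  le_antisymm (comap_ideal_le_map_ideal I f U V e) (map_ideal_le_comap_ideal I f U V e)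

end Groth.Agent.ProjLib
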