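import Mathlib.AlgebraicGeometry.AffineScheme
import Mathlib.AlgebraicGeometry.ResidueField
import Mathlib.AlgebraicGeometry.Stalk
import Mathlib.RingTheory.Valuation.ValuationSubring

/-!
# Morphisms from spectra of local rings
-/

set_option linter.unusedSectionVars false

namespace Groth.Agent.ProjLib

open AlgebraicGeometry CategoryTheory CategoryTheory.Limits IsLocalRing

universe u

variable {X : Scheme.{u}}

/-- A morphism from the spectrum of a local ring factors through any open containing the image of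
the closed point. -/
lemma exists_factor_affine {R : Type u} [CommRing R] [IsLocalRing R]
    (φ : Spec (CommRingCat.of R) ⟶ X) {U : X.Opens} (hU : IsAffineOpen U)
    (hx : φ (closedPoint R) ∈ U) :
    ∃ a : Γ(X, U) ⟶ CommRingCat.of R, Spec.map a ≫ hU.fromSpec = φ := by
  have hr : Set.range φ ⊆ Set.range hU.fromSpec := by
    rw [hU.range_fromSpec]
    rintro _ ⟨p, rfl⟩
    exact ((specializes_closedPoint p).map φ.continuous).mem_open U.isOpen hx
  refine ⟨Spec.preimage (IsOpenImmersion.lift hU.fromSpec φ hr), ?_⟩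
  rw [Spec.map_preimage, IsOpenImmersion.lift_fac]

/-- Two morphisms from the spectrum of a local ring agree if they agree at the closed point and after
restriction along an injective ring map. -/
lemma ext_of_closedPoint {R K : Type u} [CommRing R] [IsLocalRing R] [CommRing K] (j : R →+* K)
    (hj : Function.Injective j) (φ₁ φ₂ : Spec (CommRingCat.of R) ⟶ X)
    (hgen : Spec.map (CommRingCat.ofHom j) ≫ φ₁ = Spec.map (CommRingCat.ofHom j) ≫ φ₂)
    (hcl : φ₁ (closedPoint R) = φ₂ (closedPoint R)) : φ₁ = φ₂ := by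
  obtain ⟨U, hU, hxU⟩ : ∃ U : X.Opens, IsAffineOpen U ∧ φ₁ (closedPoint R) ∈ U := by
    obtain ⟨U, hU, hxU, -⟩ := exists_isAffineOpen_mem_and_subset (X := X)
      (x := φ₁ (closedPoint R)) (U := ⊤) trivial
    exact ⟨U, hU, hxU⟩
  obtain ⟨a, rfl⟩ := exists_factor_affine φ₁ hU hxU
  obtain ⟨b, rfl⟩ := exists_factor_affine φ₂ hU (hcl ▸ hxU)
  rw [← Spec.map_comp_assoc, ← Spec.map_comp_assoc, cancel_mono, Spec.map_injective.eq_iff] at hgen
  congr 2
  ext z
  exact hj (RingHom.congr_fun (congrArg CommRingCat.Hom.hom hgen) z)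

lemma closedPoint_comp {R S : Type u} [CommRing R] [IsLocalRing R] [CommRing S] [IsLocalRing S]
    (ρ : R →+* S) [IsLocalHom ρ] (φ : Spec (CommRingCat.of R) ⟶ X) :
    (Spec.map (CommRingCat.ofHom ρ) ≫ φ) (closedPoint S) = φ (closedPoint R) := by
  change φ (PrimeSpectrum.comap ρ (closedPoint S)) = _
  rw [IsLocalRing.comap_closedPoint]

lemma existsUnique_factor_comap {Y : Scheme.{u}} (f : Y ⟶ X)
    (K : Type u) [Field K] (R : ValuationSubring K)
    (i : Spec (CommRingCat.of K) ⟶ Y) (φ : Spec (CommRingCat.of R) ⟶ X)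
    (w : Spec.map (CommRingCat.ofHom R.subtype) ≫ φ = i ≫ f)
    (y : Y) (g : Y.residueField y ⟶ CommRingCat.of K)
    (hg : Spec.map g ≫ Y.fromSpecResidueField y = i)
    (ρ : R.comap g.hom →+* R)
    (hρ : ∀ x : R.comap g.hom, ((ρ x : R) : K) = g.hom (x : Y.residueField y)) :
    ∃! φ' : Spec (CommRingCat.of (R.comap g.hom)) ⟶ X,
      Spec.map (CommRingCat.ofHom ρ) ≫ φ' = φ ∧
      Spec.map (CommRingCat.ofHom (R.comap g.hom).subtype) ≫ φ' =
        Y.fromSpecResidueField y ≫ f := by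
  have hloc : IsLocalHom ρ := ⟨fun x hx => by
    obtain ⟨r, hr⟩ := hx.exists_left_inv
    have hr' : ((r : K)) * g.hom (x : Y.residueField y) = 1 := by
      rw [← hρ]; exact congrArg Subtype.val hr
    have hmem : (x : Y.residueField y)⁻¹ ∈ R.comap g.hom := by
      rw [ValuationSubring.mem_comap, map_inv₀, ← eq_inv_of_mul_eq_one_left hr']
      exact r.2
    refine IsUnit.of_mul_eq_one ⟨_, hmem⟩ (Subtype.ext ?_)
    refine mul_inv_cancel₀ fun h0 => ?_
    rw [h0, map_zero, mul_zero] at hr'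
    exact zero_ne_one hr'⟩
  obtain ⟨U, hU, hxU, -⟩ := exists_isAffineOpen_mem_and_subset (X := X)
    (x := φ (closedPoint R)) (U := ⊤) trivial
  obtain ⟨a, ha⟩ := exists_factor_affine φ hU hxU
  have hfy : (Y.fromSpecResidueField y ≫ f) (closedPoint (Y.residueField y)) ∈ U := by
    have h1 : (Spec.map (CommRingCat.ofHom R.subtype) ≫ φ) (closedPoint K) ∈ U :=
      ((specializes_closedPoint _).map φ.continuous).mem_open U.isOpen hxU
    rw [w, ← hg] at h1
    convert h1 using 2
    simp only [Category.assoc]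
    exact (closedPoint_comp g.hom (Y.fromSpecResidueField y ≫ f)).symm
  obtain ⟨b, hb⟩ : ∃ b : Γ(X, U) ⟶ Y.residueField y,
      Spec.map b ≫ hU.fromSpec = Y.fromSpecResidueField y ≫ f :=
    exists_factor_affine (Y.fromSpecResidueField y ≫ f) hU hfy
  have hab : a ≫ CommRingCat.ofHom R.subtype = b ≫ g := by
    have h2 := w
    rw [← ha, ← hg, Category.assoc, ← hb, ← Spec.map_comp_assoc, ← Spec.map_comp_assoc,
      cancel_mono, Spec.map_injective.eq_iff] at h2
    exact h2
  have hmem : ∀ z, b.hom z ∈ R.comap g.hom := fun z => by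
    rw [ValuationSubring.mem_comap]
    have h3 := RingHom.congr_fun (congrArg CommRingCat.Hom.hom hab) z
    change g.hom (b.hom z) ∈ R
    rw [show g.hom (b.hom z) = R.subtype (a.hom z) from h3.symm]
    exact (a.hom z).2
  let a' : Γ(X, U) ⟶ CommRingCat.of (R.comap g.hom) :=
    CommRingCat.ofHom (b.hom.codRestrict (R.comap g.hom).toSubring hmem)
  have h1 : Spec.map (CommRingCat.ofHom (R.comap g.hom).subtype) ≫ Spec.map a' ≫ hU.fromSpec =
      Y.fromSpecResidueField y ≫ f := by
    rw [← Spec.map_comp_assoc, ← hb]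
    rfl
  have h0 : Spec.map (CommRingCat.ofHom ρ) ≫ Spec.map a' ≫ hU.fromSpec = φ := by
    rw [← Spec.map_comp_assoc, ← ha]
    congr 2
    ext z
    refine (hρ _).trans ?_
    exact (RingHom.congr_fun (congrArg CommRingCat.Hom.hom hab) z).symm
  refine ⟨Spec.map a' ≫ hU.fromSpec, ⟨h0, h1⟩, fun φ' ⟨h2, h3⟩ => ?_⟩
  refine ext_of_closedPoint (R.comap g.hom).subtype Subtype.coe_injective φ' _
    (h3.trans h1.symm) ?_
  rw [← closedPoint_comp ρ φ', h2, ← closedPoint_comp ρ (Spec.map a' ≫ hU.fromSpec), h0]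

lemma existsUnique_lift_glue {Y : Scheme.{u}} (f : Y ⟶ X)
    (K : Type u) [Field K] (R R' : ValuationSubring K) (hRR' : R ≤ R')
    (ι : R →+* R') (hι : ∀ x : R, ((ι x : R') : K) = (x : K))
    (i : Spec (CommRingCat.of K) ⟶ Y) (φ : Spec (CommRingCat.of R) ⟶ X)
    (w : Spec.map (CommRingCat.ofHom R.subtype) ≫ φ = i ≫ f)
    (g : Spec (CommRingCat.of R') ⟶ Y)
    (hg₁ : Spec.map (CommRingCat.ofHom R'.subtype) ≫ g = i)
    (Rt : ValuationSubring (ResidueField R')) (σ : R →+* Rt) (hσs : Function.Surjective σ)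
    (hσ : ∀ x : R, ((σ x : Rt) : ResidueField R') = residue R' (ι x))
    (ht : Spec (CommRingCat.of Rt) ⟶ Y)
    (hht₁ : Spec.map (CommRingCat.ofHom Rt.subtype) ≫ ht =
      Spec.map (CommRingCat.ofHom (residue R')) ≫ g)
    (hht₂ : ht ≫ f = Spec.map (CommRingCat.ofHom σ) ≫ φ) :
    ∃! h : Spec (CommRingCat.of R) ⟶ Y, Spec.map (CommRingCat.ofHom R.subtype) ≫ h = i ∧
      h ≫ f = φ ∧ Spec.map (CommRingCat.ofHom ι) ≫ h = g ∧
      Spec.map (CommRingCat.ofHom σ) ≫ h = ht := by
  have hσloc : IsLocalHom σ := IsLocalHom.of_surjective σ hσs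
  obtain ⟨U, hU, hxU, -⟩ := exists_isAffineOpen_mem_and_subset (X := Y)
    (x := ht (closedPoint Rt)) (U := ⊤) trivial
  obtain ⟨t, hteq⟩ := exists_factor_affine ht hU hxU
  have hgU : g (closedPoint R') ∈ U := by
    have h1 : (Spec.map (CommRingCat.ofHom Rt.subtype) ≫ ht) (closedPoint (ResidueField R')) ∈ U :=
      ((specializes_closedPoint _).map ht.continuous).mem_open U.isOpen hxU
    rw [hht₁] at h1
    exact closedPoint_comp (residue R') g ▸ h1
  obtain ⟨b, hb⟩ := exists_factor_affine g hU hgU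
  have hbt : b ≫ CommRingCat.ofHom (residue R') = t ≫ CommRingCat.ofHom Rt.subtype := by
    have h2 := hht₁
    rw [← hteq, ← hb, ← Spec.map_comp_assoc, ← Spec.map_comp_assoc, cancel_mono,
      Spec.map_injective.eq_iff] at h2
    exact h2.symm
  have hmax : ∀ x : R', residue R' x = 0 → (x : K) ∈ R := fun x hx => by
    refine (R.mem_or_inv_mem (x : K)).elim id fun hinv => ?_
    rcases eq_or_ne (x : K) 0 with h0 | h0
    · rw [h0]; exact zero_mem R
    · exfalso
      refine (residue_eq_zero_iff _).mp hx ?_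
      exact IsUnit.of_mul_eq_one ⟨(x : K)⁻¹, hRR' hinv⟩ (Subtype.ext (mul_inv_cancel₀ h0))
  have hmem : ∀ z, ((b.hom z : R') : K) ∈ R := fun z => by
    obtain ⟨r, hr⟩ := hσs (t.hom z)
    have h3 : residue R' (b.hom z) = residue R' (ι r) := by
      rw [← hσ, hr]
      exact RingHom.congr_fun (congrArg CommRingCat.Hom.hom hbt) z
    have h4 := hmax (b.hom z - ι r) (by rw [map_sub, h3, sub_self])
    have h5 : ((b.hom z : R') : K) - (r : K) ∈ R := by rw [← hι r]; exact h4
    simpa using add_mem h5 r.2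
  let b' : Γ(Y, U) ⟶ CommRingCat.of R :=
    CommRingCat.ofHom ((R'.subtype.comp b.hom).codRestrict R.toSubring hmem)
  have hι' : Spec.map (CommRingCat.ofHom ι) ≫ Spec.map b' ≫ hU.fromSpec = g := by
    rw [← Spec.map_comp_assoc, ← hb]
    congr 2
    ext z
    exact hι _
  have hσ' : Spec.map (CommRingCat.ofHom σ) ≫ Spec.map b' ≫ hU.fromSpec = ht := by
    rw [← Spec.map_comp_assoc, ← hteq]
    congr 2
    ext z
    refine (hσ _).trans ?_
    have : ι (b'.hom z) = b.hom z := Subtype.ext (hι _)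
    change residue R' (ι (b'.hom z)) = _
    rw [this]
    exact RingHom.congr_fun (congrArg CommRingCat.Hom.hom hbt) z
  have hK : Spec.map (CommRingCat.ofHom R.subtype) ≫ Spec.map b' ≫ hU.fromSpec = i := by
    rw [← hg₁, ← hι', ← Spec.map_comp_assoc, ← Spec.map_comp_assoc, ← Spec.map_comp_assoc]
    congr 2
    ext z
    exact (hι _).symm
  refine ⟨Spec.map b' ≫ hU.fromSpec, ⟨hK, ?_, hι', hσ'⟩, fun h ⟨h1, _, _, h4⟩ => ?_⟩
  · refine ext_of_closedPoint R.subtype Subtype.coe_injective _ φ ?_ ?_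
    · rw [← Category.assoc, hK, w]
    · rw [← closedPoint_comp σ ((Spec.map b' ≫ hU.fromSpec) ≫ f), ← closedPoint_comp σ φ,
        ← Category.assoc, hσ', hht₂]
  · refine ext_of_closedPoint R.subtype Subtype.coe_injective h _ (h1.trans hK.symm) ?_
    rw [← closedPoint_comp σ h, ← closedPoint_comp σ (Spec.map b' ≫ hU.fromSpec), h4, hσ']

end Groth.Agent.ProjLib
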