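import Mathlib.AlgebraicGeometry.Gluing
import Mathlib.AlgebraicGeometry.AffineScheme

/-!
# Gluing morphisms over the affine opens of a base
-/

namespace Groth.Agent.ProjLib

open CategoryTheory CategoryTheory.Limits AlgebraicGeometry TopologicalSpace

universe u

variable {S P Z : Scheme.{u}} (p : P ⟶ S)

lemma iSup_preimage_affine : ⨆ U : S.affineOpens, p ⁻¹ᵁ U.1 = ⊤ := by
  rw [← Scheme.Hom.preimage_iSup, iSup_affineOpens_eq_top, Scheme.Hom.preimage_top]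

lemma hom_ext_affine {f g : P ⟶ Z}
    (h : ∀ (U : S.Opens), IsAffineOpen U → (p ⁻¹ᵁ U).ι ≫ f = (p ⁻¹ᵁ U).ι ≫ g) : f = g := by
  refine Scheme.hom_ext_of_forall f g fun x => ?_
  obtain ⟨U, hU⟩ := Opens.mem_iSup.mp ((iSup_preimage_affine p).ge (Set.mem_univ x))
  exact ⟨_, hU, h U.1 U.2⟩

/-- The cover of `P` by the preimages of the affine opens of `S`. -/
noncomputable def affinePreimageCover : P.OpenCover :=
  P.openCoverOfIsOpenCover (fun U : S.affineOpens => p ⁻¹ᵁ U.1) (iSup_preimage_affine p)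

lemma preimage_basicOpen_le {U : S.Opens} (r : Γ(S, U)) : p ⁻¹ᵁ S.basicOpen r ≤ p ⁻¹ᵁ U :=
  p.preimage_mono (S.basicOpen_le r)

variable (F : ∀ (U : S.Opens), IsAffineOpen U → ((p ⁻¹ᵁ U).toScheme ⟶ Z))
  (hF : ∀ (U : S.Opens) (hU : IsAffineOpen U) (r : Γ(S, U)),
    P.homOfLE (p.preimage_mono (S.basicOpen_le r)) ≫ F U hU = F (S.basicOpen r) (hU.basicOpen r))

include hF in
lemma glue_compat {T : Scheme.{u}} (U V : S.Opens) (hU : IsAffineOpen U) (hV : IsAffineOpen V)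
    (a : T ⟶ (p ⁻¹ᵁ U).toScheme) (b : T ⟶ (p ⁻¹ᵁ V).toScheme)
    (h : a ≫ (p ⁻¹ᵁ U).ι = b ≫ (p ⁻¹ᵁ V).ι) :
    a ≫ F U hU = b ≫ F V hV := by
  refine Scheme.hom_ext_of_forall _ _ fun z => ?_
  let t : T ⟶ P := a ≫ (p ⁻¹ᵁ U).ι
  have hzU : p (t z) ∈ U := (a z).2
  have hzV : p (t z) ∈ V := by
    simp only [t, h]
    exact (b z).2
  obtain ⟨r, s, hrs, hz⟩ :=
    exists_basicOpen_le_affine_inter hU hV (p (t z)) ⟨hzU, hzV⟩
  refine ⟨t ⁻¹ᵁ p ⁻¹ᵁ S.basicOpen r, hz, ?_⟩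
  let c : (t ⁻¹ᵁ p ⁻¹ᵁ S.basicOpen r).toScheme ⟶ (p ⁻¹ᵁ S.basicOpen r).toScheme :=
    t ∣_ (p ⁻¹ᵁ S.basicOpen r)
  have hc : c ≫ (p ⁻¹ᵁ S.basicOpen r).ι = (t ⁻¹ᵁ p ⁻¹ᵁ S.basicOpen r).ι ≫ t :=
    morphismRestrict_ι _ _
  have key : ∀ (W : S.Opens) (hW : IsAffineOpen W) (e : S.basicOpen r = W)
      (k : (t ⁻¹ᵁ p ⁻¹ᵁ S.basicOpen r).toScheme ⟶ (p ⁻¹ᵁ W).toScheme)
      (_ : k ≫ (p ⁻¹ᵁ W).ι = (t ⁻¹ᵁ p ⁻¹ᵁ S.basicOpen r).ι ≫ t),
      k ≫ F W hW = c ≫ F _ (hU.basicOpen r) := by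
    rintro W hW rfl k hk
    rw [← hc, cancel_mono] at hk
    rw [hk]
  have h1 : (t ⁻¹ᵁ p ⁻¹ᵁ S.basicOpen r).ι ≫ a =
      c ≫ P.homOfLE (p.preimage_mono (S.basicOpen_le r)) := by
    rw [← cancel_mono (p ⁻¹ᵁ U).ι, Category.assoc, Category.assoc, Scheme.homOfLE_ι, hc]
  let c' : (t ⁻¹ᵁ p ⁻¹ᵁ S.basicOpen r).toScheme ⟶ (p ⁻¹ᵁ S.basicOpen s).toScheme :=
    c ≫ P.homOfLE (p.preimage_mono hrs.le)
  have h2 : (t ⁻¹ᵁ p ⁻¹ᵁ S.basicOpen r).ι ≫ b =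
      c' ≫ P.homOfLE (p.preimage_mono (S.basicOpen_le s)) := by
    rw [← cancel_mono (p ⁻¹ᵁ V).ι]
    simp only [c', Category.assoc, Scheme.homOfLE_ι, hc]
    exact congrArg ((t ⁻¹ᵁ p ⁻¹ᵁ S.basicOpen r).ι ≫ ·) h.symm
  rw [reassoc_of% h1, hF, reassoc_of% h2, hF]
  exact (key _ (hV.basicOpen s) hrs c' (by simp [c', hc])).symm

set_option backward.isDefEq.respectTransparency.types false in
/-- Glue morphisms given over the affine opens of the base, compatible on basic opens. -/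
noncomputable def glueAffine : P ⟶ Z :=
  (affinePreimageCover p).glueMorphisms (fun U => F U.1 U.2)
    fun U V => glue_compat p F hF U.1 V.1 U.2 V.2
      (pullback.fst ((affinePreimageCover p).f U) ((affinePreimageCover p).f V))
      (pullback.snd ((affinePreimageCover p).f U) ((affinePreimageCover p).f V)) pullback.condition

@[reassoc]
lemma ι_glueAffine (U : S.Opens) (hU : IsAffineOpen U) :
    (p ⁻¹ᵁ U).ι ≫ glueAffine p F hF = F U hU :=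
  (affinePreimageCover p).ι_glueMorphisms _ _ ⟨U, hU⟩

include hF in
lemma existsUnique_glueAffine :
    ∃! f : P ⟶ Z, ∀ (U : S.Opens) (hU : IsAffineOpen U), (p ⁻¹ᵁ U).ι ≫ f = F U hU :=
  ⟨glueAffine p F hF, ι_glueAffine p F hF, fun f hf => hom_ext_affine p fun U hU => by
    rw [hf U hU, ι_glueAffine p F hF U hU]⟩

end Groth.Agent.ProjLib
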