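import Groth.Prelude.Def_RelProj
import Groth.Agent.ProjLib.AffineGlue
import Groth.Agent.ProjLib.MapLocal
import Mathlib.AlgebraicGeometry.ProjectiveSpectrum.Proper

/-!
# Relative `Proj` described by charts
-/

set_option linter.unusedSectionVars false

namespace Groth.Agent.ProjLib

open CategoryTheory CategoryTheory.Limits AlgebraicGeometry TopologicalSpace Opposite
open scoped HomogeneousIdeal

universe u

section proj

variable {σ A : Type u} [CommRing A] [SetLike σ A] [AddSubgroupClass σ A] {𝒜 : ℕ → σ}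
  [GradedRing 𝒜] {τ B : Type u} [CommRing B] [SetLike τ B] [AddSubgroupClass τ B]
  {ℬ : ℕ → τ} [GradedRing ℬ]

/-- The degree zero part of a graded homomorphism. -/
def degZeroMap (φ : 𝒜 →+*ᵍ ℬ) : 𝒜 0 →+* ℬ 0 where
  toFun a := ⟨φ a, φ.map_mem a.2⟩
  map_one' := Subtype.ext (map_one φ)
  map_mul' _ _ := Subtype.ext (map_mul φ _ _)
  map_zero' := Subtype.ext (map_zero φ)
  map_add' _ _ := Subtype.ext (map_add φ _ _)

set_option backward.isDefEq.respectTransparency false in
lemma map_toSpecZero (φ : 𝒜 →+*ᵍ ℬ)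
    (hφ : HomogeneousIdeal.irrelevant ℬ ≤ (HomogeneousIdeal.irrelevant 𝒜).map φ) :
    Proj.map φ hφ ≫ Proj.toSpecZero 𝒜 =
      Proj.toSpecZero ℬ ≫ Spec.map (CommRingCat.ofHom (degZeroMap φ)) := by
  refine (Proj.mapAffineOpenCover φ hφ).openCover.hom_ext _ _ fun (s : Σ i : PNat, 𝒜 i) => ?_
  simp only [Scheme.AffineOpenCover.openCover_f, Proj.mapAffineOpenCover_f]
  rw [← Category.assoc, Proj.awayι_comp_map φ hφ s.1.2 (s.2 : A) s.2.2, Category.assoc,
    Proj.awayι_toSpecZero, Proj.awayι_toSpecZero_assoc, ← Spec.map_comp, ← Spec.map_comp]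
  congr 1
  ext a
  simp only [CommRingCat.hom_comp, CommRingCat.hom_ofHom, RingHom.comp_apply]
  change (HomogeneousLocalization.map φ _ (HomogeneousLocalization.mk _)).val = _
  rw [HomogeneousLocalization.map_mk]
  simp only [HomogeneousLocalization.val_mk]
  congr 1
  exact Subtype.ext (map_one φ)

lemma projMap_congr {φ ψ : 𝒜 →+*ᵍ ℬ} (h : φ = ψ)
    (hφ : HomogeneousIdeal.irrelevant ℬ ≤ (HomogeneousIdeal.irrelevant 𝒜).map φ) :
    Proj.map φ hφ = Proj.map ψ (h ▸ hφ) := by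
  subst h; rfl

end proj

variable {S P : Scheme.{u}} {𝒮 : RelProj.QCGrAlg S} {p : P ⟶ S}
  {chart : ∀ (U : S.Opens) (hU : IsAffineOpen U),
    (((p ⁻¹ᵁ U : P.Opens) : Scheme.{u}) ≅ Proj (𝒮.deg U hU))}

variable (𝒮) in
/-- The structure morphism `Proj 𝒮(U) ⟶ U`. -/
noncomputable def chartBase (U : S.Opens) (hU : IsAffineOpen U) :
    Proj (𝒮.deg U hU) ⟶ U.toScheme :=
  Proj.toSpecZero (𝒮.deg U hU) ≫ Spec.map (𝒮.strZero U hU) ≫ hU.isoSpec.inv

@[reassoc]
lemma chartBase_ι (U : S.Opens) (hU : IsAffineOpen U) :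
    chartBase 𝒮 U hU ≫ U.ι =
      Proj.toSpecZero (𝒮.deg U hU) ≫ Spec.map (𝒮.strZero U hU) ≫ hU.fromSpec := by
  simp [chartBase, IsAffineOpen.isoSpec_inv_ι]

variable (hP : RelProj.IsRelProj 𝒮 p chart)
include hP

lemma chart_morphismRestrict (U : S.Opens) (hU : IsAffineOpen U) :
    p ∣_ U = (chart U hU).hom ≫ chartBase 𝒮 U hU := by
  rw [← cancel_mono U.ι, morphismRestrict_ι, Category.assoc, chartBase_ι]
  exact (hP.chart_over U hU).symm

/-- A property of morphisms local at the target holds for `p` if it holds for all charts. -/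
lemma property_of_charts {Q : MorphismProperty Scheme.{u}} [IsZariskiLocalAtTarget Q]
    (H : ∀ (U : S.Opens) (hU : IsAffineOpen U), Q (chartBase 𝒮 U hU)) : Q p := by
  refine IsZariskiLocalAtTarget.of_iSup_eq_top (fun U : S.affineOpens => U.1)
    (iSup_affineOpens_eq_top S) fun U => ?_
  rw [chart_morphismRestrict hP U.1 U.2]
  exact (Q.cancel_left_of_respectsIso _ _).mpr (H U.1 U.2)

set_option backward.isDefEq.respectTransparency.types false in
lemma isSeparated_relProj : IsSeparated p :=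
  property_of_charts hP fun U hU => by unfold chartBase; infer_instance

lemma isReduced_relProj
    (h : ∀ (U : S.Opens) (hU : IsAffineOpen U), IsReduced (Proj (𝒮.deg U hU))) : IsReduced P := by
  have key : ∀ (U : S.Opens), IsAffineOpen U → IsReduced (p ⁻¹ᵁ U).toScheme := fun U hU => by
    have := h U hU
    exact isReduced_of_isOpenImmersion (chart U hU).hom
  have : ∀ i, IsReduced ((affinePreimageCover p).X i) := fun U => key U.1 U.2
  exact IsReduced.of_openCover P (affinePreimageCover p)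

end Groth.Agent.ProjLib

namespace Groth.Agent.ProjLib

open CategoryTheory CategoryTheory.Limits AlgebraicGeometry TopologicalSpace Opposite

universe u

variable {S P P' : Scheme.{u}} {𝒮 : RelProj.QCGrAlg S} {p : P ⟶ S} {p' : P' ⟶ S}
  {chart : ∀ (U : S.Opens) (hU : IsAffineOpen U),
    (((p ⁻¹ᵁ U : P.Opens) : Scheme.{u}) ≅ Proj (𝒮.deg U hU))}
  {chart' : ∀ (U : S.Opens) (hU : IsAffineOpen U),
    (((p' ⁻¹ᵁ U : P'.Opens) : Scheme.{u}) ≅ Proj (𝒮.deg U hU))}
  (hP : RelProj.IsRelProj 𝒮 p chart) (hP' : RelProj.IsRelProj 𝒮 p' chart')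

include hP hP' in
lemma existsUnique_compareCharts :
    ∃! e : P ⟶ P', ∀ (U : S.Opens) (hU : IsAffineOpen U),
      (p ⁻¹ᵁ U).ι ≫ e = (chart U hU).hom ≫ (chart' U hU).inv ≫ (p' ⁻¹ᵁ U).ι := by
  refine existsUnique_glueAffine p
    (fun U hU => (chart U hU).hom ≫ (chart' U hU).inv ≫ (p' ⁻¹ᵁ U).ι) fun U hU r => ?_
  rw [← Category.assoc, hP.chart_res, Category.assoc]
  congr 1
  rw [Iso.eq_inv_comp, ← Category.assoc, ← hP'.chart_res, Category.assoc, Iso.hom_inv_id_assoc,
    Scheme.homOfLE_ι]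

include hP hP' in
lemma compareCharts_isIso (e : P ⟶ P') (he : ∀ (U : S.Opens) (hU : IsAffineOpen U),
      (p ⁻¹ᵁ U).ι ≫ e = (chart U hU).hom ≫ (chart' U hU).inv ≫ (p' ⁻¹ᵁ U).ι) :
    IsIso e ∧ e ≫ p' = p := by
  obtain ⟨f, hf, -⟩ := existsUnique_compareCharts hP' hP
  refine ⟨⟨f, hom_ext_affine p fun U hU => ?_, hom_ext_affine p' fun U hU => ?_⟩,
    hom_ext_affine p fun U hU => ?_⟩
  · rw [← Category.assoc, he U hU, Category.assoc, Category.assoc, hf U hU]
    simp
  · rw [← Category.assoc, hf U hU, Category.assoc, Category.assoc, he U hU]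
    simp
  · rw [← Category.assoc, he U hU, Category.assoc, Category.assoc, ← hP.chart_over U hU,
      ← hP'.chart_over U hU, Iso.inv_hom_id_assoc]

end Groth.Agent.ProjLib
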