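import Groth.Prelude.Def_BlowUp2
import Mathlib.AlgebraicGeometry.Morphisms.SchemeTheoreticallyDominant
import Mathlib.AlgebraicGeometry.Morphisms.IsIso
import Mathlib.AlgebraicGeometry.Noetherian
import Mathlib.AlgebraicGeometry.Morphisms.Flat

/-!
# First properties of blow-ups defined by the universal property
-/

namespace Groth.Agent.ProjLib

open CategoryTheory CategoryTheory.Limits AlgebraicGeometry TopologicalSpace

universe u

variable {X X' : Scheme.{u}}

lemma isEffCartierIdeal_top : BlowUp.IsEffCartierIdeal (⊤ : X.IdealSheafData) := by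
  intro x
  obtain ⟨_, ⟨U, hU, rfl⟩, hxU, -⟩ :=
    X.isBasis_affineOpens.exists_subset_of_mem_open (Set.mem_univ x) isOpen_univ
  exact ⟨⟨U, hU⟩, hxU, 1, one_mem _, by simp [Ideal.span_singleton_one]⟩

lemma comap_eq_top_of_disjoint {Y : Scheme.{u}} (I : X.IdealSheafData) (g : Y ⟶ X)
    (h : Disjoint (Set.range g) (I.support : Set X)) : I.comap g = ⊤ := by
  rw [← Scheme.IdealSheafData.support_eq_bot_iff, Scheme.IdealSheafData.support_comap]
  ext y
  simp only [Closeds.coe_preimage, Set.mem_preimage, Closeds.coe_bot, Set.mem_empty_iff_false,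
    iff_false]
  exact fun hy => Set.disjoint_left.mp h ⟨y, rfl⟩ hy

variable {π : X' ⟶ X} {I : X.IdealSheafData} (hπ : BlowUp.IsBlowUp π I)
  (W : X.Opens) (hW : Disjoint (I.support : Set X) (W : Set X))

include hπ hW in
lemma isIso_morphismRestrict : IsIso (π ∣_ W) := by
  have hι : BlowUp.IsEffCartierIdeal (I.comap W.ι) := by
    rw [comap_eq_top_of_disjoint I W.ι (by rw [Scheme.Opens.range_ι]; exact hW.symm)]
    exact isEffCartierIdeal_top
  obtain ⟨h, hh, -⟩ := hπ.2 _ W.ι hι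
  have hle : Set.range h ⊆ Set.range (π ⁻¹ᵁ W).ι := by
    rw [Scheme.Opens.range_ι]
    rintro _ ⟨w, rfl⟩
    change π (h w) ∈ W
    rw [← Scheme.Hom.comp_apply, hh]
    exact w.2
  have hg : (π ∣_ W) ≫ h = (π ⁻¹ᵁ W).ι := by
    have hc : BlowUp.IsEffCartierIdeal (I.comap ((π ⁻¹ᵁ W).ι ≫ π)) := by
      rw [comap_eq_top_of_disjoint I _ ?_]
      · exact isEffCartierIdeal_top
      · refine hW.symm.mono_left ?_
        rintro _ ⟨w, rfl⟩
        exact w.2
    obtain ⟨u, -, hu⟩ := hπ.2 _ _ hc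
    exact (hu _ (by dsimp only; rw [Category.assoc, hh, morphismRestrict_ι])).trans (hu _ rfl).symm
  refine ⟨IsOpenImmersion.lift (π ⁻¹ᵁ W).ι h hle, ?_, ?_⟩
  · rw [← cancel_mono (π ⁻¹ᵁ W).ι, Category.assoc, IsOpenImmersion.lift_fac, hg, Category.id_comp]
  · rw [← cancel_mono W.ι, Category.assoc, morphismRestrict_ι, IsOpenImmersion.lift_fac_assoc, hh,
      Category.id_comp]

lemma isSchemeTheoreticallyDominant_compl_effCartier {E : X.IdealSheafData}
    (hE : BlowUp.IsEffCartierIdeal E) (W : X.Opens) (hW : (E.support : Set X)ᶜ ⊆ W)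
    [QuasiCompact W.ι] : IsSchemeTheoreticallyDominant W.ι := by
  rw [isSchemeTheoreticallyDominant_iff]
  choose U hxU f hf hI using hE
  refine Scheme.IdealSheafData.ext_of_iSup_eq_top U
    (top_le_iff.mp fun x _ => Opens.mem_iSup.mpr ⟨x, hxU x⟩) fun x => ?_
  rw [Scheme.Hom.ker_apply, Scheme.IdealSheafData.ideal_bot, Pi.bot_apply, ← le_bot_iff]
  intro s hs
  rw [RingHom.mem_ker, Scheme.Opens.ι_app] at hs
  have hD : X.basicOpen (f x) ≤ W.ι ''ᵁ W.ι ⁻¹ᵁ (U x).1 := by
    rw [Scheme.Hom.image_preimage_eq_opensRange_inf, Scheme.Opens.opensRange_ι]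
    refine fun y hy => ⟨hW fun hy' => ?_, X.basicOpen_le _ hy⟩
    have := (E.coe_support_inter (U x)).le ⟨hy', X.basicOpen_le _ hy⟩
    exact (Scheme.mem_zeroLocus_iff _ _ _).mp this.1 (f x)
      (by rw [hI x]; exact Ideal.mem_span_singleton_self _) hy
  have h0 : (X.presheaf.map (homOfLE (X.basicOpen_le (f x))).op).hom s = 0 := by
    refine Eq.trans ?_ ((congrArg (X.presheaf.map (homOfLE hD).op).hom hs).trans (map_zero _))
    exact ConcreteCategory.congr_hom
      ((congrArg X.presheaf.map (Subsingleton.elim _ _)).trans (X.presheaf.map_comp _ _)) s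
  have := (U x).2.isLocalization_basicOpen (f x)
  obtain ⟨⟨_, n, rfl⟩, hn⟩ :=
    (IsLocalization.map_eq_zero_iff (Submonoid.powers (f x)) Γ(X, X.basicOpen (f x)) s).mp h0
  exact ((pow_mem (hf x) n).1 s hn)

include hπ in
lemma isSchemeTheoreticallyDominant_preimage [AlgebraicGeometry.IsNoetherian X] (U : X.Opens)
    [IsSchemeTheoreticallyDominant U.ι] (hU : Disjoint (I.support : Set X) (U : Set X)) :
    IsSchemeTheoreticallyDominant (π ⁻¹ᵁ U).ι := by
  let W : X.Opens := ⟨(I.support : Set X)ᶜ, I.support.isClosed.isOpen_compl⟩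
  have hUW : U ≤ W := fun x hx hx' => Set.disjoint_left.mp hU hx' hx
  have hiso : IsIso (π ∣_ W) := isIso_morphismRestrict hπ W disjoint_compl_right
  let g : (π ⁻¹ᵁ W).toScheme ⟶ X := (π ⁻¹ᵁ W).ι ≫ π
  have hflat : Flat g := by
    show Flat ((π ⁻¹ᵁ W).ι ≫ π)
    rw [← morphismRestrict_ι]
    infer_instance
  have hU' : π ⁻¹ᵁ U ≤ π ⁻¹ᵁ W := π.preimage_mono hUW
  have hpb : IsPullback (π ∣_ U) (X'.homOfLE hU') U.ι g := by
    refine (IsOpenImmersion.isPullback _ _ _ _ ?_ ?_)
    · simp [g, morphismRestrict_ι]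
    · rw [Scheme.opensRange_homOfLE, Scheme.Opens.opensRange_ι]
      rfl
  have : QuasiCompact U.ι := inferInstance
  have := IsSchemeTheoreticallyDominant.of_isPullback hpb
  have hW : IsSchemeTheoreticallyDominant (π ⁻¹ᵁ W).ι := by
    have : QuasiCompact W.ι := inferInstance
    have : QuasiCompact (π ⁻¹ᵁ W).ι :=
      MorphismProperty.of_isPullback (P := @QuasiCompact.{u}) (isPullback_morphismRestrict π W) this
    refine isSchemeTheoreticallyDominant_compl_effCartier hπ.1 _ ?_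
    rw [Scheme.IdealSheafData.support_comap]
    exact subset_rfl
  rw [← X'.homOfLE_ι hU']
  infer_instance

end Groth.Agent.ProjLib
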