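import Groth.Prelude.Def_AffAlg
import Mathlib.AlgebraicGeometry.Morphisms.ClosedImmersion
import Mathlib.AlgebraicGeometry.Morphisms.IsIso
import Mathlib.AlgebraicGeometry.Morphisms.Separated

/-!
# Affine schemes over a base and their algebras
-/

namespace Groth.Agent.ProjLib

open CategoryTheory CategoryTheory.Limits AlgebraicGeometry TopologicalSpace Opposite

universe u

variable {X Y S : Scheme.{u}} (f : X ⟶ S) (g : Y ⟶ S) (h : Y ⟶ X) (w : h ≫ f = g)

lemma algHom_app_bijective_iff (U : S.Opens) :
    Function.Bijective ((AffAlg.algHom f g h w).app (op U)).hom ↔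
      Function.Bijective (h.app (f ⁻¹ᵁ U)).hom := by
  subst w
  exact Iff.rfl

lemma algHom_app_surjective_iff (U : S.Opens) :
    Function.Surjective ((AffAlg.algHom f g h w).app (op U)).hom ↔
      Function.Surjective (h.app (f ⁻¹ᵁ U)).hom := by
  subst w
  exact Iff.rfl

include w in
lemma isAffineHom_over [IsAffineHom f] [IsAffineHom g] : IsAffineHom h :=
  have : IsAffineHom (h ≫ f) := by rw [w]; infer_instance
  MorphismProperty.of_postcomp (W := @IsAffineHom.{u}) (W' := @IsSeparated.{u}) h f
    inferInstance this

lemma iSup_preimage_affineOpens :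
    ⨆ U : S.affineOpens, f ⁻¹ᵁ U.1 = ⊤ := by
  rw [← Scheme.Hom.preimage_iSup, iSup_affineOpens_eq_top, Scheme.Hom.preimage_top]

lemma appTop_morphismRestrict_surjective (V : X.Opens)
    (H : Function.Surjective (h.app V).hom) : Function.Surjective (h ∣_ V).appTop.hom := by
  have key : ∀ V' : X.Opens, V' = V → Function.Surjective (h.app V').hom := by
    rintro _ rfl; exact H
  rw [morphismRestrict_appTop]
  exact Function.Surjective.comp
    (g := (Y.presheaf.map (eqToHom (image_morphismRestrict_preimage h V ⊤)).op).hom)
    (f := (h.app (V.ι ''ᵁ ⊤)).hom)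
    (ConcreteCategory.bijective_of_isIso _).surjective (key _ V.ι_image_top)

lemma appTop_morphismRestrict_injective (V : X.Opens)
    (H : Function.Injective (h.app V).hom) : Function.Injective (h ∣_ V).appTop.hom := by
  have key : ∀ V' : X.Opens, V' = V → Function.Injective (h.app V').hom := by
    rintro _ rfl; exact H
  rw [morphismRestrict_appTop]
  exact Function.Injective.comp
    (g := (Y.presheaf.map (eqToHom (image_morphismRestrict_preimage h V ⊤)).op).hom)
    (f := (h.app (V.ι ''ᵁ ⊤)).hom)
    (ConcreteCategory.bijective_of_isIso _).injective (key _ V.ι_image_top)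

set_option backward.isDefEq.respectTransparency.types false in
include w in
lemma isClosedImmersion_of_app_surjective [IsAffineHom f] [IsAffineHom g]
    (H : ∀ U : S.affineOpens, Function.Surjective (h.app (f ⁻¹ᵁ U.1)).hom) :
    IsClosedImmersion h := by
  have := isAffineHom_over f g h w
  exact HasAffineProperty.of_iSup_eq_top (P := @IsClosedImmersion.{u})
    (fun U : S.affineOpens => ⟨f ⁻¹ᵁ U.1, U.2.preimage f⟩) (iSup_preimage_affineOpens f)
    fun U => ⟨(U.2.preimage f).preimage h, appTop_morphismRestrict_surjective h _ (H U)⟩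

set_option backward.isDefEq.respectTransparency.types false in
include w in
lemma isIso_of_app_bijective [IsAffineHom f] [IsAffineHom g]
    (H : ∀ U : S.affineOpens, Function.Bijective (h.app (f ⁻¹ᵁ U.1)).hom) : IsIso h := by
  have := isClosedImmersion_of_app_surjective f g h w fun U => (H U).surjective
  refine IsZariskiLocalAtTarget.of_iSup_eq_top (P := MorphismProperty.isomorphisms Scheme.{u})
    (fun U : S.affineOpens => f ⁻¹ᵁ U.1) (iSup_preimage_affineOpens f) fun U => ?_
  have hU : IsAffine (f ⁻¹ᵁ U.1).toScheme := U.2.preimage f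
  exact IsClosedImmersion.isIso_of_injective_of_isAffine (f := h ∣_ f ⁻¹ᵁ U.1)
    (appTop_morphismRestrict_injective h _ (H U).injective)

lemma isIso_algHom [IsIso h] : IsIso (AffAlg.algHom f g h w) := by
  have : ∀ U, IsIso ((AffAlg.algHom f g h w).app U) := fun U =>
    (ConcreteCategory.isIso_iff_bijective _).mpr
      ((algHom_app_bijective_iff f g h w U.unop).mpr (ConcreteCategory.bijective_of_isIso _))
  exact NatIso.isIso_of_isIso_app _

end Groth.Agent.ProjLib
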