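import Groth.Agent.ProjLib.RelProjBasics

/-!
# Finiteness of relative `Proj`
-/

set_option linter.unusedSectionVars false

namespace Groth.Agent.ProjLib

open CategoryTheory CategoryTheory.Limits AlgebraicGeometry TopologicalSpace Opposite
open HomogeneousLocalization

universe u

variable {S P : Scheme.{u}} {𝒮 : RelProj.QCGrAlg S} {p : P ⟶ S}
  {chart : ∀ (U : S.Opens) (hU : IsAffineOpen U),
    (((p ⁻¹ᵁ U : P.Opens) : Scheme.{u}) ≅ Proj (𝒮.deg U hU))}

lemma finiteType_degZero {U : S.Opens} (hU : IsAffineOpen U)
    (h : (𝒮.str.app (op U)).hom.FiniteType) :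
    Algebra.FiniteType (𝒮.deg U hU 0) (𝒮.presheaf.obj (op U)) ∧
      (𝒮.strZero U hU).hom.FiniteType := by
  constructor
  · let ι₀ : 𝒮.deg U hU 0 →+* 𝒮.presheaf.obj (op U) := algebraMap _ _
    have h' : (ι₀.comp (𝒮.strZero U hU).hom).FiniteType := h
    exact h'.of_comp_finiteType
  · have hs : Function.Surjective (GradedRing.projZeroRingHom' (𝒮.deg U hU)) :=
      GradedRing.projZeroRingHom'_surjective _
    have e : (𝒮.strZero U hU).hom =
        (GradedRing.projZeroRingHom' (𝒮.deg U hU)).comp (𝒮.str.app (op U)).hom := by
      refine RingHom.ext fun r => Subtype.ext ?_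
      exact (DirectSum.decompose_of_mem_same _ (𝒮.str_mem U hU r)).symm
    rw [e]
    exact h.comp_surjective hs

variable (hP : RelProj.IsRelProj 𝒮 p chart)
include hP

set_option backward.isDefEq.respectTransparency.types false in
lemma finiteType_relProj
    (hft : ∀ (U : S.Opens) (_ : IsAffineOpen U), (𝒮.str.app (op U)).hom.FiniteType) :
    LocallyOfFiniteType p ∧ QuasiCompact p := by
  constructor
  · refine property_of_charts hP fun U hU => ?_
    have := (finiteType_degZero hU (hft U hU)).1
    have h2 : LocallyOfFiniteType (Spec.map (𝒮.strZero U hU)) :=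
      (HasRingHomProperty.Spec_iff (P := @LocallyOfFiniteType)).mpr
        (finiteType_degZero hU (hft U hU)).2
    unfold chartBase
    infer_instance
  · refine property_of_charts hP fun U hU => ?_
    have := (finiteType_degZero hU (hft U hU)).1
    unfold chartBase
    infer_instance

end Groth.Agent.ProjLib
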