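import Groth.Prelude.Def_BlowUp2

/-!
# Affine blow-up algebras: localisation and quotients
-/

namespace Groth.Agent.ProjLib

open IsLocalization

universe u

variable {A A₁ : Type u} [CommRing A] [CommRing A₁]

lemma awayMap_algebraMap (g : A →+* A₁) (π r : A) :
    Localization.awayMap g π (algebraMap A (Localization.Away π) r) =
      algebraMap A₁ (Localization.Away (g π)) (g r) :=
  IsLocalization.map_eq _ r

lemma awayMap_mk' (g : A →+* A₁) (π r : A) (n : ℕ) :
    Localization.awayMap g π (mk' (Localization.Away π) r (⟨π ^ n, n, rfl⟩ : Submonoid.powers π)) =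
      mk' (Localization.Away (g π)) (g r) (⟨g π ^ n, n, rfl⟩ : Submonoid.powers (g π)) := by
  refine (IsLocalization.map_mk' _ r _).trans ?_
  congr 1
  exact Subtype.ext (map_pow g π n)

lemma frac_mem_affineAlgebra {I : Ideal A} {π : A} {x : A} (hx : x ∈ I) :
    mk' (Localization.Away π) x ⟨π, Submonoid.mem_powers π⟩ ∈ BlowUp.affineAlgebra A I π :=
  Algebra.subset_adjoin ⟨x, hx, rfl⟩

section quotient

variable [Algebra A A₁] (hq : Function.Surjective (algebraMap A A₁)) {I : Ideal A} {π : A}
  (ψ : BlowUp.affineAlgebra A I π →+*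
    BlowUp.affineAlgebra A₁ (I.map (algebraMap A A₁)) (algebraMap A A₁ π))
  (hψ : ∀ x : BlowUp.affineAlgebra A I π,
    ((ψ x : BlowUp.affineAlgebra A₁ (I.map (algebraMap A A₁)) (algebraMap A A₁ π)) :
        Localization.Away (algebraMap A A₁ π)) =
      Localization.awayMap (algebraMap A A₁) π (x : Localization.Away π))

include hq hψ in
lemma affineAlgebra_map_surjective : Function.Surjective ψ := by
  rintro ⟨z, hz⟩
  suffices ∃ y, (ψ y).1 = z by
    obtain ⟨y, hy⟩ := this
    exact ⟨y, Subtype.ext hy⟩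
  unfold BlowUp.affineAlgebra at hz
  induction hz using Algebra.adjoin_induction with
  | mem z hz =>
    obtain ⟨x, hx, rfl⟩ := hz
    obtain ⟨x', hx', rfl⟩ := (Ideal.mem_map_iff_of_surjective _ hq).mp hx
    refine ⟨⟨_, frac_mem_affineAlgebra hx'⟩, ?_⟩
    rw [hψ]
    simpa using awayMap_mk' (algebraMap A A₁) π x' 1
  | algebraMap r =>
    obtain ⟨r', rfl⟩ := hq r
    exact ⟨algebraMap A _ r', by rw [hψ]; exact awayMap_algebraMap (algebraMap A A₁) π r'⟩
  | add a b _ _ iha ihb =>
    obtain ⟨a', rfl⟩ := iha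
    obtain ⟨b', rfl⟩ := ihb
    exact ⟨a' + b', by rw [map_add]; rfl⟩
  | mul a b _ _ iha ihb =>
    obtain ⟨a', rfl⟩ := iha
    obtain ⟨b', rfl⟩ := ihb
    exact ⟨a' * b', by rw [map_mul]; rfl⟩

include hψ in
lemma affineAlgebra_map_ker (x : BlowUp.affineAlgebra A I π) :
    x ∈ RingHom.ker ψ ↔
      ∃ n : ℕ, algebraMap A (BlowUp.affineAlgebra A I π) π ^ n * x ∈
        (RingHom.ker (algebraMap A A₁)).map (algebraMap A (BlowUp.affineAlgebra A I π)) := by
  obtain ⟨⟨a, ⟨_, k, rfl⟩⟩, hak⟩ :=
    IsLocalization.mk'_surjective (Submonoid.powers π) (x : Localization.Away π)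
  have hπ : (ψ (algebraMap A _ π)).1 = algebraMap A₁ (Localization.Away _) (algebraMap A A₁ π) := by
    rw [hψ]; exact awayMap_algebraMap _ π π
  constructor
  · intro hx
    have h1 : (ψ x).1 = 0 := by rw [RingHom.mem_ker.mp hx]; rfl
    rw [hψ, ← hak, Localization.awayMap, IsLocalization.Away.map, IsLocalization.map_mk',
      mk'_eq_zero_iff] at h1
    obtain ⟨⟨_, m, rfl⟩, hm⟩ := h1
    refine ⟨m + k, ?_⟩
    have e : algebraMap A (BlowUp.affineAlgebra A I π) π ^ (m + k) * x =
        algebraMap A _ (π ^ m * a) := by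
      refine Subtype.ext ?_
      change algebraMap A (Localization.Away π) π ^ (m + k) * x.1 =
        algebraMap A (Localization.Away π) (π ^ m * a)
      rw [← hak, pow_add, mul_assoc, map_mul, map_pow]
      congr 1
      rw [← map_pow]
      exact IsLocalization.mk'_spec' (Localization.Away π) a (⟨π ^ k, k, rfl⟩ : Submonoid.powers π)
    rw [e]
    refine Ideal.mem_map_of_mem _ ?_
    rw [RingHom.mem_ker, map_mul, map_pow]
    exact hm
  · rintro ⟨n, hn⟩
    have hle : (RingHom.ker (algebraMap A A₁)).map (algebraMap A (BlowUp.affineAlgebra A I π)) ≤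
        RingHom.ker ψ := Ideal.map_le_iff_le_comap.mpr fun j hj => by
      rw [Ideal.mem_comap, RingHom.mem_ker]
      refine Subtype.ext ?_
      rw [hψ]
      refine (awayMap_algebraMap _ π j).trans ?_
      rw [RingHom.mem_ker.mp hj, map_zero]
      rfl
    have h1 : (ψ (algebraMap A _ π) ^ n * ψ x).1 = 0 := by
      rw [← map_pow, ← map_mul, RingHom.mem_ker.mp (hle hn)]; rfl
    change (ψ (algebraMap A _ π)).1 ^ n * (ψ x).1 = 0 at h1
    rw [hπ] at h1
    refine RingHom.mem_ker.mpr (Subtype.ext ?_)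
    exact ((IsLocalization.Away.algebraMap_isUnit (algebraMap A A₁ π)).pow n).mul_right_eq_zero.mp h1

end quotient

section localization

variable (a : A) {I : Ideal A} {π : A}
  (ψ : BlowUp.affineAlgebra A I π →+*
    BlowUp.affineAlgebra (Localization.Away a) (I.map (algebraMap A (Localization.Away a)))
      (algebraMap A (Localization.Away a) π))
  (hψ : ∀ x : BlowUp.affineAlgebra A I π,
    ((ψ x : BlowUp.affineAlgebra (Localization.Away a) (I.map (algebraMap A (Localization.Away a))) (algebraMap A (Localization.Away a) π)) :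
        Localization.Away (algebraMap A (Localization.Away a) π)) =
      Localization.awayMap (algebraMap A (Localization.Away a)) π (x : Localization.Away π))

include hψ in
lemma affineAlgebra_localization :
    letI := ψ.toAlgebra
    IsLocalization.Away (algebraMap A (BlowUp.affineAlgebra A I π) a)
      (BlowUp.affineAlgebra (Localization.Away a) (I.map (algebraMap A (Localization.Away a)))
        (algebraMap A (Localization.Away a) π)) := by
  letI := ψ.toAlgebra
  have hval : ∀ r : A, (ψ (algebraMap A _ r)).1 =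
      algebraMap (Localization.Away a) (Localization.Away _) (algebraMap A (Localization.Away a) r) :=
    fun r => by rw [hψ]; exact awayMap_algebraMap _ π r
  refine IsLocalization.Away.mk _ ?_ ?_ ?_
  · refine IsUnit.of_mul_eq_one (algebraMap (Localization.Away a) _ (IsLocalization.Away.invSelf a)) ?_
    refine Subtype.ext ?_
    change (ψ (algebraMap A _ a)).1 * algebraMap _ (Localization.Away _) _ = 1
    rw [hval, ← map_mul, IsLocalization.Away.mul_invSelf, map_one]
  · rintro ⟨z, hz⟩
    suffices ∃ (n : ℕ) (y : BlowUp.affineAlgebra A I π),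
        z * (ψ (algebraMap A _ a)).1 ^ n = (ψ y).1 by
      obtain ⟨n, y, hy⟩ := this
      exact ⟨n, y, Subtype.ext hy⟩
    unfold BlowUp.affineAlgebra at hz
    induction hz using Algebra.adjoin_induction with
    | mem z hz =>
      obtain ⟨x, hx, rfl⟩ := hz
      obtain ⟨⟨⟨y, hy⟩, ⟨_, n, rfl⟩⟩, e⟩ :=
        (IsLocalization.mem_map_algebraMap_iff (Submonoid.powers a) _).mp hx
      refine ⟨n, ⟨_, frac_mem_affineAlgebra hy⟩, ?_⟩
      change x * algebraMap A (Localization.Away a) (a ^ n) = algebraMap A (Localization.Away a) y at e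
      have h2 := awayMap_mk' (algebraMap A (Localization.Away a)) π y 1
      simp only [pow_one] at h2
      rw [hψ (⟨_, frac_mem_affineAlgebra hy⟩ : BlowUp.affineAlgebra A I π), hval, h2, ← map_pow,
        ← map_pow, mul_comm, IsLocalization.mul_mk'_eq_mk'_of_mul, mul_comm, e]
    | algebraMap r =>
      obtain ⟨n, b, e⟩ := IsLocalization.Away.surj a r
      refine ⟨n, algebraMap A _ b, ?_⟩
      rw [hval, hval, ← map_pow, ← map_mul, e]
    | add u v _ _ ihu ihv =>
      obtain ⟨n, u', hu⟩ := ihu
      obtain ⟨m, v', hv⟩ := ihv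
      refine ⟨n + m, algebraMap A _ a ^ m * u' + algebraMap A _ a ^ n * v', ?_⟩
      rw [map_add, map_mul, map_mul, map_pow, map_pow]
      change (u + v) * (ψ (algebraMap A _ a)).1 ^ (n + m) =
        (ψ (algebraMap A _ a)).1 ^ m * (ψ u').1 + (ψ (algebraMap A _ a)).1 ^ n * (ψ v').1
      rw [← hu, ← hv]; ring
    | mul u v _ _ ihu ihv =>
      obtain ⟨n, u', hu⟩ := ihu
      obtain ⟨m, v', hv⟩ := ihv
      refine ⟨n + m, u' * v', ?_⟩
      rw [map_mul]
      change u * v * (ψ (algebraMap A _ a)).1 ^ (n + m) = (ψ u').1 * (ψ v').1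
      rw [← hu, ← hv]; ring
  · intro x y hxy
    have h1 : Localization.awayMap (algebraMap A (Localization.Away a)) π (x.1 - y.1) = 0 := by
      rw [map_sub, ← hψ, ← hψ]
      exact sub_eq_zero.mpr (congrArg Subtype.val hxy)
    obtain ⟨⟨b, ⟨_, k, rfl⟩⟩, hbk⟩ :=
      IsLocalization.mk'_surjective (Submonoid.powers π) (x.1 - y.1)
    rw [← hbk, Localization.awayMap, IsLocalization.Away.map, IsLocalization.map_mk',
      mk'_eq_zero_iff] at h1
    obtain ⟨⟨_, m, rfl⟩, hm⟩ := h1
    change algebraMap A (Localization.Away a) π ^ m * algebraMap A _ b = 0 at hm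
    rw [← map_pow, ← map_mul, IsLocalization.map_eq_zero_iff (Submonoid.powers a)] at hm
    obtain ⟨⟨_, n, rfl⟩, hn⟩ := hm
    refine ⟨n, sub_eq_zero.mp ?_⟩
    rw [← mul_sub]
    refine Subtype.ext ?_
    change algebraMap A (Localization.Away π) a ^ n * (x.1 - y.1) = 0
    rw [← hbk, ← map_pow, IsLocalization.mul_mk'_eq_mk'_of_mul, mk'_eq_zero_iff]
    refine ⟨⟨π ^ m, m, rfl⟩, ?_⟩
    change π ^ m * (a ^ n * b) = 0
    rw [mul_left_comm]
    exact hn

end localization

end Groth.Agent.ProjLib
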