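import Groth.Agent.ProjLib.QMapTN
import Mathlib.AlgebraicGeometry.Morphisms.Immersion

/-!
# Composition of `Proj(u)` with `Proj` of a graded homomorphism
-/

set_option linter.unusedSectionVars false
set_option autoImplicit false
set_option backward.isDefEq.respectTransparency.types false

namespace Groth.Agent.QProj

open CategoryTheory CategoryTheory.Limits AlgebraicGeometry TopologicalSpace Opposite HomogeneousLocalization
open scoped HomogeneousIdeal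
open Groth.Agent.ProjLib (awayMapTo awayMapTo_mk awayMapTo_rfl)

universe u

section ring

variable {σ A : Type u} [CommRing A] [SetLike σ A] [AddSubgroupClass σ A] {𝒜 : ℕ → σ}
  [GradedRing 𝒜] {τ B : Type u} [CommRing B] [SetLike τ B] [AddSubgroupClass τ B]
  {ℬ : ℕ → τ} [GradedRing ℬ] {ρ C : Type u} [CommRing C] [SetLike ρ C] [AddSubgroupClass ρ C]
  {𝒞 : ℕ → ρ} [GradedRing 𝒞]

lemma awayMapTo_comp (ψ : 𝒜 →+*ᵍ ℬ) (χ : ℬ →+*ᵍ 𝒞) (π : 𝒜 →+*ᵍ 𝒞) (h : ∀ a, χ (ψ a) = π a) {d : ℕ} {f : A}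
    (hf : f ∈ 𝒜 d) (g : B) (e : ψ f = g) (k : C) (e' : χ g = k) (e'' : π f = k) :
    (awayMapTo χ g k e').comp (awayMapTo ψ f g e) = awayMapTo π f k e'' := by
  refine RingHom.ext fun q => ?_
  obtain ⟨n, a, ha, rfl⟩ := Away.mk_surjective 𝒜 hf q
  rw [RingHom.comp_apply, awayMapTo_mk, awayMapTo_mk, awayMapTo_mk]
  apply HomogeneousLocalization.val_injective
  simp [Away.val_mk, h]

end ring

variable {S S' P Q P' : Scheme.{u}} {g : S' ⟶ S} {𝒮 : RelProj.QCGrAlg S} {𝒯 : RelProj.QCGrAlg S}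
  {𝒮' : RelProj.QCGrAlg S'} (u : RelProj.QGrHom g 𝒮 𝒮') (w : 𝒯.toQCAlg ⟶ 𝒮.toQCAlg) (hw : RelProj.IsGradedHom w)
  (u' : RelProj.QGrHom g 𝒯 𝒮') (hu' : ∀ U : S.Opens, u'.app U = w.hom.app (op U) ≫ u.app U)
  {p : P ⟶ S}
  {chart : ∀ (U : S.Opens) (hU : IsAffineOpen U), (((p ⁻¹ᵁ U : P.Opens) : Scheme.{u}) ≅ Proj (𝒮.deg U hU))}
  (hP : RelProj.IsRelProj 𝒮 p chart) {pQ : Q ⟶ S}
  {chartQ : ∀ (U : S.Opens) (hU : IsAffineOpen U), (((pQ ⁻¹ᵁ U : Q.Opens) : Scheme.{u}) ≅ Proj (𝒯.deg U hU))}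
  (hQ : RelProj.IsRelProj 𝒯 pQ chartQ) {p' : P' ⟶ S'}
  {chart' : ∀ (U' : S'.Opens) (hU' : IsAffineOpen U'), (((p' ⁻¹ᵁ U' : P'.Opens) : Scheme.{u}) ≅ Proj (𝒮'.deg U' hU'))}
  (hP' : RelProj.IsRelProj 𝒮' p' chart')

include hu' in
lemma gradedAt_comp' (U : S.Opens) (hU : IsAffineOpen U) (U' : S'.Opens) (hU' : IsAffineOpen U')
    (hle : U' ≤ g ⁻¹ᵁ U) (t : 𝒯.presheaf.obj (op U)) :
    u.gradedAt U hU U' hU' hle ((w.hom.app (op U)).hom t) = u'.gradedAt U hU U' hU' hle t := by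
  show (u.app U ≫ _).hom ((w.hom.app (op U)).hom t) = (u'.app U ≫ _).hom t
  rw [hu']
  rfl

include hu' hw in
lemma domQ_comp_le : RelProj.domQ u' p' chart' ≤ RelProj.domQ u p' chart' := by
  intro z hz
  obtain ⟨⟨⟨⟨V, hV⟩, ⟨V', hV'⟩⟩, hle⟩, hmem⟩ := Opens.mem_iSup.mp hz
  obtain ⟨d, hd, f, hf, hzf⟩ := (mem_emb_domOpen_iff u' V hV V' hV' hle z).mp hmem
  exact Opens.mem_iSup.mpr ⟨⟨(⟨V, hV⟩, ⟨V', hV'⟩), hle⟩, (mem_emb_domOpen_iff u V hV V' hV' hle z).mpr
    ⟨d, hd, _, hw V hV d f hf, (gradedAt_comp' u w u' hu' V hV V' hV' hle f).symm ▸ hzf⟩⟩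

include hP hP' hu' hw in
theorem exists_factor
    {r : (RelProj.domQ u p' chart').toScheme ⟶ P}
    (hr : RelProj.IsProjQMapOn u p chart p' chart' (RelProj.domQ u p' chart') r)
    {r' : (RelProj.domQ u' p' chart').toScheme ⟶ Q}
    (hr' : RelProj.IsProjQMapOn u' pQ chartQ p' chart' (RelProj.domQ u' p' chart') r')
    {Φ : (RelProj.domQ (RelProj.QGrHom.ofHom w hw) p chart).toScheme ⟶ Q}
    (hΦ : RelProj.IsProjQMapOn (RelProj.QGrHom.ofHom w hw) pQ chartQ p chart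
      (RelProj.domQ (RelProj.QGrHom.ofHom w hw) p chart) Φ) :
    ∃ k : (RelProj.domQ u' p' chart').toScheme ⟶ (RelProj.domQ (RelProj.QGrHom.ofHom w hw) p chart).toScheme,
      k ≫ (RelProj.domQ (RelProj.QGrHom.ofHom w hw) p chart).ι =
        P'.homOfLE (domQ_comp_le u w hw u' hu') ≫ r ∧ k ≫ Φ = r' := by
  let j := P'.homOfLE (domQ_comp_le u w hw u' hu' (p' := p') (chart' := chart'))
  have hj : ∀ x, (j x).1 = x.1 := fun x => apply_eq (Scheme.homOfLE_ι P' _) x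
  have hrange : Set.range (j ≫ r) ⊆ Set.range (RelProj.domQ (RelProj.QGrHom.ofHom w hw) p chart).ι := by
    rw [Scheme.Opens.range_ι]
    rintro _ ⟨x, rfl⟩
    obtain ⟨⟨⟨⟨V, hV⟩, ⟨V', hV'⟩⟩, hle⟩, hmem⟩ := Opens.mem_iSup.mp x.2
    obtain ⟨d, hd, t, ht, hxt⟩ := (mem_emb_domOpen_iff u' V hV V' hV' hle x.1).mp hmem
    rw [← gradedAt_comp' u w u' hu', ← hj x] at hxt
    have hxV : p' (j x).1 ∈ V' := nz_le V' hV' _ hxt
    have h1 := (mem_preimage_nz_iff u hP hP' hr V hV V' hV' hle hd (hw V hV d t ht) (j x) hxV).mpr hxt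
    refine (mem_domQ_iff (RelProj.QGrHom.ofHom w hw) hP V hV V hV le_rfl (nz_le V hV _ h1)).mpr ⟨d, hd, t, ht, ?_⟩
    rw [gradedAt_ofHom_apply]
    exact h1
  let k := IsOpenImmersion.lift _ (j ≫ r) hrange
  have hk : k ≫ (RelProj.domQ (RelProj.QGrHom.ofHom w hw) p chart).ι = j ≫ r := IsOpenImmersion.lift_fac _ _ _
  refine ⟨k, hk, eq_of_isProjQMapOn u' hP' ?_ hr'⟩
  intro U hU U' hU' hle d hd t ht hW
  let c : Pair g := ⟨(⟨U, hU⟩, ⟨U', hU'⟩), hle⟩
  let e : Pair (𝟙 S) := ⟨(⟨U, hU⟩, ⟨U, hU⟩), le_rfl⟩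
  let ψw := (RelProj.QGrHom.ofHom w hw).gradedAt U hU U hU le_rfl
  have ew : ψw t = (w.hom.app (op U)).hom t := gradedAt_ofHom_apply w hw U hU t
  have eu : u.gradedAt U hU U' hU' hle (ψw t) = u'.gradedAt U hU U' hU' hle t := by
    rw [ew, gradedAt_comp' u w u' hu']
  have hwt : ψw t ∈ 𝒮.deg U hU d := Graded.map_mem ψw ht
  have key : IsOpenImmersion.lift (RelProj.domQ u' p' chart').ι (RelProj.awayEmb u' p' chart' U hU U' hU' hle hd t ht) hW ≫ k =
      Spec.map (CommRingCat.ofHom (awayMapTo (u.gradedAt U hU U' hU' hle) (ψw t) _ eu)) ≫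
        IsOpenImmersion.lift (RelProj.domQ (RelProj.QGrHom.ofHom w hw) p chart).ι
          (RelProj.awayEmb (RelProj.QGrHom.ofHom w hw) p chart U hU U hU le_rfl hd t ht)
          (RelProj.range_awayEmb_subset_domQ _ p chart U hU U hU le_rfl hd t ht) := by
    rw [← cancel_mono (RelProj.domQ (RelProj.QGrHom.ofHom w hw) p chart).ι, Category.assoc, Category.assoc, hk,
      IsOpenImmersion.lift_fac]
    have h1 : IsOpenImmersion.lift (RelProj.domQ u' p' chart').ι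
          (RelProj.awayEmb u' p' chart' U hU U' hU' hle hd t ht) hW ≫ j =
        ProjLib.domChart (psi u c) hd hwt _ eu ≫ incl u chart' c := by
      rw [← cancel_mono (RelProj.domQ u p' chart').ι, Category.assoc, Category.assoc, incl_ι,
        Scheme.homOfLE_ι, IsOpenImmersion.lift_fac, ← Category.assoc, ProjLib.domChart_ι]
      rfl
    rw [← Category.assoc, h1, Category.assoc, incl_comp_of_isProjQMapOn u hr c, piece, ← Category.assoc,
      ProjLib.domChart_domMap, Category.assoc]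
    rfl
  rw [← Category.assoc, key, Category.assoc, hΦ U hU U hU le_rfl d hd t ht
    (RelProj.range_awayEmb_subset_domQ _ p chart U hU U hU le_rfl hd t ht), ← Spec.map_comp_assoc,
    ← CommRingCat.ofHom_comp]
  congr 3
  rw [← awayMapTo_rfl ψw, ← awayMapTo_rfl (u'.gradedAt U hU U' hU' hle)]
  exact awayMapTo_comp ψw (u.gradedAt U hU U' hU' hle) (u'.gradedAt U hU U' hU' hle)
    (fun a => (congrArg (u.gradedAt U hU U' hU' hle) (gradedAt_ofHom_apply w hw U hU a)).trans (gradedAt_comp' u w u' hu' U hU U' hU' hle a)) ht _ rfl _ eu rfl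

include hP hQ hP' hu' hw in
/-- If the composite is everywhere defined and an immersion then so is `Proj(u)`. -/
theorem isImmersion_of_comp
    {r : (RelProj.domQ u p' chart').toScheme ⟶ P}
    (hr : RelProj.IsProjQMapOn u p chart p' chart' (RelProj.domQ u p' chart') r)
    {r' : (RelProj.domQ u' p' chart').toScheme ⟶ Q}
    (hr' : RelProj.IsProjQMapOn u' pQ chartQ p' chart' (RelProj.domQ u' p' chart') r')
    (hdef : RelProj.domQ u' p' chart' = ⊤) [IsImmersion r'] :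
    RelProj.domQ u p' chart' = ⊤ ∧ IsImmersion r := by
  have hle := domQ_comp_le u w hw u' hu' (p' := p') (chart' := chart')
  have htop : RelProj.domQ u p' chart' = ⊤ := top_le_iff.mp (hdef ▸ hle)
  obtain ⟨Φ, hΦ, -⟩ := existsUnique_qMap (RelProj.QGrHom.ofHom w hw) hQ hP
  obtain ⟨k, hk, hk'⟩ := exists_factor u w hw u' hu' hP hP' hr hr' hΦ
  refine ⟨htop, ?_⟩
  have : IsImmersion (k ≫ Φ) := by rw [hk']; infer_instance
  have : IsImmersion k := IsImmersion.of_comp k Φ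
  have h2 : IsImmersion (k ≫ (RelProj.domQ (RelProj.QGrHom.ofHom w hw) p chart).ι) := inferInstance
  rw [hk] at h2
  have hiso : IsIso (P'.homOfLE hle) := by
    have e : RelProj.domQ u' p' chart' = RelProj.domQ u p' chart' := hdef.trans htop.symm
    rw [← Scheme.isoOfEq_hom P' e]
    infer_instance
  exact (MorphismProperty.cancel_left_of_respectsIso (P := @IsImmersion.{u}) (P'.homOfLE hle) r).mp h2

end Groth.Agent.QProj
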