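import Groth.Agent.ProjLib.QCrit
import Groth.Agent.ProjLib.QComp
import Groth.Agent.ProjLib.QDominant

/-!
# Finitely many sections decide whether `Proj(u)` is an immersion
-/

set_option linter.unusedSectionVars false
set_option autoImplicit false
set_option backward.isDefEq.respectTransparency.types false

namespace Groth.Agent.QProj

open CategoryTheory CategoryTheory.Limits AlgebraicGeometry TopologicalSpace Opposite HomogeneousLocalization
open scoped HomogeneousIdeal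
open Groth.Agent.Coherent Groth.Agent.PicLib Groth.Agent.AmpleLib

universe u

variable {Y X P PL : Scheme.{u}} {q : X ⟶ Y} {L : X.Modules} {𝒮 : RelProj.QCGrAlg Y} {𝒮L : RelProj.QCGrAlg X}
  {j : L ⟶ 𝒮L.toModule} [Coh.IsQCoh L] (hj : RelProj.IsGrSymAlg L 𝒮L j) (hL : PicF.IsInvertible L)
  (u : RelProj.QGrHom q 𝒮 𝒮L) {p : P ⟶ Y}
  {chart : ∀ (U : Y.Opens) (hU : IsAffineOpen U), (((p ⁻¹ᵁ U : P.Opens) : Scheme.{u}) ≅ Proj (𝒮.deg U hU))}
  (hP : RelProj.IsRelProj 𝒮 p chart) {pL : PL ⟶ X}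
  {chartL : ∀ (U : X.Opens) (hU : IsAffineOpen U), (((pL ⁻¹ᵁ U : PL.Opens) : Scheme.{u}) ≅ Proj (𝒮L.deg U hU))}
  (hPL : RelProj.IsRelProj 𝒮L pL chartL)
  {r : (RelProj.domQ u pL chartL).toScheme ⟶ P}
  (hr : RelProj.IsProjQMapOn u p chart pL chartL (RelProj.domQ u pL chartL) r)

include hj hL in
/-- Values of `theta` at degree `0`. -/
lemma theta_mk_zero [IsIso pL] {U : Y.Opens} (hU : IsAffineOpen U) {n : ℕ} (hn : 0 < n)
    {s : 𝒮.presheaf.obj (op U)} (hs : s ∈ 𝒮.deg U hU n) {XT : X.Opens} (h : IsSOpen u chartL U hU s XT)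
    (a : Γ(Y, U)) (ha : (𝒮.str.app (op U)).hom a ∈ 𝒮.deg U hU (0 • n)) :
    (theta u hP hPL hr hU hn hs h).hom (Away.mk (𝒮.deg U hU) hs 0 ((𝒮.str.app (op U)).hom a) ha) =
      (q.appLE U XT h.le).hom a := by
  rw [theta_mk_eq_iff hj hL u hP hPL hr hU hn hs h, pow_zero, mul_one]
  exact (ConcreteCategory.congr_hom (u.str_appLE U XT h.le) a).symm

include hj hL in
/-- Finitely many values generate. -/
lemma surjective_theta_of_gen [IsIso pL] {U : Y.Opens} (hU : IsAffineOpen U) {n : ℕ} (hn : 0 < n)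
    {s : 𝒮.presheaf.obj (op U)} (hs : s ∈ 𝒮.deg U hU n) {XT : X.Opens} (h : IsSOpen u chartL U hU s XT)
    (G : Set Γ(X, XT))
    (hG : letI := (q.appLE U XT h.le).hom.toAlgebra; Algebra.adjoin Γ(Y, U) G = ⊤)
    (hGr : ∀ g ∈ G, g ∈ Set.range (theta u hP hPL hr hU hn hs h).hom) :
    Function.Surjective (theta u hP hPL hr hU hn hs h).hom := by
  letI := (q.appLE U XT h.le).hom.toAlgebra
  intro t
  refine Algebra.adjoin_induction (p := fun t _ => t ∈ (theta u hP hPL hr hU hn hs h).hom.range)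
    (fun g hg => RingHom.mem_range.mpr (hGr g hg)) (fun a => ?_) (fun _ _ _ _ hx hy => add_mem hx hy)
    (fun _ _ _ _ hx hy => mul_mem hx hy) (hG.ge (Algebra.mem_top (x := t)))
  exact ⟨_, theta_mk_zero hj hL u hP hPL hr hU hn hs h a (by simpa using 𝒮.str_mem U hU a)⟩

include hj hL hP hPL hr in
/-- Near each point an immersion `Proj(u)` is controlled by one homogeneous section. -/
lemma exists_local_data [IsIso pL] [IsImmersion r] (x : (RelProj.domQ u pL chartL).toScheme) :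
    ∃ (U : Y.Opens) (hU : IsAffineOpen U) (n : ℕ) (hn : 0 < n) (s : 𝒮.presheaf.obj (op U))
      (hs : s ∈ 𝒮.deg U hU n) (XT : X.Opens) (h : IsSOpen u chartL U hU s XT),
      pL x.1 ∈ XT ∧ IsAffineOpen XT ∧ Function.Surjective (theta u hP hPL hr hU hn hs h).hom := by
  obtain ⟨_, ⟨U, hU, rfl⟩, hxU, -⟩ :=
    Y.isBasis_affineOpens.exists_subset_of_mem_open (Set.mem_univ (p (r x))) isOpen_univ
  obtain ⟨n, hn, s, hs, hxs, hsub⟩ := exists_nz_subset (chart := chart) r.coborderRange.isOpen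
    (show r x ∈ r.coborderRange from subset_coborder ⟨x, rfl⟩) U hU hxU
  obtain ⟨XT, hXT⟩ := exists_isSOpen u hPL hU (s := s) (chartL := chartL)
  exact ⟨U, hU, n, hn, s, hs, XT, hXT, (mem_preimage_iff u hP hPL hr hU hn hs hXT x).mp hxs,
    (isClosedImmersion_restrict_iff u hP hPL hr hU hn hs hXT).mp (isClosedImmersion_restrict_of_le r hsub)⟩

lemma isSOpen_comp {𝒯 : RelProj.QCGrAlg Y} (w : 𝒯.toQCAlg ⟶ 𝒮.toQCAlg) (u' : RelProj.QGrHom q 𝒯 𝒮L)
    (hu' : ∀ U : Y.Opens, u'.app U = w.hom.app (op U) ≫ u.app U) {U : Y.Opens} (hU : IsAffineOpen U)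
    {s : 𝒮.presheaf.obj (op U)} {XT : X.Opens} (h : IsSOpen u chartL U hU s XT) {t : 𝒯.presheaf.obj (op U)}
    (ht : (w.hom.app (op U)).hom t = s) : IsSOpen u' chartL U hU t XT where
  le := h.le
  mem_iff V hV hle z hz := by
    rw [h.mem_iff V hV hle z hz, ← ht, gradedAt_comp' u w u' hu']

lemma appLE_comp {𝒯 : RelProj.QCGrAlg Y} (w : 𝒯.toQCAlg ⟶ 𝒮.toQCAlg) (u' : RelProj.QGrHom q 𝒯 𝒮L)
    (hu' : ∀ U : Y.Opens, u'.app U = w.hom.app (op U) ≫ u.app U) (U : Y.Opens) (W : X.Opens) (hle : W ≤ q ⁻¹ᵁ U)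
    (t : 𝒯.presheaf.obj (op U)) : (u'.appLE U W hle).hom t = (u.appLE U W hle).hom ((w.hom.app (op U)).hom t) := by
  show (u'.app U ≫ _).hom t = (u.app U ≫ _).hom ((w.hom.app (op U)).hom t)
  rw [hu']
  rfl

lemma isSOpen_pow {U : Y.Opens} (hU : IsAffineOpen U) {s : 𝒮.presheaf.obj (op U)} {XT : X.Opens}
    (h : IsSOpen u chartL U hU s XT) {e : ℕ} (he : 0 < e) : IsSOpen u chartL U hU (s ^ e) XT where
  le := h.le
  mem_iff V hV hle z hz := by
    rw [h.mem_iff V hV hle z hz, map_pow, nz, nz, Proj.basicOpen_pow _ _ _ he]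

include hj hL hP hPL hr in
/-- If `Proj(u)` is everywhere defined and an immersion, then so is `Proj(u ∘ w)` as soon as finitely many
homogeneous sections of one common degree lift along `w`. -/
theorem exists_finite_witness [IsIso pL] [CompactSpace X] [LocallyOfFiniteType q]
    (htop : RelProj.domQ u pL chartL = ⊤) [IsImmersion r] :
    ∃ (κ : Type u) (_ : Finite κ) (U : κ → Y.affineOpens) (N : ℕ) (f : ∀ c, 𝒮.presheaf.obj (op (U c).1)),
      0 < N ∧ (∀ c, f c ∈ 𝒮.deg (U c).1 (U c).2 N) ∧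
      (∀ x : X, ∃ (c : κ) (V : X.Opens) (hV : IsAffineOpen V) (hle : V ≤ q ⁻¹ᵁ (U c).1), x ∈ V ∧
        ∀ z : PL, pL z = x → z ∈ nz chartL V hV (u.gradedAt (U c).1 (U c).2 V hV hle (f c))) ∧
      ∀ {𝒯 : RelProj.QCGrAlg Y} {Q : Scheme.{u}} (w : 𝒯.toQCAlg ⟶ 𝒮.toQCAlg) (u' : RelProj.QGrHom q 𝒯 𝒮L)
        (_ : ∀ U : Y.Opens, u'.app U = w.hom.app (op U) ≫ u.app U) {pQ : Q ⟶ Y}
        {chartQ : ∀ (U : Y.Opens) (hU : IsAffineOpen U), (((pQ ⁻¹ᵁ U : Q.Opens) : Scheme.{u}) ≅ Proj (𝒯.deg U hU))}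
        (_ : RelProj.IsRelProj 𝒯 pQ chartQ) {r' : (RelProj.domQ u' pL chartL).toScheme ⟶ Q}
        (_ : RelProj.IsProjQMapOn u' pQ chartQ pL chartL (RelProj.domQ u' pL chartL) r'),
        (∀ c, ∃ y ∈ 𝒯.deg (U c).1 (U c).2 N, (w.hom.app (op (U c).1)).hom y = f c) →
          RelProj.domQ u' pL chartL = ⊤ ∧ IsImmersion r' := by
  classical
  choose U hU n hn s hs XT hXT hxX haff hsurj using fun x : X =>
    exists_local_data hj hL u hP hPL hr ⟨inv pL x, htop.ge (Set.mem_univ _)⟩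
  simp only [pL_inv_apply] at hxX
  obtain ⟨F, hF⟩ := isCompact_univ.elim_finite_subcover (fun x => (XT x : Set X)) (fun x => (XT x).isOpen)
    (fun x _ => Set.mem_iUnion.mpr ⟨x, hxX x⟩)
  have hgen : ∀ x, ∃ G : Finset Γ(X, XT x),
      letI := (q.appLE (U x) (XT x) (hXT x).le).hom.toAlgebra
      Algebra.adjoin Γ(Y, U x) (G : Set Γ(X, XT x)) = ⊤ := fun x => by
    letI := (q.appLE (U x) (XT x) (hXT x).le).hom.toAlgebra
    exact (q.finiteType_appLE (hU x) (haff x) (hXT x).le : Algebra.FiniteType Γ(Y, U x) Γ(X, XT x)).out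
  choose G hG using hgen
  choose m hm s' hs' heq using fun (x : X) (g : {g // g ∈ G x}) =>
    (surjective_theta_iff hj hL u hP hPL hr (hU x) (hn x) (hs x) (hXT x)).mp (hsurj x) g.1
  obtain ⟨M₀, hM₀⟩ := Finite.exists_le fun c : Σ x : {x // x ∈ F}, {g // g ∈ G x.1} => m c.1.1 c.2
  choose k hk using fun x : {x // x ∈ F} =>
    Finset.dvd_prod_of_mem (fun y : {x // x ∈ F} => n y.1) (Finset.mem_univ x)
  let N₀ := ∏ y : {x // x ∈ F}, n y.1
  have hN₀ : 0 < N₀ := Finset.prod_pos fun y _ => hn y.1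
  have hk0 : ∀ x, 0 < k x := fun x => Nat.pos_of_ne_zero fun h => hN₀.ne' ((hk x).trans (by rw [h, mul_zero]))
  let e : {x // x ∈ F} → ℕ := fun x => k x * (M₀ + 1)
  have he : ∀ x, 0 < e x := fun x => Nat.mul_pos (hk0 x) M₀.succ_pos
  have hme : ∀ (x : {x // x ∈ F}) (g : {g // g ∈ G x.1}), m x.1 g ≤ e x := fun x g =>
    (hM₀ ⟨x, g⟩).trans (M₀.le_succ.trans (Nat.le_mul_of_pos_left _ (hk0 x)))
  have hN : ∀ x, e x * n x.1 = N₀ * (M₀ + 1) := fun x => by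
    rw [show N₀ = n x.1 * k x from hk x]
    show k x * (M₀ + 1) * n x.1 = _
    ring
  have hse : ∀ x : {x // x ∈ F}, s x.1 ^ e x ∈ 𝒮.deg (U x.1) (hU x.1) (N₀ * (M₀ + 1)) := fun x => by
    rw [← hN x]
    simpa using SetLike.pow_mem_graded (e x) (hs x.1)
  refine ⟨Σ x : {x // x ∈ F}, Option {g // g ∈ G x.1}, inferInstance, fun c => ⟨U c.1.1, hU c.1.1⟩,
    N₀ * (M₀ + 1), fun c => c.2.elim (s c.1.1 ^ e c.1) fun g => s' c.1.1 g * s c.1.1 ^ (e c.1 - m c.1.1 g),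
    Nat.mul_pos hN₀ M₀.succ_pos, ?_, ?_, ?_⟩
  · rintro ⟨x, _ | g⟩
    · exact hse x
    · have h1 := SetLike.mul_mem_graded (hs' x.1 g) (SetLike.pow_mem_graded (e x - m x.1 g) (hs x.1))
      rw [smul_eq_mul, ← add_mul, Nat.add_sub_cancel' (hme x g), hN x] at h1
      exact h1
  · intro y
    obtain ⟨x, hx, hyx⟩ := Set.mem_iUnion₂.mp (hF (Set.mem_univ y))
    refine ⟨⟨⟨x, hx⟩, none⟩, XT x, haff x, (hXT x).le, hyx, fun z hz => ?_⟩
    exact ((isSOpen_pow u (hU x) (hXT x) (he ⟨x, hx⟩)).mem_iff (XT x) (haff x) (hXT x).le z (hz ▸ hyx)).mp (hz ▸ hyx)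
  · intro 𝒯 Q w u' hu' pQ chartQ hQ r' hr' hlift
    choose t ht htf using fun x : {x // x ∈ F} => hlift ⟨x, none⟩
    have hT : ∀ x : {x // x ∈ F}, IsSOpen u' chartL (U x.1) (hU x.1) (t x) (XT x.1) := fun x =>
      isSOpen_comp u w u' hu' (hU x.1) (isSOpen_pow u (hU x.1) (hXT x.1) (he x)) (htf x)
    have hn' : 0 < N₀ * (M₀ + 1) := Nat.mul_pos hN₀ M₀.succ_pos
    have hmem : ∀ y : X, ∃ x : {x // x ∈ F}, y ∈ XT x.1 := fun y => by
      obtain ⟨x, hx, hyx⟩ := Set.mem_iUnion₂.mp (hF (Set.mem_univ y))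
      exact ⟨⟨x, hx⟩, hyx⟩
    refine ⟨eq_top_iff.mpr fun z _ => ?_, isImmersion_of_cover r' (fun x => nz chartQ (U x.1) (hU x.1) (t x))
      (eq_top_iff.mpr fun z _ => ?_) fun x => ?_⟩
    · obtain ⟨x, hx⟩ := hmem (pL z)
      exact mem_domQ_of_mem u' hPL (hU x.1) hn' (ht x) (hT x) hx
    · obtain ⟨x, hx⟩ := hmem (pL z.1)
      exact Opens.mem_iSup.mpr ⟨x, (mem_preimage_iff u' hQ hPL hr' (hU x.1) hn' (ht x) (hT x) z).mpr hx⟩
    · refine (isClosedImmersion_restrict_iff u' hQ hPL hr' (hU x.1) hn' (ht x) (hT x)).mpr ⟨haff x.1, ?_⟩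
      refine surjective_theta_of_gen hj hL u' hQ hPL hr' (hU x.1) hn' (ht x) (hT x) (G x.1) (hG x.1)
        fun g hg => ?_
      obtain ⟨y, hy, hyf⟩ := hlift ⟨x, some ⟨g, hg⟩⟩
      refine ⟨Away.mk (𝒯.deg (U x.1) (hU x.1)) (ht x) 1 y (by rw [one_smul]; exact hy),
        (theta_mk_eq_iff hj hL u' hQ hPL hr' (hU x.1) hn' (ht x) (hT x) _ y _ g).mpr ?_⟩
      rw [appLE_comp u w u' hu', appLE_comp u w u' hu', htf x, hyf, pow_one]
      show _ * (u.appLE _ _ _).hom (s x.1 ^ e x) = (u.appLE _ _ _).hom (s' x.1 ⟨g, hg⟩ * s x.1 ^ (e x - m x.1 ⟨g, hg⟩))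
      conv_lhs => rw [← Nat.add_sub_cancel' (hme x ⟨g, hg⟩)]
      rw [map_mul, map_pow, map_pow, pow_add, ← mul_assoc, heq x.1 ⟨g, hg⟩]

/-- Homogeneous sections of a colimit come from a stage, in the same degree. -/
lemma exists_deg_lift {𝒯 : RelProj.QCGrAlg Y} (w : 𝒯.toQCAlg ⟶ 𝒮.toQCAlg) (hw : RelProj.IsGradedHom w)
    (U : Y.Opens) (hU : IsAffineOpen U) {d : ℕ} {f : 𝒮.presheaf.obj (op U)} (hf : f ∈ 𝒮.deg U hU d)
    {y : 𝒯.presheaf.obj (op U)} (hy : (w.hom.app (op U)).hom y = f) :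
    ∃ y' ∈ 𝒯.deg U hU d, (w.hom.app (op U)).hom y' = f := by
  have e := GradedRingHom.map_directSumDecompose (𝒜 := 𝒯.deg U hU) (ℬ := 𝒮.deg U hU)
    (RelProj.gradedHomAt w hw U hU) (x := y) (i := d)
  have hy' : RelProj.gradedHomAt w hw U hU y = f := hy
  rw [hy', DirectSum.decompose_of_mem_same _ hf] at e
  exact ⟨_, (DirectSum.decompose (𝒯.deg U hU) y d).2, e⟩

end Groth.Agent.QProj
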