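import Groth.Agent.ProjLib.RelProjBasics
import Mathlib.AlgebraicGeometry.RelativeGluing
import Mathlib.AlgebraicGeometry.Sites.SmallAffineZariski

/-!
# Existence of the relative `Proj`
-/

set_option linter.unusedSectionVars false

namespace Groth.Agent.ProjLib

open CategoryTheory CategoryTheory.Limits AlgebraicGeometry TopologicalSpace Opposite
open HomogeneousLocalization
open scoped HomogeneousIdeal

universe u

section algebra

variable {σ A : Type u} [CommRing A] [SetLike σ A] [AddSubgroupClass σ A] {𝒜 : ℕ → σ}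
  [GradedRing 𝒜] {τ B : Type u} [CommRing B] [SetLike τ B] [AddSubgroupClass τ B]
  {ℬ : ℕ → τ} [GradedRing ℬ] (φ : 𝒜 →+*ᵍ ℬ) (c : 𝒜 0)
  (hc : letI := (φ : A →+* B).toAlgebra; IsLocalization.Away (c : A) B)

/-- `c / 1`. -/
noncomputable def degZeroFrac (s : A) : Away 𝒜 s := fromZeroRingHom 𝒜 _ c

include hc in
lemma away_map_degZero_inv : ∃ v : ℬ 0, φ (c : A) * (v : B) = 1 := by
  let := (φ : A →+* B).toAlgebra
  have := hc
  have hu : IsUnit (φ (c : A)) := IsLocalization.Away.algebraMap_isUnit (S := B) (c : A)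
  obtain ⟨u, hu'⟩ := hu.exists_right_inv
  refine ⟨DirectSum.decompose ℬ u 0, ?_⟩
  have h0 := DirectSum.coe_decompose_mul_of_left_mem_zero ℬ (b := u) (j := 0) (φ.map_mem c.2)
  refine h0.symm.trans ?_
  change (DirectSum.decompose ℬ (φ (c : A) * u) 0 : B) = 1
  rw [hu', DirectSum.decompose_of_mem_same ℬ SetLike.GradedOne.one_mem]

include hc in
lemma away_map_isLocalization {d : ℕ} {s : A} (hs : s ∈ 𝒜 d) :
    letI := (Away.map φ s : Away 𝒜 s →+* Away ℬ (φ s)).toAlgebra
    IsLocalization.Away (degZeroFrac c s) (Away ℬ (φ s)) := by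
  obtain ⟨v, hv⟩ := away_map_degZero_inv φ c hc
  let := (φ : A →+* B).toAlgebra
  have := hc
  let := (Away.map φ s : Away 𝒜 s →+* Away ℬ (φ s)).toAlgebra
  have hval : (Away.map φ s (degZeroFrac c s)).val =
      algebraMap B (Localization.Away (φ s)) (φ (c : A)) := by
    change (HomogeneousLocalization.map φ _ (HomogeneousLocalization.mk _)).val = _
    rw [HomogeneousLocalization.map_mk, HomogeneousLocalization.val_mk,
      ← Localization.mk_one_eq_algebraMap]
    congr 1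
    exact Subtype.ext (map_one φ)
  refine IsLocalization.Away.mk _ ?_ ?_ ?_
  · refine IsUnit.of_mul_eq_one (fromZeroRingHom ℬ (Submonoid.powers (φ s)) v) ?_
    refine val_injective _ ?_
    change (Away.map φ s (degZeroFrac c s) * fromZeroRingHom ℬ _ v).val = _
    rw [val_mul, hval, HomogeneousLocalization.val_one]
    change _ * Localization.mk (v : B) 1 = 1
    rw [Localization.mk_one_eq_algebraMap, ← map_mul, hv, map_one]
  · intro y
    obtain ⟨n, b, hb, rfl⟩ := Away.mk_surjective ℬ (φ.map_mem hs) y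
    obtain ⟨k, a, hk⟩ := IsLocalization.Away.surj (c : A) b
    change b * φ (c : A) ^ k = φ a at hk
    have hbk : b * φ (c : A) ^ k ∈ ℬ (n • d) := by
      have := SetLike.mul_mem_graded (A := ℬ) hb
        (SetLike.pow_mem_graded (A := ℬ) k (φ.map_mem c.2))
      simpa using this
    have ha : φ (DirectSum.decompose 𝒜 a (n • d) : A) = b * φ (c : A) ^ k := by
      rw [GradedRingHom.map_directSumDecompose, ← hk, DirectSum.decompose_of_mem_same ℬ hbk]
    refine ⟨k, Away.mk 𝒜 hs n _ (DirectSum.decompose 𝒜 a (n • d)).2, val_injective _ ?_⟩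
    change (Away.mk ℬ _ n b hb * Away.map φ s (degZeroFrac c s) ^ k).val =
      (Away.map φ s (Away.mk 𝒜 hs n _ _)).val
    rw [val_mul, val_pow, hval, Away.map_mk φ s hs, Away.val_mk, Away.val_mk, ← map_pow (algebraMap B (Localization.Away (φ s))),
      ← Localization.mk_one_eq_algebraMap, Localization.mk_mul, mul_one]
    congr 1
    exact ha.symm
  · intro x y hxy
    suffices ∀ z, Away.map φ s z = 0 → ∃ n : ℕ, degZeroFrac c s ^ n * z = 0 by
      obtain ⟨n, hn⟩ := this (x - y) (by rw [map_sub]; exact sub_eq_zero.mpr hxy)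
      exact ⟨n, sub_eq_zero.mp (by rwa [← mul_sub])⟩
    intro z hz
    obtain ⟨n, a, ha, rfl⟩ := Away.mk_surjective 𝒜 hs z
    rw [Away.map_mk φ s hs, away_mk_eq_zero_iff] at hz
    obtain ⟨k, hk⟩ := hz
    rw [← map_pow, ← map_mul] at hk
    obtain ⟨⟨_, l, rfl⟩, hl⟩ :=
      (IsLocalization.map_eq_zero_iff (Submonoid.powers (c : A)) B (s ^ k * a)).mp hk
    refine ⟨l, val_injective _ ?_⟩
    rw [val_mul, val_pow, Away.val_mk, HomogeneousLocalization.val_zero]
    change Localization.mk (c : A) 1 ^ l * _ = 0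
    rw [Localization.mk_pow, Localization.mk_mul, one_pow, one_mul, Localization.mk_eq_mk',
      IsLocalization.mk'_eq_zero_iff]
    exact ⟨⟨s ^ k, k, rfl⟩, by simpa [mul_left_comm] using hl⟩

variable (hφ : HomogeneousIdeal.irrelevant ℬ ≤ (HomogeneousIdeal.irrelevant 𝒜).map φ)

include hc in
set_option backward.isDefEq.respectTransparency.types false in
lemma map_isOpenImmersion_of_isLocalization : IsOpenImmersion (Proj.map φ hφ) := by
  refine map_property φ hφ (P := @IsOpenImmersion.{u}) fun _ s _ hs => ?_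
  let := (Away.map φ s : Away 𝒜 s →+* Away ℬ (φ s)).toAlgebra
  have := away_map_isLocalization φ c hc hs
  exact IsOpenImmersion.of_isLocalization (S := Away ℬ (φ s)) (degZeroFrac c s)

include hc in
lemma mem_opensRange_map_iff [IsOpenImmersion (Proj.map φ hφ)] {i : ℕ} (hi : 0 < i) {s : A}
    (hs : s ∈ 𝒜 i) (z : Spec (CommRingCat.of (Away 𝒜 s))) :
    Proj.awayι 𝒜 s hs hi z ∈ (Proj.map φ hφ).opensRange ↔
      Proj.awayι 𝒜 s hs hi z ∈ Proj.toSpecZero 𝒜 ⁻¹ᵁ PrimeSpectrum.basicOpen c := by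
  let := (Away.map φ s : Away 𝒜 s →+* Away ℬ (φ s)).toAlgebra
  have hloc := away_map_isLocalization φ c hc hs
  have hr : z ∈ Set.range (PrimeSpectrum.comap (Away.map φ s : Away 𝒜 s →+* Away ℬ (φ s))) ↔
      z ∈ PrimeSpectrum.basicOpen (degZeroFrac c s) :=
    Set.ext_iff.mp (PrimeSpectrum.localization_away_comap_range (Away ℬ (φ s)) (degZeroFrac c s)) z
  have hcomm := Proj.awayι_comp_map φ hφ hi s hs
  have h1 : Proj.awayι 𝒜 s hs hi z ∈ (Proj.map φ hφ).opensRange ↔
      z ∈ Set.range (PrimeSpectrum.comap (Away.map φ s : Away 𝒜 s →+* Away ℬ (φ s))) := by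
    constructor
    · rintro ⟨y, hy⟩
      have hy' : y ∈ Proj.basicOpen ℬ (φ s) := by
        rw [← Proj.map_preimage_basicOpen φ hφ s, Scheme.Hom.mem_preimage, hy,
          ← Proj.opensRange_awayι 𝒜 s hs hi]
        exact ⟨z, rfl⟩
      rw [← Proj.opensRange_awayι ℬ (φ s) (φ.map_mem hs) hi] at hy'
      obtain ⟨w, rfl⟩ := hy'
      refine ⟨w, (Proj.awayι 𝒜 s hs hi).isOpenEmbedding.injective ?_⟩
      have := congr($hcomm w)
      exact this.symm.trans hy
    · rintro ⟨w, rfl⟩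
      exact ⟨Proj.awayι ℬ (φ s) (φ.map_mem hs) hi w, congr($hcomm w)⟩
  have h2 : (Proj.awayι 𝒜 s hs hi ≫ Proj.toSpecZero 𝒜) ⁻¹ᵁ PrimeSpectrum.basicOpen c =
      PrimeSpectrum.basicOpen (degZeroFrac c s) := by
    rw [Proj.awayι_toSpecZero]
    rfl
  exact h1.trans (hr.trans (SetLike.ext_iff.mp h2 z).symm)

include hc in
lemma map_opensRange_of_isLocalization [IsOpenImmersion (Proj.map φ hφ)] :
    (Proj.map φ hφ).opensRange =
      Proj.toSpecZero 𝒜 ⁻¹ᵁ PrimeSpectrum.basicOpen c := by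
  ext y
  obtain ⟨s, z, rfl⟩ := (Proj.affineOpenCover 𝒜).openCover.exists_eq y
  exact mem_opensRange_map_iff φ c hc hφ s.1.2 s.2.2 z

end algebra

variable {S : Scheme.{u}} (𝒮 : RelProj.QCGrAlg S)

lemma irrelevant_le_map_site {V U : S.AffineZariskiSite} (h : V ≤ U) :
    (𝒮.deg V.1 V.2)₊ ≤ ((𝒮.deg U.1 U.2)₊).map
      (𝒮.res U.2 V.2 (Scheme.AffineZariskiSite.toOpens_mono h)) := by
  obtain ⟨r, hr⟩ := h
  obtain ⟨V, hV⟩ := V
  obtain rfl : S.basicOpen r = V := hr
  exact 𝒮.irrelevant_le_map U.1 U.2 r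

/-- The functor `U ↦ Proj 𝒮(U)` on the affine Zariski site. -/
noncomputable def relProjFunctor : S.AffineZariskiSite ⥤ Scheme.{u} where
  obj U := Proj (𝒮.deg U.1 U.2)
  map {V U} i := Proj.map (𝒮.res U.2 V.2 (Scheme.AffineZariskiSite.toOpens_mono i.le))
    (irrelevant_le_map_site 𝒮 i.le)
  map_id U := by
    refine (projMap_congr (ψ := GradedRingHom.id (𝒮.deg U.1 U.2)) ?_ _).trans Proj.map_id
    refine GradedRingHom.ext fun x => ?_
    exact ConcreteCategory.congr_hom
      ((congrArg 𝒮.presheaf.map (Subsingleton.elim _ _)).trans (𝒮.presheaf.map_id _)) x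
  map_comp {W V U} i j := by
    rw [← Proj.map_comp]
    refine projMap_congr ?_ _
    refine GradedRingHom.ext fun x => ?_
    exact ConcreteCategory.congr_hom
      ((congrArg 𝒮.presheaf.map (Subsingleton.elim _ _)).trans (𝒮.presheaf.map_comp _ _)) x

@[reassoc]
lemma res_chartBase {U V : S.Opens} (hU : IsAffineOpen U) (hV : IsAffineOpen V) (i : V ≤ U)
    (hirr : (𝒮.deg V hV)₊ ≤ ((𝒮.deg U hU)₊).map (𝒮.res hU hV i)) :
    Proj.map (𝒮.res hU hV i) hirr ≫ chartBase 𝒮 U hU = chartBase 𝒮 V hV ≫ S.homOfLE i := by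
  rw [← cancel_mono U.ι, Category.assoc, Category.assoc, Scheme.homOfLE_ι, chartBase_ι,
    chartBase_ι, ← Category.assoc, map_toSpecZero, Category.assoc,
    ← hU.map_fromSpec hV (homOfLE i).op, ← Spec.map_comp_assoc, ← Spec.map_comp_assoc]
  congr 3
  ext r
  exact ConcreteCategory.congr_hom (𝒮.str.naturality (homOfLE i).op).symm r

set_option backward.isDefEq.respectTransparency.types false in
lemma isPullback_res_chartBase (U : S.Opens) (hU : IsAffineOpen U) (r : Γ(S, U)) :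
    IsPullback (Proj.map (𝒮.res hU (hU.basicOpen r) (S.basicOpen_le r)) (𝒮.irrelevant_le_map U hU r))
      (chartBase 𝒮 (S.basicOpen r) (hU.basicOpen r)) (chartBase 𝒮 U hU)
      (S.homOfLE (S.basicOpen_le r)) := by
  have hc : letI := (𝒮.res hU (hU.basicOpen r) (S.basicOpen_le r) :
      𝒮.presheaf.obj (op U) →+* 𝒮.presheaf.obj (op (S.basicOpen r))).toAlgebra
      IsLocalization.Away (((𝒮.strZero U hU).hom r : 𝒮.deg U hU 0) : 𝒮.presheaf.obj (op U))
        (𝒮.presheaf.obj (op (S.basicOpen r))) := 𝒮.isQC U hU r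
  have := map_isOpenImmersion_of_isLocalization _ _ hc (𝒮.irrelevant_le_map U hU r)
  refine (IsOpenImmersion.isPullback _ _ _ _ (res_chartBase 𝒮 hU _ _ _) ?_).flip
  rw [map_opensRange_of_isLocalization _ _ hc, Scheme.opensRange_homOfLE, chartBase,
    Scheme.Hom.comp_preimage, Scheme.Hom.comp_preimage, ← Scheme.Hom.comp_preimage hU.isoSpec.inv,
    hU.isoSpec_inv_ι, hU.fromSpec_preimage_basicOpen]
  rfl

/-- The gluing datum of the relative `Proj`. -/
noncomputable def relProjData :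
    (Scheme.AffineZariskiSite.directedCover S).RelativeGluingData where
  functor := relProjFunctor 𝒮
  natTrans :=
    { app U := chartBase 𝒮 U.1 U.2
      naturality {V U} i := res_chartBase 𝒮 U.2 V.2 _ _ }
  equifibered {V U} i := by
    obtain ⟨r, hr⟩ := i.le
    obtain ⟨V, hV⟩ := V
    obtain rfl : S.basicOpen r = V := hr
    exact isPullback_res_chartBase 𝒮 U.1 U.2 r

instance : (((relProjData 𝒮).functor) ⋙ Scheme.forget).IsLocallyDirected :=
  Scheme.Cover.RelativeGluingData.instIsLocallyDirectedI₀CompFunctorForgetOfIsThin ..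

/-- The inclusion of a chart. -/
noncomputable def relProjι (U : S.Opens) (hU : IsAffineOpen U) :
    Proj (𝒮.deg U hU) ⟶ (relProjData 𝒮).glued :=
  (relProjData 𝒮).cover.f ⟨U, hU⟩

instance relProjι_isOpenImmersion (U : S.Opens) (hU : IsAffineOpen U) :
    IsOpenImmersion (relProjι 𝒮 U hU) :=
  (relProjData 𝒮).cover.map_prop _

lemma relProjData_preimage (U : S.Opens) (hU : IsAffineOpen U) :
    (relProjData 𝒮).toBase ⁻¹ᵁ U = (relProjι 𝒮 U hU).opensRange := by
  have h := (relProjData 𝒮).toBase_preimage_eq_opensRange_ι ⟨U, hU⟩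
  rw [show ((Scheme.AffineZariskiSite.directedCover S).f ⟨U, hU⟩).opensRange = U from
    Scheme.Opens.opensRange_ι U] at h
  exact h

/-- The charts of the glued relative `Proj`. -/
noncomputable def relProjChart (U : S.Opens) (hU : IsAffineOpen U) :
    ((relProjData 𝒮).toBase ⁻¹ᵁ U).toScheme ≅ Proj (𝒮.deg U hU) :=
  (relProjData 𝒮).glued.isoOfEq (relProjData_preimage 𝒮 U hU) ≪≫
    (relProjι 𝒮 U hU).isoOpensRange.symm

lemma isoOfEq_trans_isoOpensRange_hom {X Y : Scheme.{u}} (f : X ⟶ Y) [IsOpenImmersion f]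
    {W : Y.Opens} (e : W = f.opensRange) :
    (Y.isoOfEq e ≪≫ f.isoOpensRange.symm).hom ≫ f = W.ι := by
  rw [Iso.trans_hom, Category.assoc, Iso.symm_hom, Scheme.Hom.isoOpensRange_inv_comp,
    Scheme.isoOfEq_hom_ι]

lemma relProjChart_hom_ι (U : S.Opens) (hU : IsAffineOpen U) :
    (relProjChart 𝒮 U hU).hom ≫ relProjι 𝒮 U hU =
      ((relProjData 𝒮).toBase ⁻¹ᵁ U).ι := by
  exact isoOfEq_trans_isoOpensRange_hom (relProjι 𝒮 U hU) (relProjData_preimage 𝒮 U hU)

lemma isRelProj_glued : RelProj.IsRelProj 𝒮 (relProjData 𝒮).toBase (relProjChart 𝒮) where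
  chart_over U hU := by
    rw [← relProjChart_hom_ι 𝒮 U hU, Category.assoc]
    congr 1
    refine Eq.trans ?_ ((relProjData 𝒮).ι_toBase ⟨U, hU⟩).symm
    exact (chartBase_ι U hU).symm
  chart_res U hU r := by
    refine (cancel_mono (relProjι 𝒮 U hU)).mp ?_
    rw [Category.assoc, relProjChart_hom_ι, Scheme.homOfLE_ι, Category.assoc,
      ← relProjChart_hom_ι 𝒮 (S.basicOpen r) (hU.basicOpen r)]
    congr 1
    exact (colimit.w (relProjData 𝒮).functor
      (homOfLE (Scheme.AffineZariskiSite.basicOpen_le ⟨U, hU⟩ r))).symm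

lemma exists_isRelProj :
    ∃ (P : Scheme.{u}) (p : P ⟶ S)
      (chart : ∀ (U : S.Opens) (hU : IsAffineOpen U),
        (((p ⁻¹ᵁ U : P.Opens) : Scheme.{u}) ≅ Proj (𝒮.deg U hU))),
      RelProj.IsRelProj 𝒮 p chart :=
  ⟨_, _, _, isRelProj_glued 𝒮⟩

end Groth.Agent.ProjLib
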