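import Mathlib.AlgebraicGeometry.ProjectiveSpectrum.Functor
import Mathlib.AlgebraicGeometry.Morphisms.Affine
import Groth.Prelude.Def_RelSpec2
import Groth.Agent.ProjLib.MapLocal
import Groth.Agent.ProjLib.GradedGen

/-!
# The morphism `G(ψ) ⟶ Proj 𝒜` of a graded homomorphism `ψ : 𝒜 → ℬ`
-/

set_option linter.unusedSectionVars false
set_option autoImplicit false

namespace Groth.Agent.ProjLib

open AlgebraicGeometry CategoryTheory CategoryTheory.Limits TopologicalSpace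
  HomogeneousLocalization Graded
open scoped HomogeneousIdeal

universe u

variable {σ A : Type u} [CommRing A] [SetLike σ A] [AddSubgroupClass σ A] {𝒜 : ℕ → σ}
  [GradedRing 𝒜] {τ B : Type u} [CommRing B] [SetLike τ B] [AddSubgroupClass τ B]
  {ℬ : ℕ → τ} [GradedRing ℬ]

section awayMapTo

/-- `Away.map` with a prescribed target element. -/
noncomputable def awayMapTo (ψ : 𝒜 →+*ᵍ ℬ) (f : A) (g : B) (e : ψ f = g) :
    Away 𝒜 f →+* Away ℬ g := by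
  subst e
  exact Away.map ψ f

lemma awayMapTo_rfl (ψ : 𝒜 →+*ᵍ ℬ) (f : A) : awayMapTo ψ f (ψ f) rfl = Away.map ψ f := rfl

lemma awayMapTo_mk (ψ : 𝒜 →+*ᵍ ℬ) {d : ℕ} {f : A} (hf : f ∈ 𝒜 d) (g : B) (e : ψ f = g) (n : ℕ)
    (x : A) (hx : x ∈ 𝒜 (n • d)) :
    awayMapTo ψ f g e (Away.mk 𝒜 hf n x hx) =
      Away.mk ℬ (e ▸ map_mem ψ hf) n (ψ x) (map_mem ψ hx) := by
  subst e
  exact Away.map_mk ψ f hf n x hx

@[reassoc]
lemma awayι_comp_map' (ψ : 𝒜 →+*ᵍ ℬ) (hψ : ℬ₊ ≤ (𝒜₊).map ψ) {d : ℕ} (hd : 0 < d) (f : A)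
    (hf : f ∈ 𝒜 d) (g : B) (e : ψ f = g) :
    Proj.awayι ℬ g (e ▸ map_mem ψ hf) hd ≫ Proj.map ψ hψ =
      Spec.map (CommRingCat.ofHom (awayMapTo ψ f g e)) ≫ Proj.awayι 𝒜 f hf hd := by
  subst e
  exact Proj.awayι_comp_map ψ hψ hd f hf

/-- `Away` along an equality of elements. -/
lemma awayι_eq_of_eq {d : ℕ} (hd : 0 < d) {f f' : A} (hf : f ∈ 𝒜 d) (e : f = f')
    (k : Away 𝒜 f →+* Away 𝒜 f')
    (hk : ∀ (n : ℕ) (a : A) (ha : a ∈ 𝒜 (n • d)),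
      k (Away.mk 𝒜 hf n a ha) = Away.mk 𝒜 (e ▸ hf) n a ha) :
    Spec.map (CommRingCat.ofHom k) ≫ Proj.awayι 𝒜 f hf hd = Proj.awayι 𝒜 f' (e ▸ hf) hd := by
  subst e
  have : k = RingHom.id _ := RingHom.ext fun q ↦ by
    obtain ⟨n, a, ha, rfl⟩ := Away.mk_surjective 𝒜 hf q
    exact hk n a ha
  subst this
  exact (congrArg (· ≫ Proj.awayι 𝒜 f hf hd) (Spec.map_id _)).trans (Category.id_comp _)

end awayMapTo

variable (ψ : 𝒜 →+*ᵍ ℬ)

/-- A standard chart lies in `G(ψ)`. -/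
lemma range_awayι_subset_domOpen {d : ℕ} (hd : 0 < d) {f : A} (hf : f ∈ 𝒜 d) {g : B} (e : ψ f = g) :
    Set.range (Proj.awayι ℬ g (e ▸ map_mem ψ hf) hd) ⊆ Set.range (RelCone.domOpen ψ).ι := by
  subst e
  rw [Scheme.Opens.range_ι]
  intro x hx
  have hx' : x ∈ Proj.basicOpen ℬ (ψ f) := by
    rw [← Proj.opensRange_awayι ℬ (ψ f) (map_mem ψ hf) hd]; exact hx
  exact (RelCone.mem_domOpen ψ x).mpr ⟨f, mem_irrelevant_of_pos 𝒜 hd hf, hx'⟩

/-- The standard chart of `G(ψ)`. -/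
noncomputable def domChart {d : ℕ} (hd : 0 < d) {f : A} (hf : f ∈ 𝒜 d) (g : B) (e : ψ f = g) :
    Spec (.of (Away ℬ g)) ⟶ (RelCone.domOpen ψ).toScheme :=
  IsOpenImmersion.lift (RelCone.domOpen ψ).ι (Proj.awayι ℬ g (e ▸ map_mem ψ hf) hd)
    (range_awayι_subset_domOpen ψ hd hf e)

@[reassoc (attr := simp)]
lemma domChart_ι {d : ℕ} (hd : 0 < d) {f : A} (hf : f ∈ 𝒜 d) (g : B) (e : ψ f = g) :
    domChart ψ hd hf g e ≫ (RelCone.domOpen ψ).ι = Proj.awayι ℬ g (e ▸ map_mem ψ hf) hd :=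
  IsOpenImmersion.lift_fac _ _ _

instance {d : ℕ} (hd : 0 < d) {f : A} (hf : f ∈ 𝒜 d) (g : B) (e : ψ f = g) :
    IsOpenImmersion (domChart ψ hd hf g e) := by
  have : IsOpenImmersion (domChart ψ hd hf g e ≫ (RelCone.domOpen ψ).ι) := by
    rw [domChart_ι]; infer_instance
  exact IsOpenImmersion.of_comp _ (RelCone.domOpen ψ).ι

lemma exists_homogeneous_notMem {x : Proj ℬ} (hx : x ∈ RelCone.domOpen ψ) :
    ∃ (d : ℕ) (_ : 0 < d) (f : A), f ∈ 𝒜 d ∧ ψ f ∉ x.asHomogeneousIdeal := by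
  obtain ⟨a, ha, hax⟩ := (RelCone.mem_domOpen ψ x).mp hx
  by_contra h
  push Not at h
  have key : (𝒜₊).toIdeal ≤ x.asHomogeneousIdeal.toIdeal.comap ψ.toRingHom :=
    irrelevant_le_of_homogeneous 𝒜 fun n hn b hb ↦ h n hn b hb
  exact hax (key ha)

/-- The cover of `G(ψ)` by the standard charts. -/
noncomputable def domCover : (RelCone.domOpen ψ).toScheme.OpenCover :=
  Scheme.Cover.mkOfCovers (Σ d : {d : ℕ // 0 < d}, {f // f ∈ 𝒜 d.1})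
    (fun i ↦ Spec (.of (Away ℬ (ψ i.2.1)))) (fun i ↦ domChart ψ i.1.2 i.2.2 _ rfl)
    (fun x ↦ by
      obtain ⟨d, hd, f, hf, hfx⟩ := exists_homogeneous_notMem ψ (x := x.1) x.2
      have : x.1 ∈ (Proj.awayι ℬ (ψ f) (map_mem ψ hf) hd).opensRange := by
        rw [Proj.opensRange_awayι]; exact hfx
      obtain ⟨y, hy⟩ := this
      refine ⟨⟨⟨d, hd⟩, f, hf⟩, y, Subtype.ext ?_⟩
      show (RelCone.domOpen ψ).ι (domChart ψ hd hf _ rfl y) = x.1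
      rw [← Scheme.Hom.comp_apply, domChart_ι]
      exact hy)

/-- The morphism to be glued on one chart. -/
noncomputable def domPiece {d : ℕ} (hd : 0 < d) {f : A} (hf : f ∈ 𝒜 d) (g : B) (e : ψ f = g) :
    Spec (.of (Away ℬ g)) ⟶ Proj 𝒜 :=
  Spec.map (CommRingCat.ofHom (awayMapTo ψ f g e)) ≫ Proj.awayι 𝒜 f hf hd

lemma domPiece_mul {d d' : ℕ} (hd : 0 < d) (hd' : 0 < d') {f f' : A} (hf : f ∈ 𝒜 d) (hf' : f' ∈ 𝒜 d') :
    Spec.map (CommRingCat.ofHom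
        (awayMap ℬ (map_mem ψ hf') (map_mul ψ f f' : ψ (f * f') = ψ f * ψ f'))) ≫
      domPiece ψ hd hf (ψ f) rfl =
    domPiece ψ (Nat.add_pos_left hd d') (SetLike.mul_mem_graded hf hf') (ψ (f * f')) rfl := by
  rw [domPiece, domPiece, ← Proj.SpecMap_awayMap_awayι 𝒜 hf hd hf' (x := f * f') rfl,
    ← Spec.map_comp_assoc, ← Spec.map_comp_assoc]
  congr 2
  refine CommRingCat.hom_ext (RingHom.ext fun q ↦ ?_)
  obtain ⟨n, a, ha, rfl⟩ := Away.mk_surjective 𝒜 hf q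
  simp only [CommRingCat.hom_comp, CommRingCat.hom_ofHom, RingHom.comp_apply]
  rw [awayMapTo_mk, awayMap_mk, awayMap_mk, awayMapTo_mk]
  apply HomogeneousLocalization.val_injective
  simp [Away.val_mk]

/-- The morphism `G(ψ) ⟶ Proj 𝒜`. -/
noncomputable def domMap : (RelCone.domOpen ψ).toScheme ⟶ Proj 𝒜 :=
  (domCover ψ).glueMorphisms (fun i ↦ domPiece ψ i.1.2 i.2.2 _ rfl) (by
    rintro ⟨⟨d, hd⟩, f, hf⟩ ⟨⟨d', hd'⟩, f', hf'⟩
    let a := domChart ψ hd hf _ rfl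
    let b := domChart ψ hd' hf' _ rfl
    show pullback.fst a b ≫ domPiece ψ hd hf (ψ f) rfl = pullback.snd a b ≫ domPiece ψ hd' hf' (ψ f') rfl
    let m := pullback.map a b (Proj.awayι ℬ (ψ f) (map_mem ψ hf) hd)
      (Proj.awayι ℬ (ψ f') (map_mem ψ hf') hd') (𝟙 _) (𝟙 _) (RelCone.domOpen ψ).ι
      (by simp [a]) (by simp [b])
    let e := Proj.pullbackAwayιIso ℬ (map_mem ψ hf) hd (map_mem ψ hf') hd'
      (map_mul ψ f f' : ψ (f * f') = ψ f * ψ f')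
    have h1 : pullback.fst a b = m ≫ e.hom ≫ Spec.map (CommRingCat.ofHom
        (awayMap ℬ (map_mem ψ hf') (map_mul ψ f f' : ψ (f * f') = ψ f * ψ f'))) := by
      simp [m, e, pullback.map, Proj.pullbackAwayιIso_hom_SpecMap_awayMap_left]
      exact (pullback.lift_fst _ _ _).symm
    have h2 : pullback.snd a b = m ≫ e.hom ≫ Spec.map (CommRingCat.ofHom
        (awayMap ℬ (map_mem ψ hf) ((map_mul ψ f f').trans (mul_comm _ _)))) := by
      simp [m, e, pullback.map, Proj.pullbackAwayιIso_hom_SpecMap_awayMap_right]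
      exact (pullback.lift_snd _ _ _).symm
    rw [h1, h2]
    simp only [Category.assoc]
    congr 2
    rw [domPiece_mul ψ hd hd' hf hf']
    have key : ∀ (D : ℕ) (hD : 0 < D) (F : A) (hF : F ∈ 𝒜 D) (eF : F = f' * f),
        Spec.map (CommRingCat.ofHom (awayMap ℬ (map_mem ψ hf)
          ((congrArg ψ eF).trans (map_mul ψ f' f)))) ≫ domPiece ψ hd' hf' (ψ f') rfl =
          domPiece ψ hD hF (ψ F) rfl := by
      intro D hD F hF eF
      subst eF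
      exact domPiece_mul ψ hd' hd hf' hf
    exact (key _ (Nat.add_pos_left hd d') _ (SetLike.mul_mem_graded hf hf') (mul_comm f f')).symm)

@[reassoc]
lemma domChart_domMap {d : ℕ} (hd : 0 < d) {f : A} (hf : f ∈ 𝒜 d) (g : B) (e : ψ f = g) :
    domChart ψ hd hf g e ≫ domMap ψ =
      Spec.map (CommRingCat.ofHom (awayMapTo ψ f g e)) ≫ Proj.awayι 𝒜 f hf hd := by
  subst e
  exact (domCover ψ).ι_glueMorphisms _ _ ⟨⟨d, hd⟩, f, hf⟩

lemma domMap_ext {Z : Scheme.{u}} {a b : (RelCone.domOpen ψ).toScheme ⟶ Z}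
    (h : ∀ (d : ℕ) (hd : 0 < d) (f : A) (hf : f ∈ 𝒜 d),
      domChart ψ hd hf _ rfl ≫ a = domChart ψ hd hf _ rfl ≫ b) : a = b :=
  (domCover ψ).hom_ext _ _ fun i ↦ h _ i.1.2 _ i.2.2

lemma domMap_preimage_basicOpen {d : ℕ} (hd : 0 < d) {f : A} (hf : f ∈ 𝒜 d) :
    domMap ψ ⁻¹ᵁ Proj.basicOpen 𝒜 f = (RelCone.domOpen ψ).ι ⁻¹ᵁ Proj.basicOpen ℬ (ψ f) := by
  ext x
  obtain ⟨⟨⟨d', hd'⟩, f', hf'⟩, y, rfl⟩ := (domCover ψ).exists_eq x
  show domMap ψ (domChart ψ hd' hf' _ rfl y) ∈ Proj.basicOpen 𝒜 f ↔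
    (RelCone.domOpen ψ).ι (domChart ψ hd' hf' _ rfl y) ∈ Proj.basicOpen ℬ (ψ f)
  rw [← Scheme.Hom.comp_apply, ← Scheme.Hom.comp_apply, domChart_domMap, domChart_ι]
  have h1 := SetLike.ext_iff.mp (Proj.awayι_preimage_basicOpen 𝒜 hf' hd' hf hd)
    (Spec.map (CommRingCat.ofHom (awayMapTo ψ f' (ψ f') rfl)) y)
  have h2 := SetLike.ext_iff.mp (Proj.awayι_preimage_basicOpen ℬ (map_mem ψ hf') hd' (map_mem ψ hf) hd) y
  refine h1.trans (Iff.trans ?_ h2.symm)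
  show awayMapTo ψ f' (ψ f') rfl (Away.isLocalizationElem hf' hf) ∉ y.asIdeal ↔ _ ∉ y.asIdeal
  rw [Away.isLocalizationElem, awayMapTo_mk]
  refine Iff.of_eq (congrArg (fun t : Away ℬ (ψ f') ↦ t ∉ y.asIdeal) ?_)
  apply HomogeneousLocalization.val_injective
  simp [Away.val_mk]

lemma iSup_basicOpen_pos : ⨆ i : Σ d : {d : ℕ // 0 < d}, {f // f ∈ 𝒜 d.1},
    Proj.basicOpen 𝒜 i.2.1 = ⊤ := by
  rw [eq_top_iff]
  intro x _
  obtain ⟨⟨d, f⟩, y, hy⟩ := (Proj.affineOpenCover 𝒜).openCover.exists_eq x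
  refine Opens.mem_iSup.mpr ⟨⟨⟨d.1, d.2⟩, f.1, f.2⟩, ?_⟩
  rw [← Proj.opensRange_awayι 𝒜 f.1 f.2 d.2]
  exact ⟨y, hy⟩

set_option backward.isDefEq.respectTransparency.types false in
lemma isAffineHom_domMap : IsAffineHom (domMap ψ) := by
  refine isAffineHom_of_forall_exists_isAffineOpen _ fun x ↦ ?_
  obtain ⟨⟨⟨d, hd⟩, f, hf⟩, hx⟩ := Opens.mem_iSup.mp
    ((iSup_basicOpen_pos (𝒜 := 𝒜)).ge (Set.mem_univ x))
  refine ⟨_, hx, Proj.isAffineOpen_basicOpen 𝒜 f hf hd, ?_⟩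
  rw [domMap_preimage_basicOpen ψ hd hf, ← (RelCone.domOpen ψ).ι.isAffineOpen_iff_of_isOpenImmersion,
    Scheme.Hom.image_preimage_eq_opensRange_inf, Scheme.Opens.opensRange_ι, inf_eq_right.mpr]
  · exact Proj.isAffineOpen_basicOpen ℬ _ (map_mem ψ hf) hd
  · exact fun y hy ↦ (RelCone.mem_domOpen ψ y).mpr ⟨f, mem_irrelevant_of_pos 𝒜 hd hf, hy⟩

section retraction

variable (φ : ℬ →+*ᵍ 𝒜) (hψφ : ∀ a, φ (ψ a) = a) (hφ : 𝒜₊ ≤ (ℬ₊).map φ)

include hψφ in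
lemma range_map_retr_subset : Set.range (Proj.map φ hφ) ⊆ (RelCone.domOpen ψ : Set (Proj ℬ)) := by
  rintro _ ⟨x, rfl⟩
  by_contra h
  apply x.not_irrelevant_le
  intro a ha
  by_contra ha'
  refine h ((RelCone.mem_domOpen ψ _).mpr ⟨a, ha, ?_⟩)
  show φ (ψ a) ∉ x.asHomogeneousIdeal
  rw [hψφ]
  exact ha'

include hψφ in
lemma retr_comp_domMap (j : Proj 𝒜 ⟶ (RelCone.domOpen ψ).toScheme)
    (hj : j ≫ (RelCone.domOpen ψ).ι = Proj.map φ hφ) : j ≫ domMap ψ = 𝟙 _ := by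
  refine (Proj.affineOpenCover 𝒜).openCover.hom_ext _ _ fun i ↦ ?_
  obtain ⟨⟨d, hd⟩, f, hf⟩ := i
  show Proj.awayι 𝒜 f hf hd ≫ j ≫ domMap ψ = Proj.awayι 𝒜 f hf hd ≫ 𝟙 _
  have h1 : Proj.awayι 𝒜 f hf hd ≫ j =
      Spec.map (CommRingCat.ofHom (awayMapTo φ (ψ f) f (hψφ f))) ≫ domChart ψ hd hf _ rfl := by
    rw [← cancel_mono (RelCone.domOpen ψ).ι, Category.assoc, Category.assoc, hj, domChart_ι]
    exact awayι_comp_map' φ hφ hd (ψ f) (map_mem ψ hf) f (hψφ f)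
  rw [reassoc_of% h1, domChart_domMap, ← Spec.map_comp_assoc, ← CommRingCat.ofHom_comp,
    Category.comp_id]
  refine awayι_eq_of_eq hd hf rfl _ fun n a ha ↦ ?_
  rw [RingHom.comp_apply, awayMapTo_mk, awayMapTo_mk]
  apply HomogeneousLocalization.val_injective
  simp [Away.val_mk, hψφ]

include hψφ hφ in
lemma surjective_domMap : Function.Surjective (domMap ψ) := by
  have hr : Set.range (Proj.map φ hφ) ⊆ Set.range (RelCone.domOpen ψ).ι := by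
    rw [Scheme.Opens.range_ι]; exact range_map_retr_subset ψ φ hψφ hφ
  intro x
  refine ⟨IsOpenImmersion.lift _ (Proj.map φ hφ) hr x, ?_⟩
  rw [← Scheme.Hom.comp_apply, retr_comp_domMap ψ φ hψφ hφ _ (IsOpenImmersion.lift_fac _ _ hr)]
  rfl

end retraction

section naturality

variable {σ' A' : Type u} [CommRing A'] [SetLike σ' A'] [AddSubgroupClass σ' A'] {𝒜' : ℕ → σ'}
  [GradedRing 𝒜'] {τ' B' : Type u} [CommRing B'] [SetLike τ' B'] [AddSubgroupClass τ' B']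
  {ℬ' : ℕ → τ'} [GradedRing ℬ'] (ψ' : 𝒜' →+*ᵍ ℬ') (a : 𝒜 →+*ᵍ 𝒜') (b : ℬ →+*ᵍ ℬ')
  (hab : ∀ x, b (ψ x) = ψ' (a x)) (ha : 𝒜'₊ ≤ (𝒜₊).map a) (hb : ℬ'₊ ≤ (ℬ₊).map b)

include ha in
lemma exists_image_notMem {y : Proj ℬ'} (hy : y ∈ RelCone.domOpen ψ') :
    ∃ (d : ℕ) (_ : 0 < d) (f : A), f ∈ 𝒜 d ∧ ψ' (a f) ∉ y.asHomogeneousIdeal := by
  obtain ⟨x, hx, hxy⟩ := (RelCone.mem_domOpen ψ' y).mp hy
  by_contra h
  push Not at h
  have key : (𝒜₊).toIdeal ≤ (y.asHomogeneousIdeal.toIdeal.comap ψ'.toRingHom).comap a.toRingHom :=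
    irrelevant_le_of_homogeneous 𝒜 fun n hn f hf ↦ h n hn f hf
  have : (𝒜'₊).toIdeal ≤ y.asHomogeneousIdeal.toIdeal.comap ψ'.toRingHom :=
    fun z hz ↦ Ideal.map_le_of_le_comap key (ha hz)
  exact hxy (this hx)

include hab ha in
lemma map_mem_domOpen {y : Proj ℬ'} (hy : y ∈ RelCone.domOpen ψ') :
    Proj.map b hb y ∈ RelCone.domOpen ψ := by
  obtain ⟨d, hd, f, hf, hfy⟩ := exists_image_notMem ψ' a ha hy
  refine (RelCone.mem_domOpen ψ _).mpr ⟨f, mem_irrelevant_of_pos 𝒜 hd hf, ?_⟩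
  show b (ψ f) ∉ y.asHomogeneousIdeal
  rw [hab]
  exact hfy

include hab in
lemma domRes_domMap (r : (RelCone.domOpen ψ').toScheme ⟶ (RelCone.domOpen ψ).toScheme)
    (hr : r ≫ (RelCone.domOpen ψ).ι = (RelCone.domOpen ψ').ι ≫ Proj.map b hb) :
    r ≫ domMap ψ = domMap ψ' ≫ Proj.map a ha := by
  refine Scheme.hom_ext_of_forall _ _ fun y ↦ ?_
  obtain ⟨d, hd, f, hf, hfy⟩ := exists_image_notMem ψ' a ha y.2
  have hy : y ∈ (domChart ψ' hd (map_mem a hf) _ rfl).opensRange := by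
    have : y.1 ∈ (Proj.awayι ℬ' (ψ' (a f)) (map_mem ψ' (map_mem a hf)) hd).opensRange := by
      rw [Proj.opensRange_awayι]; exact hfy
    obtain ⟨w, hw⟩ := this
    refine ⟨w, Subtype.ext ?_⟩
    show (RelCone.domOpen ψ').ι (domChart ψ' hd (map_mem a hf) _ rfl w) = y.1
    rw [← Scheme.Hom.comp_apply, domChart_ι]
    exact hw
  refine ⟨_, hy, ?_⟩
  rw [← cancel_epi (domChart ψ' hd (map_mem a hf) _ rfl).isoOpensRange.hom]
  simp only [Scheme.Hom.isoOpensRange_hom_ι_assoc]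
  have h1 : domChart ψ' hd (map_mem a hf) _ rfl ≫ r =
      Spec.map (CommRingCat.ofHom (awayMapTo b (ψ f) _ (hab f))) ≫ domChart ψ hd hf _ rfl := by
    rw [← cancel_mono (RelCone.domOpen ψ).ι, Category.assoc, Category.assoc, hr, domChart_ι,
      domChart_ι_assoc]
    exact awayι_comp_map' b hb hd (ψ f) (map_mem ψ hf) _ (hab f)
  rw [reassoc_of% h1, domChart_domMap, domChart_domMap_assoc, awayMapTo_rfl ψ',
    Proj.awayι_comp_map a ha hd f hf, ← Spec.map_comp_assoc, ← Spec.map_comp_assoc]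
  congr 2
  refine CommRingCat.hom_ext (RingHom.ext fun q ↦ ?_)
  obtain ⟨n, x, hx, rfl⟩ := Away.mk_surjective 𝒜 hf q
  show awayMapTo b (ψ f) _ (hab f) (awayMapTo ψ f _ rfl (Away.mk 𝒜 hf n x hx)) =
    Away.map ψ' (a f) (Away.map a f (Away.mk 𝒜 hf n x hx))
  rw [awayMapTo_mk, awayMapTo_mk, Away.map_mk, Away.map_mk]
  apply HomogeneousLocalization.val_injective
  simp [Away.val_mk, hab]

end naturality

end Groth.Agent.ProjLib
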