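import Groth.Agent.ProjLib.MapLocal
import Mathlib.AlgebraicGeometry.Pullbacks
import Mathlib.RingTheory.IsTensorProduct
import Mathlib.Algebra.Category.Ring.Constructions

/-!
# Base change of `Proj`
-/

set_option linter.unusedSectionVars false

namespace Groth.Agent.ProjLib

open DirectSum HomogeneousIdeal AlgebraicGeometry CategoryTheory CategoryTheory.Limits
  HomogeneousLocalization TensorProduct

universe u

section algebra

variable {R A : Type u} [CommRing R] [CommRing A] [Algebra R A] {𝒜 : ℕ → Submodule R A}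
  [GradedAlgebra 𝒜]

/-- The base ring acts on `Away 𝒜 f` through the degree zero part. -/
noncomputable scoped instance awayAlgebra (f : A) : Algebra R (Away 𝒜 f) where
  smul := (· • ·)
  algebraMap := (fromZeroRingHom 𝒜 _).comp (algebraMap R (𝒜 0))
  commutes' _ _ := mul_comm _ _
  smul_def' r x := by
    apply val_injective
    refine (val_smul _ r x).trans ?_
    rw [val_mul, Algebra.smul_def]
    congr 1

lemma val_algebraMap_away (f : A) (r : R) :
    (algebraMap R (Away 𝒜 f) r).val = algebraMap R (Localization.Away f) r := by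
  rw [Algebra.algebraMap_eq_smul_one, Algebra.algebraMap_eq_smul_one]
  exact (val_smul _ r 1).trans (by rw [val_one])

/-- `b ↦ b / f ^ n`. -/
noncomputable def fracMap {d : ℕ} {f : A} (hf : f ∈ 𝒜 d) (n : ℕ) : 𝒜 (n • d) →ₗ[R] Away 𝒜 f where
  toFun b := Away.mk 𝒜 hf n b b.2
  map_add' a b := val_injective _ (by simp [Away.val_mk, Localization.add_mk_self, val_add])
  map_smul' r a := val_injective _ (by
    refine Eq.trans ?_ (val_smul _ r _).symm
    simp [Away.val_mk, Localization.smul_mk])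

/-- `b ↦ f ^ k * b` from degree `n • d` to degree `(n + k) • d`. -/
noncomputable def shiftMap {d : ℕ} {f : A} (hf : f ∈ 𝒜 d) (n k : ℕ) :
    𝒜 (n • d) →ₗ[R] 𝒜 ((n + k) • d) :=
  LinearMap.codRestrict _ ((LinearMap.mulLeft R (f ^ k)) ∘ₗ (𝒜 (n • d)).subtype) fun b => by
    rw [add_smul, add_comm]
    exact SetLike.mul_mem_graded (SetLike.pow_mem_graded k hf) b.2

lemma fracMap_shiftMap {d : ℕ} {f : A} (hf : f ∈ 𝒜 d) (n k : ℕ) :
    fracMap hf (n + k) ∘ₗ shiftMap hf n k = fracMap hf n := by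
  refine LinearMap.ext fun b => val_injective _ ?_
  simp only [fracMap, LinearMap.comp_apply, LinearMap.coe_mk, AddHom.coe_mk, Away.val_mk]
  rw [Localization.mk_eq_mk_iff, Localization.r_iff_exists]
  exact ⟨1, by simp [shiftMap, pow_add]; ring⟩

/-- Projection to a homogeneous component, as a linear map. -/
noncomputable def compMap (m : ℕ) : A →ₗ[R] 𝒜 m :=
  (DirectSum.component R ℕ (fun i => 𝒜 i) m) ∘ₗ
    (DirectSum.decomposeLinearEquiv 𝒜).toLinearMap

lemma compMap_subtype (m : ℕ) : compMap (𝒜 := 𝒜) m ∘ₗ (𝒜 m).subtype = LinearMap.id := by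
  refine LinearMap.ext fun b => Subtype.ext ?_
  exact decompose_of_mem_same 𝒜 b.2

end algebra

variable {R R' A B : Type u} [CommRing R'] [CommRing R] [Algebra R' R]
  [CommRing B] [Algebra R' B] {ℬ : ℕ → Submodule R' B} [GradedAlgebra ℬ]
  [CommRing A] [Algebra R A] [Algebra R' A] [IsScalarTower R' R A] {𝒜 : ℕ → Submodule R A}
  [GradedAlgebra 𝒜] [Algebra B A] [IsScalarTower R' B A] [Algebra.IsPushout R' R B A]
  (φ : ℬ →+*ᵍ 𝒜) (hφA : ∀ b : B, φ b = algebraMap B A b)

include hφA in
lemma away_map_algebraMap (s : B) (r : R') :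
    Away.map φ s (algebraMap R' (Away ℬ s) r) =
      algebraMap R (Away 𝒜 (φ s)) (algebraMap R' R r) := by
  apply val_injective
  rw [val_algebraMap_away]
  change (HomogeneousLocalization.map φ _ (mk _)).val = _
  rw [HomogeneousLocalization.map_mk, val_mk]
  rw [IsScalarTower.algebraMap_apply R A (Localization.Away (φ s)),
    ← IsScalarTower.algebraMap_apply R' R A, ← Localization.mk_one_eq_algebraMap]
  congr 1
  · change φ (algebraMap R' B r) = _
    rw [hφA, ← IsScalarTower.algebraMap_apply]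
  · exact Subtype.ext (map_one φ)

set_option backward.isDefEq.respectTransparency false in
include hφA in
lemma away_isPushout {d : ℕ} {s : B} (hs : s ∈ ℬ d) :
    IsPushout (CommRingCat.ofHom (algebraMap R' R))
      (CommRingCat.ofHom (algebraMap R' (Away ℬ s)))
      (CommRingCat.ofHom (algebraMap R (Away 𝒜 (φ s))))
      (CommRingCat.ofHom (Away.map φ s : Away ℬ s →+* Away 𝒜 (φ s))) := by
  classical
  let : Algebra (Away ℬ s) (Away 𝒜 (φ s)) := (Away.map φ s).toAlgebra
  let : Algebra R' (Away 𝒜 (φ s)) :=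
    ((algebraMap R (Away 𝒜 (φ s))).comp (algebraMap R' R)).toAlgebra
  have : IsScalarTower R' R (Away 𝒜 (φ s)) :=
    IsScalarTower.of_algebraMap_eq (R := R') (S := R) (A := Away 𝒜 (φ s)) fun _ => rfl
  have : IsScalarTower R' (Away ℬ s) (Away 𝒜 (φ s)) :=
    IsScalarTower.of_algebraMap_eq (R := R') (S := Away ℬ s) (A := Away 𝒜 (φ s))
      fun r => (away_map_algebraMap φ hφA s r).symm
  refine CommRingCat.isPushout_iff_isPushout.mpr ⟨?_⟩
  let f := (IsScalarTower.toAlgHom R' (Away ℬ s) (Away 𝒜 (φ s))).toLinearMap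
  let L : R ⊗[R'] Away ℬ s →ₗ[R] Away 𝒜 (φ s) := LinearMap.liftBaseChange R f
  have hsA : φ s ∈ 𝒜 d := φ.map_mem hs
  let eqv := (Algebra.IsPushout.equiv R' R B A).toLinearEquiv
  have heqv : ∀ r b, eqv (r ⊗ₜ[R'] b) = r • φ b := fun r b => by
    rw [hφA, Algebra.smul_def]; exact Algebra.IsPushout.equiv_tmul ..
  -- numerators
  have key : ∀ (n : ℕ) (t : R ⊗[R'] ℬ (n • d)),
      (L ((fracMap hs n).lTensor R t)).val = Localization.mk (eqv ((ℬ (n • d)).subtype.lTensor R t))
        ⟨φ s ^ n, pow_mem (Submonoid.mem_powers _) n⟩ := fun n t => by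
    induction t with
    | zero => simp [Localization.mk_zero]
    | tmul r b =>
      rw [LinearMap.lTensor_tmul, LinearMap.lTensor_tmul, heqv, LinearMap.liftBaseChange_tmul,
        ← Localization.smul_mk]
      refine (val_smul _ r _).trans ?_
      congr 1
      change (Away.map φ s (Away.mk ℬ hs n b b.2)).val = _
      rw [Away.map_mk φ s hs, Away.val_mk]
      rfl
    | add x y hx hy =>
      rw [map_add, map_add, val_add, hx, hy, map_add, map_add, Localization.add_mk_self]
  have hrange : ∀ x : R ⊗[R'] Away ℬ s, ∃ (n : ℕ) (t : R ⊗[R'] ℬ (n • d)),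
      (fracMap hs n).lTensor R t = x := fun x => by
    induction x with
    | zero => exact ⟨0, 0, map_zero _⟩
    | tmul r y =>
      obtain ⟨n, b, hb, rfl⟩ := Away.mk_surjective ℬ hs y
      exact ⟨n, r ⊗ₜ ⟨b, hb⟩, rfl⟩
    | add x y hx hy =>
      obtain ⟨n, t, rfl⟩ := hx
      obtain ⟨m, t', rfl⟩ := hy
      obtain ⟨k, hk⟩ : ∃ k, n + m = n + k := ⟨m, rfl⟩
      obtain ⟨l, hl⟩ : ∃ l, n + m = m + l := ⟨n, add_comm n m⟩
      have h1 : ∀ (i j p : ℕ) (hp : i + j = p) (z : R ⊗[R'] ℬ (i • d)),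
          ∃ z' : R ⊗[R'] ℬ (p • d), (fracMap hs p).lTensor R z' = (fracMap hs i).lTensor R z := by
        rintro i j p rfl z
        refine ⟨(shiftMap hs i j).lTensor R z, ?_⟩
        rw [← LinearMap.lTensor_comp_apply, fracMap_shiftMap]
      obtain ⟨a, ha⟩ := h1 n m (n + m) rfl t
      obtain ⟨b, hb⟩ := h1 m n (n + m) (add_comm m n) t'
      exact ⟨n + m, a + b, by rw [map_add, ha, hb]⟩
  refine IsBaseChange.of_equiv (LinearEquiv.ofBijective L ⟨?_, ?_⟩) fun y => ?_
  · refine (injective_iff_map_eq_zero _).mpr fun x hx => ?_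
    obtain ⟨n, t, rfl⟩ := hrange x
    have h0 := key n t
    rw [hx, val_zero, Localization.mk_eq_mk', eq_comm, IsLocalization.mk'_eq_zero_iff] at h0
    obtain ⟨⟨_, k, rfl⟩, hk⟩ := h0
    rw [← fracMap_shiftMap hs n k, LinearMap.lTensor_comp_apply]
    suffices (shiftMap hs n k).lTensor R t = 0 by rw [this, map_zero]
    have h2 : (ℬ ((n + k) • d)).subtype.lTensor R ((shiftMap hs n k).lTensor R t) = 0 := by
      apply eqv.injective
      rw [map_zero, ← hk, ← LinearMap.lTensor_comp_apply]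
      clear hk hx
      induction t with
      | zero => simp
      | tmul r b =>
        rw [LinearMap.lTensor_tmul, LinearMap.lTensor_tmul, heqv, heqv, mul_smul_comm]
        congr 1
        change φ (s ^ k * (b : B)) = φ s ^ k * φ (b : B)
        rw [map_mul, map_pow]
      | add x y hx hy => simp only [map_add, mul_add, hx, hy]
    have h3 := congrArg ((compMap (𝒜 := ℬ) ((n + k) • d)).lTensor R) h2
    rwa [map_zero, ← LinearMap.lTensor_comp_apply, compMap_subtype, LinearMap.lTensor_id,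
      LinearMap.id_apply] at h3
  · intro y
    obtain ⟨n, a, ha, rfl⟩ := Away.mk_surjective 𝒜 hsA y
    refine ⟨(fracMap hs n).lTensor R ((compMap (𝒜 := ℬ) (n • d)).lTensor R (eqv.symm a)), ?_⟩
    apply val_injective
    rw [key, Away.val_mk]
    congr 1
    have hcomm : ∀ w : R ⊗[R'] B,
        eqv ((ℬ (n • d)).subtype.lTensor R ((compMap (𝒜 := ℬ) (n • d)).lTensor R w)) =
          (decompose 𝒜 (eqv w) (n • d) : A) := fun w => by
      induction w with
      | zero => rw [map_zero, map_zero, map_zero, decompose_zero]; rfl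
      | tmul r b =>
        rw [LinearMap.lTensor_tmul, LinearMap.lTensor_tmul, heqv, heqv, decompose_smul,
          DirectSum.smul_apply, Submodule.coe_smul]
        congr 1
        exact GradedRingHom.map_directSumDecompose (𝒜 := ℬ) (ℬ := 𝒜) φ (x := b) (i := n • d)
      | add x y hx hy =>
        simp only [map_add, hx, hy, decompose_add, DirectSum.add_apply, Submodule.coe_add]
    rw [hcomm, LinearEquiv.apply_symm_apply, decompose_of_mem_same 𝒜 ha]
  · change L (1 ⊗ₜ[R'] y) = f y
    rw [LinearMap.liftBaseChange_tmul, one_smul]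

variable (hφ : HomogeneousIdeal.irrelevant 𝒜 ≤ (HomogeneousIdeal.irrelevant ℬ).map φ)

lemma awayι_structure {S : Type u} [CommRing S] {T : Type u} [CommRing T] [Algebra S T]
    (𝒯 : ℕ → Submodule S T) [GradedAlgebra 𝒯] {f : T} {m : ℕ} (hf : f ∈ 𝒯 m) (hm : 0 < m) :
    Proj.awayι 𝒯 f hf hm ≫ Proj.toSpecZero 𝒯 ≫ Spec.map (CommRingCat.ofHom (algebraMap S (𝒯 0))) =
      Spec.map (CommRingCat.ofHom (algebraMap S (Away 𝒯 f))) := by
  rw [Proj.awayι_toSpecZero_assoc, ← Spec.map_comp, ← CommRingCat.ofHom_comp]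

lemma spec_isPullback_flip {P₁ B₁ C₁ D₁ : CommRingCat.{u}} {f : P₁ ⟶ B₁} {g : P₁ ⟶ C₁}
    {inl : B₁ ⟶ D₁} {inr : C₁ ⟶ D₁} (h : IsPushout f g inl inr) :
    IsPullback (Spec.map inr) (Spec.map inl) (Spec.map g) (Spec.map f) :=
  (isPullback_SpecMap_of_isPushout _ _ _ _ h).flip

include hφA in
lemma map_isPullback_chart {e : ℕ} (he : 0 < e) (s : B) (hs : s ∈ ℬ e) :
    IsPullback (pullback.snd (Proj.map φ hφ) (Proj.awayι ℬ s hs he))
      (pullback.fst (Proj.map φ hφ) (Proj.awayι ℬ s hs he) ≫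
        Proj.toSpecZero 𝒜 ≫ Spec.map (CommRingCat.ofHom (algebraMap R (𝒜 0))))
      (Proj.awayι ℬ s hs he ≫
        Proj.toSpecZero ℬ ≫ Spec.map (CommRingCat.ofHom (algebraMap R' (ℬ 0))))
      (Spec.map (CommRingCat.ofHom (algebraMap R' R))) := by
  have h := isPullback_map_awayι φ hφ he s hs
  have hpo := away_isPushout φ hφA (s := s) hs
  have hp := spec_isPullback_flip hpo
  refine IsPullback.of_iso hp h.isoPullback (Iso.refl _) (Iso.refl _) (Iso.refl _) ?_ ?_ ?_ ?_
  · rw [Iso.refl_hom, Category.comp_id, h.isoPullback_hom_snd]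
  · rw [Iso.refl_hom, Category.comp_id, h.isoPullback_hom_fst_assoc, awayι_structure]
  · rw [Iso.refl_hom, Iso.refl_hom, Category.comp_id, Category.id_comp, awayι_structure]
  · simp only [Iso.refl_hom, Category.comp_id, Category.id_comp]

include hφA in
lemma map_isPullback :
    IsPullback (Proj.map φ hφ)
      (Proj.toSpecZero 𝒜 ≫ Spec.map (CommRingCat.ofHom (algebraMap R (𝒜 0))))
      (Proj.toSpecZero ℬ ≫ Spec.map (CommRingCat.ofHom (algebraMap R' (ℬ 0))))
      (Spec.map (CommRingCat.ofHom (algebraMap R' R))) := by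
  refine Scheme.isPullback_of_openCover _ _ _ _ (Proj.affineOpenCover ℬ).openCover fun i => ?_
  exact map_isPullback_chart φ hφA hφ i.1.2 (i.2 : B) i.2.2

end Groth.Agent.ProjLib
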