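import Groth.Agent.ProjLib.MapLocal
import Groth.Agent.ProjLib.GradedQuotient
import Mathlib.AlgebraicGeometry.Morphisms.ClosedImmersion

/-!
# Closed subschemes of `Proj` come from graded quotients
-/

set_option linter.unusedSectionVars false

namespace Groth.Agent.ProjLib

open DirectSum HomogeneousIdeal AlgebraicGeometry CategoryTheory CategoryTheory.Limits
  HomogeneousLocalization

universe u

variable {R A : Type u} [CommRing R] [CommRing A] [Algebra R A] (𝒜 : ℕ → Submodule R A)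
  [GradedAlgebra 𝒜]

/-- The affine open `D₊(f)`. -/
noncomputable def affineBasic {d : ℕ} (hd : 0 < d) {f : A} (hf : f ∈ 𝒜 d) :
    (Proj 𝒜).affineOpens :=
  ⟨Proj.basicOpen 𝒜 f, Proj.isAffineOpen_basicOpen 𝒜 f hf hd⟩

lemma awayToSection_bijective {d : ℕ} (hd : 0 < d) {f : A} (hf : f ∈ 𝒜 d) :
    Function.Bijective (Proj.awayToSection 𝒜 f) :=
  ConcreteCategory.bijective_of_isIso (Proj.basicOpenIsoAway 𝒜 f hf hd).hom

/-- The ideal of `S_(f)` cut out by an ideal sheaf. -/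
noncomputable def chartIdeal (I : (Proj 𝒜).IdealSheafData) {d : ℕ} (hd : 0 < d) {f : A}
    (hf : f ∈ 𝒜 d) : Ideal (Away 𝒜 f) :=
  (I.ideal (affineBasic 𝒜 hd hf)).comap (Proj.awayToSection 𝒜 f).hom

lemma chartIdeal_map (I : (Proj 𝒜).IdealSheafData) {d e : ℕ} (hd : 0 < d) (_he : 0 < e) {f g x : A}
    (hf : f ∈ 𝒜 d) (hg : g ∈ 𝒜 e) (hx : x = f * g) :
    (chartIdeal 𝒜 I hd hf).map (awayMap 𝒜 hg hx) =
      chartIdeal 𝒜 I (Nat.add_pos_left hd e) (hx ▸ SetLike.mul_mem_graded hf hg : x ∈ 𝒜 (d + e)) := by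
  have hmem : x ∈ 𝒜 (d + e) := hx ▸ SetLike.mul_mem_graded hf hg
  have hle : affineBasic 𝒜 (Nat.add_pos_left hd e) hmem ≤ affineBasic 𝒜 hd hf :=
    Proj.basicOpen_mono 𝒜 f x ⟨g, hx⟩
  have hcomm : (Proj.awayToSection 𝒜 x).hom.comp (awayMap 𝒜 hg hx) =
      ((Proj 𝒜).presheaf.map (homOfLE (show Proj.basicOpen 𝒜 x ≤ Proj.basicOpen 𝒜 f from hle)).op).hom.comp
        (Proj.awayToSection 𝒜 f).hom :=
    congrArg CommRingCat.Hom.hom (Proj.awayMap_awayToSection 𝒜 (f := f) hg hx)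
  refine ((Ideal.comap_map_of_bijective (Proj.awayToSection 𝒜 x).hom
    (awayToSection_bijective 𝒜 (Nat.add_pos_left hd e) hmem)).symm).trans ?_
  change Ideal.comap (Proj.awayToSection 𝒜 x).hom _ =
    Ideal.comap (Proj.awayToSection 𝒜 x).hom (I.ideal (affineBasic 𝒜 (Nat.add_pos_left hd e) hmem))
  congr 1
  rw [Ideal.map_map, hcomm, ← Ideal.map_map, chartIdeal]
  refine (congrArg _ (Ideal.map_comap_of_surjective _ (awayToSection_bijective 𝒜 hd hf).2 _)).trans ?_
  exact I.map_ideal hle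

lemma chartIdeal_ker_map {B : Type u} [CommRing B] [Algebra R B] {ℬ : ℕ → Submodule R B}
    [GradedAlgebra ℬ] (φ : 𝒜 →+*ᵍ ℬ)
    (hφ : irrelevant ℬ ≤ (irrelevant 𝒜).map φ) [QuasiCompact (Proj.map φ hφ)] {d : ℕ} (hd : 0 < d)
    {f : A} (hf : f ∈ 𝒜 d) :
    chartIdeal 𝒜 (Proj.map φ hφ).ker hd hf = RingHom.ker (Away.map φ f) := by
  rw [chartIdeal, Scheme.Hom.ker_apply]
  refine (RingHom.comap_ker _ _).trans ?_
  have h := congrArg CommRingCat.Hom.hom (Proj.awayToSection_comp_appLE φ hφ hf)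
  rw [CommRingCat.hom_comp, CommRingCat.hom_comp, CommRingCat.hom_ofHom] at h
  have happ : (Proj.map φ hφ).app (Proj.basicOpen 𝒜 f) =
      (Proj.map φ hφ).appLE (Proj.basicOpen 𝒜 f) (Proj.basicOpen ℬ (φ f)) (by rfl) :=
    Scheme.Hom.app_eq_appLE _
  change RingHom.ker (((Proj.map φ hφ).app (Proj.basicOpen 𝒜 f)).hom.comp _) = _
  rw [happ]
  refine (congrArg RingHom.ker h).trans ?_
  exact RingHom.ker_comp_of_injective _
    (awayToSection_bijective ℬ hd (show φ f ∈ ℬ d from φ.map_mem hf)).1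

lemma isLocalizationElem_one {f g : A} (hf : f ∈ 𝒜 1) (hg : g ∈ 𝒜 1) :
    (Away.isLocalizationElem hg hf).val =
      Localization.mk f (⟨g, Submonoid.mem_powers g⟩ : Submonoid.powers g) := by
  simp [Away.isLocalizationElem, Away.val_mk]

lemma mk_mul_isLocalizationElem {f g : A} (hf : f ∈ 𝒜 1) (hg : g ∈ 𝒜 1) (M n : ℕ) {a : A}
    (ha : a ∈ 𝒜 n) :
    Away.isLocalizationElem hg hf ^ M * Away.mk 𝒜 hg n a (by simpa using ha) =
      Away.mk 𝒜 hg (M + n) (f ^ M * a)
        (by simpa using SetLike.mul_mem_graded (SetLike.pow_mem_graded M hf) ha) := by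
  apply val_injective
  rw [val_mul, val_pow, isLocalizationElem_one 𝒜 hf hg, Away.val_mk, Away.val_mk,
    Localization.mk_pow, Localization.mk_mul]
  congr 1
  ext
  simp [pow_add]

lemma comp_mem (x : A) (n : ℕ) : (decompose 𝒜 x n : A) ∈ 𝒜 (n • 1) := by
  simp

variable {s : Finset A} (hs1 : ∀ f ∈ s, f ∈ 𝒜 1) (I : (Proj 𝒜).IdealSheafData)

/-- The homogeneous ideal of a closed subscheme. -/
noncomputable def subschemeIdeal : Ideal A where
  carrier := {a | ∀ (n : ℕ) (f : A) (hf : f ∈ s),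
    Away.mk 𝒜 (hs1 f hf) n (decompose 𝒜 a n : A) (comp_mem 𝒜 _ _) ∈
      chartIdeal 𝒜 I one_pos (hs1 f hf)}
  add_mem' {a b} ha hb n f hf := by
    have : Away.mk 𝒜 (hs1 f hf) n (decompose 𝒜 (a + b) n : A) (comp_mem 𝒜 _ _) =
        Away.mk 𝒜 (hs1 f hf) n (decompose 𝒜 a n : A) (comp_mem 𝒜 _ _) +
          Away.mk 𝒜 (hs1 f hf) n (decompose 𝒜 b n : A) (comp_mem 𝒜 _ _) := val_injective _ (by
      rw [val_add, Away.val_mk, Away.val_mk, Away.val_mk, Localization.add_mk_self, decompose_add,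
        DirectSum.add_apply, Submodule.coe_add])
    rw [this]
    exact add_mem (ha n f hf) (hb n f hf)
  zero_mem' n f hf := by
    have : Away.mk 𝒜 (hs1 f hf) n (decompose 𝒜 (0 : A) n : A) (comp_mem 𝒜 _ _) = 0 :=
      (away_mk_eq_zero_iff 𝒜 _ _ _ _).mpr ⟨0, by simp⟩
    rw [this]
    exact zero_mem _
  smul_mem' c x hx := by
    classical
    induction c using DirectSum.Decomposition.inductionOn (ℳ := 𝒜) with
    | zero =>
      intro n f hf
      have : Away.mk 𝒜 (hs1 f hf) n (decompose 𝒜 ((0 : A) • x) n : A) (comp_mem 𝒜 _ _) = 0 :=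
        (away_mk_eq_zero_iff 𝒜 _ _ _ _).mpr ⟨0, by simp⟩
      rw [this]
      exact zero_mem _
    | @homogeneous j c =>
      intro n f hf
      by_cases hle : j ≤ n
      · have : Away.mk 𝒜 (hs1 f hf) n (decompose 𝒜 ((c : A) • x) n : A) (comp_mem 𝒜 _ _) =
            Away.mk 𝒜 (hs1 f hf) j (c : A) (by simp) *
              Away.mk 𝒜 (hs1 f hf) (n - j) (decompose 𝒜 x (n - j) : A) (comp_mem 𝒜 _ _) :=
          val_injective _ (by
            rw [val_mul, Away.val_mk, Away.val_mk, Away.val_mk, Localization.mk_mul, smul_eq_mul,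
              coe_decompose_mul_of_left_mem_of_le 𝒜 c.2 hle]
            congr 1
            exact Subtype.ext (by simp [← pow_add, Nat.add_sub_cancel' hle]))
        rw [this]
        exact Ideal.mul_mem_left _ _ (hx (n - j) f hf)
      · have : Away.mk 𝒜 (hs1 f hf) n (decompose 𝒜 ((c : A) • x) n : A) (comp_mem 𝒜 _ _) = 0 :=
          (away_mk_eq_zero_iff 𝒜 _ _ _ _).mpr ⟨0, by
            rw [smul_eq_mul, coe_decompose_mul_of_left_mem_of_not_le 𝒜 c.2 hle, mul_zero]⟩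
        rw [this]
        exact zero_mem _
    | add a b ha hb =>
      intro n f hf
      have : Away.mk 𝒜 (hs1 f hf) n (decompose 𝒜 ((a + b) • x) n : A) (comp_mem 𝒜 _ _) =
          Away.mk 𝒜 (hs1 f hf) n (decompose 𝒜 (a • x) n : A) (comp_mem 𝒜 _ _) +
            Away.mk 𝒜 (hs1 f hf) n (decompose 𝒜 (b • x) n : A) (comp_mem 𝒜 _ _) := val_injective _ (by
        rw [val_add, Away.val_mk, Away.val_mk, Away.val_mk, Localization.add_mk_self, add_smul,
          decompose_add, DirectSum.add_apply, Submodule.coe_add])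
      rw [this]
      exact add_mem (ha n f hf) (hb n f hf)

lemma mem_subschemeIdeal_iff {n : ℕ} {a : A} (ha : a ∈ 𝒜 n) :
    a ∈ subschemeIdeal 𝒜 hs1 I ↔ ∀ (f : A) (hf : f ∈ s),
      Away.mk 𝒜 (hs1 f hf) n a (by simpa using ha) ∈ chartIdeal 𝒜 I one_pos (hs1 f hf) := by
  constructor
  · intro h f hf
    convert h n f hf using 2
    exact (decompose_of_mem_same 𝒜 ha).symm
  · intro h m f hf
    by_cases hmn : n = m
    · subst hmn
      convert h f hf using 2
      exact decompose_of_mem_same 𝒜 ha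
    · have : Away.mk 𝒜 (hs1 f hf) m (decompose 𝒜 a m : A) (comp_mem 𝒜 _ _) = 0 :=
        (away_mk_eq_zero_iff 𝒜 _ _ _ _).mpr ⟨0, by
          rw [decompose_of_mem_ne 𝒜 ha hmn, mul_zero]⟩
      rw [this]
      exact zero_mem _

lemma subschemeIdeal_isHomogeneous : (subschemeIdeal 𝒜 hs1 I).IsHomogeneous 𝒜 :=
  fun i _ hx => (mem_subschemeIdeal_iff 𝒜 hs1 I (decompose 𝒜 _ i).2).mpr fun f hf => hx i f hf

lemma exists_pow_mul_mem_subschemeIdeal {n : ℕ} {a : A} (ha : a ∈ 𝒜 n) {f : A} (hf : f ∈ s)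
    (h : Away.mk 𝒜 (hs1 f hf) n a (by simpa using ha) ∈ chartIdeal 𝒜 I one_pos (hs1 f hf)) :
    ∃ M : ℕ, f ^ M * a ∈ subschemeIdeal 𝒜 hs1 I := by
  classical
  have step : ∀ g : s, ∃ M : ℕ,
      Away.isLocalizationElem (hs1 g.1 g.2) (hs1 f hf) ^ M *
        Away.mk 𝒜 (hs1 g.1 g.2) n a (by simpa using ha) ∈
          chartIdeal 𝒜 I one_pos (hs1 g.1 g.2) := by
    rintro ⟨g, hg⟩
    let := (awayMap 𝒜 (hs1 f hf) (mul_comm f g : f * g = g * f)).toAlgebra
    have := Away.isLocalization_mul (hs1 g hg) (hs1 f hf) (mul_comm f g : f * g = g * f) one_ne_zero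
    let t : Away 𝒜 (f * g) := awayMap 𝒜 (hs1 g hg) rfl (Away.isLocalizationElem (hs1 f hf) (hs1 g hg))
    have h1 : awayMap 𝒜 (hs1 f hf) (mul_comm f g : f * g = g * f)
        (Away.mk 𝒜 (hs1 g hg) n a (by simpa using ha)) ∈
        chartIdeal 𝒜 I (Nat.add_pos_left one_pos 1) (SetLike.mul_mem_graded (hs1 f hf) (hs1 g hg)) := by
      rw [← chartIdeal_map 𝒜 I one_pos one_pos (hs1 f hf) (hs1 g hg) rfl]
      have hu : IsUnit (awayMap 𝒜 (hs1 g hg) (rfl : f * g = f * g)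
          (Away.isLocalizationElem (hs1 f hf) (hs1 g hg)) ^ n) := by
        refine IsUnit.pow n ?_
        let := (awayMap 𝒜 (hs1 g hg) (rfl : f * g = f * g)).toAlgebra
        have := Away.isLocalization_mul (hs1 f hf) (hs1 g hg) (rfl : f * g = f * g) one_ne_zero
        exact IsLocalization.Away.algebraMap_isUnit (Away.isLocalizationElem (hs1 f hf) (hs1 g hg))
      refine (Ideal.unit_mul_mem_iff_mem _ hu).mp ?_
      convert Ideal.mem_map_of_mem (awayMap 𝒜 (hs1 g hg) (rfl : f * g = f * g)) h using 1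
      apply val_injective
      simp only [Away.isLocalizationElem, awayMap_mk, val_mul, val_pow, Away.val_mk,
        Localization.mk_pow, Localization.mk_mul]
      rw [Localization.mk_eq_mk_iff, Localization.r_iff_exists]
      exact ⟨1, by simp [mul_pow]; ring⟩
    have h2 : chartIdeal 𝒜 I (Nat.add_pos_left one_pos 1)
        (SetLike.mul_mem_graded (hs1 f hf) (hs1 g hg)) =
        (chartIdeal 𝒜 I one_pos (hs1 g hg)).map
          (awayMap 𝒜 (hs1 f hf) (mul_comm f g : f * g = g * f)) :=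
      (chartIdeal_map 𝒜 I one_pos one_pos (hs1 g hg) (hs1 f hf) (mul_comm f g)).symm
    rw [h2] at h1
    obtain ⟨_, ⟨M, rfl⟩, hM⟩ := (IsLocalization.algebraMap_mem_map_algebraMap_iff
      (Submonoid.powers (Away.isLocalizationElem (hs1 g hg) (hs1 f hf))) _ _ _).mp h1
    exact ⟨M, hM⟩
  choose M hM using step
  refine ⟨Finset.univ.sup M, (mem_subschemeIdeal_iff 𝒜 hs1 I (n := Finset.univ.sup M + n)
    (by simpa using SetLike.mul_mem_graded (SetLike.pow_mem_graded _ (hs1 f hf)) ha)).mpr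
    fun g hg => ?_⟩
  rw [← mk_mul_isLocalizationElem 𝒜 (hs1 f hf) (hs1 g hg) _ n ha]
  obtain ⟨k, hk⟩ := Nat.exists_eq_add_of_le (Finset.le_sup (f := M) (Finset.mem_univ ⟨g, hg⟩))
  rw [hk, pow_add, mul_comm (_ ^ M _), mul_assoc]
  exact Ideal.mul_mem_left _ _ (hM ⟨g, hg⟩)

variable (hs : (irrelevant 𝒜).toIdeal = Ideal.span (s : Set A))

include hs1 hs in
lemma exists_quotient_of_closedImmersion {Z : Scheme.{u}} (i : Z ⟶ Proj 𝒜)
    [IsClosedImmersion i] :
    ∃ (B : Type u) (_ : CommRing B) (_ : Algebra R B) (ℬ : ℕ → Submodule R B) (_ : GradedAlgebra ℬ)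
      (φ : 𝒜 →+*ᵍ ℬ) (_ : Function.Surjective φ)
      (hφ : irrelevant ℬ ≤ (irrelevant 𝒜).map φ)
      (e : Z ≅ Proj ℬ), e.hom ≫ Proj.map φ hφ = i := by
  classical
  let J := subschemeIdeal 𝒜 hs1 i.ker
  letI : GradedAlgebra (quotGrading 𝒜 J) :=
    quotGradedAlgebra 𝒜 (subschemeIdeal_isHomogeneous 𝒜 hs1 i.ker)
  let φ := quotGradedHom 𝒜 (I := J)
  have hφ : irrelevant (quotGrading 𝒜 J) ≤ (irrelevant 𝒜).map φ :=
    toIdeal_le_toIdeal_iff.mp (irrelevant_le_of_homogeneous _ fun n hn b ⟨a, ha, hab⟩ =>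
      hab ▸ Ideal.mem_map_of_mem φ (mem_irrelevant_of_pos 𝒜 hn ha))
  have hcl : IsClosedImmersion (Proj.map φ hφ) :=
    map_isClosedImmersion φ hφ fun n _ b ⟨a, ha, hab⟩ => ⟨a, ha, hab⟩
  have hker : (Proj.map φ hφ).ker = i.ker := by
    refine Scheme.IdealSheafData.ext_of_iSup_eq_top
      (fun f : s => affineBasic 𝒜 one_pos (hs1 f f.2)) ?_ fun f => ?_
    · exact Proj.iSup_basicOpen_eq_top 𝒜 (fun f : s => (f : A))
        (by rw [Subtype.range_coe_subtype]; exact hs.le)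
    · apply Ideal.comap_injective_of_surjective (Proj.awayToSection 𝒜 (f : A)).hom
        (awayToSection_bijective 𝒜 one_pos (hs1 f f.2)).2
      change chartIdeal 𝒜 (Proj.map φ hφ).ker one_pos (hs1 f f.2) =
        chartIdeal 𝒜 i.ker one_pos (hs1 f f.2)
      rw [chartIdeal_ker_map 𝒜 φ hφ one_pos (hs1 f f.2)]
      ext x
      obtain ⟨n, a, ha, rfl⟩ := Away.mk_surjective 𝒜 (hs1 f f.2) x
      have han : a ∈ 𝒜 n := by simpa using ha
      rw [RingHom.mem_ker, Away.map_mk φ (f : A) (hs1 f f.2), away_mk_eq_zero_iff]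
      constructor
      · rintro ⟨k, hk⟩
        have hmem : (f : A) ^ k * a ∈ J := Ideal.Quotient.eq_zero_iff_mem.mp (by
          rw [map_mul, map_pow]; exact hk)
        have h1 := (mem_subschemeIdeal_iff 𝒜 hs1 i.ker (n := k + n) (by
          simpa using SetLike.mul_mem_graded (SetLike.pow_mem_graded k (hs1 f f.2)) han)).mp hmem f f.2
        convert h1 using 1
        apply val_injective
        rw [Away.val_mk, Away.val_mk, Localization.mk_eq_mk_iff, Localization.r_iff_exists]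
        exact ⟨1, by simp [pow_add]; ring⟩
      · intro h
        obtain ⟨M, hM⟩ := exists_pow_mul_mem_subschemeIdeal 𝒜 hs1 i.ker han f.2 h
        refine ⟨M, ?_⟩
        have := Ideal.Quotient.eq_zero_iff_mem.mpr hM
        rwa [map_mul, map_pow] at this
  have := IsClosedImmersion.isIso_lift (Proj.map φ hφ) i hker
  exact ⟨A ⧸ J, inferInstance, inferInstance, quotGrading 𝒜 J, inferInstance, φ,
    quotGradedHom_surjective 𝒜, hφ, asIso (IsClosedImmersion.lift (Proj.map φ hφ) i hker.le),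
    IsClosedImmersion.lift_fac _ _ _⟩

end Groth.Agent.ProjLib
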