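import Mathlib.RingTheory.Polynomial.IsIntegral
import Mathlib.LinearAlgebra.Charpoly.BaseChange
import Mathlib.LinearAlgebra.Eigenspace.Basic
import Mathlib.LinearAlgebra.Matrix.Charpoly.Eigs
import Mathlib.FieldTheory.IsAlgClosed.AlgebraicClosure
import Mathlib.FieldTheory.IsAlgClosed.Spectrum
import Mathlib.LinearAlgebra.FreeModule.Finite.Basic
import Mathlib.RingTheory.Localization.Module
import Mathlib.RingTheory.TensorProduct.Free
import Mathlib.RingTheory.IntegralClosure.IntegrallyClosed

/-!
# Integrality of the coefficients of characteristic polynomials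
-/

set_option linter.unusedSectionVars false

namespace Groth.Agent.ProjLib

open Polynomial TensorProduct

universe u

variable {A K : Type u} [CommRing A] [Field K] [Algebra A K]

lemma matrix_charpoly_coeff_isIntegral {n : Type*} [Fintype n] [DecidableEq n] (M : Matrix n n K)
    (p : A[X]) (hp : p.Monic) (hM : aeval M (p.map (algebraMap A K)) = 0) (i : ℕ) :
    IsIntegral A (M.charpoly.coeff i) := by
  refine (isIntegral_algHom_iff (IsScalarTower.toAlgHom A K (AlgebraicClosure K))
    (FaithfulSMul.algebraMap_injective K (AlgebraicClosure K))).mp ?_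
  rw [IsScalarTower.coe_toAlgHom', ← coeff_map, ← Matrix.charpoly_map]
  refine isIntegral_coeff_of_factors _ (by simp [(Matrix.charpoly_monic _).leadingCoeff, isIntegral_one])
    (IsAlgClosed.splits _) (fun x hx => ⟨p, hp, ?_⟩) i
  set M' := M.map (algebraMap K (AlgebraicClosure K))
  have h0 : aeval M' (p.map (algebraMap A (AlgebraicClosure K))) = 0 := by
    have := congrArg (Algebra.ofId K (AlgebraicClosure K)).mapMatrix hM
    rw [← aeval_algHom_apply, map_zero] at this
    rw [aeval_map_algebraMap]
    simp only [AlgHom.mapMatrix_apply, aeval_map_algebraMap] at this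
    exact this
  have hx' : x ∈ spectrum (AlgebraicClosure K) M' :=
    Matrix.mem_spectrum_iff_isRoot_charpoly.mpr hx
  have := spectrum.subset_polynomial_aeval M' (p.map (algebraMap A (AlgebraicClosure K)))
    ⟨x, hx', rfl⟩
  rw [h0] at this
  change p.eval₂ (algebraMap A (AlgebraicClosure K)) x = 0
  rw [← eval_map]
  by_contra hne
  refine spectrum.mem_iff.mp this ?_
  simpa using (IsUnit.map (algebraMap (AlgebraicClosure K) (Matrix n n (AlgebraicClosure K)))
    (isUnit_iff_ne_zero.mpr hne))

variable {E : Type u} [AddCommGroup E] [Module A E] [Module.Finite A E]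

lemma aeval_baseChange (B : Type u) [CommRing B] [Algebra A B] (u : E →ₗ[A] E) (p : A[X]) :
    aeval (u.baseChange B) (p.map (algebraMap A B)) = (aeval u p).baseChange B := by
  rw [aeval_map_algebraMap]
  exact aeval_algHom_apply (Module.End.baseChangeHom A B E) u p

lemma charpoly_baseChange_coeff_isIntegral (u : E →ₗ[A] E) (i : ℕ) :
    IsIntegral A ((u.baseChange K).charpoly.coeff i) := by
  classical
  obtain ⟨p, hp, hpu⟩ := Module.End.isIntegral (R := A) (M := E) |>.1 u
  let b := Module.Free.chooseBasis K (K ⊗[A] E)
  rw [LinearMap.charpoly_def]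
  refine matrix_charpoly_coeff_isIntegral _ p hp ?_ i
  have h0 : aeval (u.baseChange K) (p.map (algebraMap A K)) = 0 := by
    rw [aeval_baseChange, show aeval u p = 0 from hpu, LinearMap.baseChange_zero]
  have := congrArg (LinearMap.toMatrixAlgEquiv b) h0
  rw [← aeval_algHom_apply, map_zero] at this
  exact this

lemma det_baseChange_isIntegral (u : E →ₗ[A] E) :
    IsIntegral A (LinearMap.det (u.baseChange K)) := by
  rw [LinearMap.det_eq_sign_charpoly_coeff]
  exact ((isIntegral_one.neg).pow _).mul (charpoly_baseChange_coeff_isIntegral u 0)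

lemma isUnit_of_bijective [IsDomain A] [IsFractionRing A K] (u : E →ₗ[A] E)
    (a : A) (ha : algebraMap A K a = LinearMap.det (u.baseChange K)) (hu : Function.Bijective u) :
    IsUnit a := by
  let e := LinearEquiv.ofBijective u hu
  have hmul : LinearMap.det (u.baseChange K) *
      LinearMap.det (e.symm.toLinearMap.baseChange K) = 1 := by
    rw [← map_mul, Module.End.mul_eq_comp, ← LinearMap.baseChange_comp,
      show u ∘ₗ e.symm.toLinearMap = LinearMap.id from LinearMap.ext e.apply_symm_apply,
      LinearMap.baseChange_id, ← Module.End.one_eq_id, map_one]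
  rw [← ha] at hmul
  obtain ⟨q, hq, hq0⟩ := det_baseChange_isIntegral (K := K) e.symm.toLinearMap
  set b := LinearMap.det (e.symm.toLinearMap.baseChange K)
  refine IsUnit.of_mul_eq_one (-(∑ i ∈ Finset.range q.natDegree,
    q.coeff i * a ^ (q.natDegree - 1 - i))) (IsFractionRing.injective A K ?_)
  have h1 : algebraMap A K a ^ q.natDegree * b ^ q.natDegree = 1 := by
    rw [← mul_pow, hmul, one_pow]
  rw [eval₂_eq_sum_range, Finset.sum_range_succ, hq.coeff_natDegree, map_one, one_mul] at hq0
  simp only [mul_neg, map_neg, map_mul, map_sum, map_pow, map_one, Finset.mul_sum]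
  rw [← h1, neg_eq_iff_eq_neg, ← mul_neg, ← eq_neg_of_add_eq_zero_left hq0, Finset.mul_sum]
  refine Finset.sum_congr rfl fun i hi => ?_
  rw [Finset.mem_range] at hi
  calc algebraMap A K a * (algebraMap A K (q.coeff i) * algebraMap A K a ^ (q.natDegree - 1 - i))
      = algebraMap A K (q.coeff i) * algebraMap A K a ^ (q.natDegree - i) := by
        rw [show q.natDegree - i = q.natDegree - 1 - i + 1 by omega, pow_succ]; ring
    _ = algebraMap A K a ^ q.natDegree * (algebraMap A K (q.coeff i) * b ^ i) := by
        calc _ = algebraMap A K (q.coeff i) * algebraMap A K a ^ (q.natDegree - i) *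
              (algebraMap A K a * b) ^ i := by rw [hmul, one_pow, mul_one]
          _ = algebraMap A K (q.coeff i) * (algebraMap A K a ^ (q.natDegree - i) *
              algebraMap A K a ^ i) * b ^ i := by rw [mul_pow]; ring
          _ = _ := by rw [← pow_add, Nat.sub_add_cancel hi.le]; ring

lemma bijective_of_isUnit_det [IsDomain A] [IsFractionRing A K] [Module.IsTorsionFree A E]
    (u : E →ₗ[A] E) (hcoeff : ∀ i : ℕ, (u.baseChange K).charpoly.coeff i ∈ (algebraMap A K).range)
    (a : A) (ha : algebraMap A K a = LinearMap.det (u.baseChange K)) (hunit : IsUnit a) :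
    Function.Bijective u := by
  have hinj : Function.Injective (TensorProduct.mk A K E 1) :=
    (IsLocalizedModule.injective_iff_isRegular (nonZeroDivisors A) _).mpr fun c =>
      (isRegular_iff_mem_nonZeroDivisors.mpr c.2).isSMulRegular
  obtain ⟨p, hp, -, -⟩ := lifts_and_degree_eq_and_monic
    ((lifts_iff_coeff_lifts _).mpr hcoeff) (u.baseChange K).charpoly_monic
  have hpu : aeval u p = 0 := by
    refine LinearMap.ext fun x => hinj ?_
    have h0 := aeval_baseChange K u p
    rw [hp, LinearMap.aeval_self_charpoly] at h0
    simpa using (LinearMap.congr_fun h0 (1 ⊗ₜ x)).symm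
  have hc : IsUnit (p.coeff 0) := by
    have h1 : algebraMap A K (p.coeff 0) =
        algebraMap A K ((-1) ^ (u.baseChange K).charpoly.natDegree * a) := by
      rw [map_mul, map_pow, map_neg, map_one, ha, LinearMap.det_eq_sign_charpoly_coeff,
        LinearMap.charpoly_natDegree, ← mul_assoc, ← pow_add, ← two_mul, pow_mul, neg_one_sq,
        one_pow, one_mul, ← hp, coeff_map]
    rw [IsFractionRing.injective A K h1]
    exact (isUnit_one.neg.pow _).mul hunit
  have hunitu : IsUnit u := by
    have h2 : u * aeval u (p.divX) = algebraMap A (Module.End A E) (-p.coeff 0) := by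
      rw [map_neg, ← add_eq_zero_iff_eq_neg]
      calc u * aeval u p.divX + algebraMap A _ (p.coeff 0)
          = aeval u (X * p.divX + C (p.coeff 0)) := by rw [map_add, map_mul, aeval_X, aeval_C]
        _ = 0 := by rw [X_mul_divX_add, hpu]
    have h3 := hc.neg.map (algebraMap A (Module.End A E))
    rw [← h2] at h3
    have hcomm : Commute u (aeval u p.divX) := by
      have := (Commute.all (X : A[X]) p.divX).map (aeval u)
      rwa [aeval_X] at this
    exact (hcomm.isUnit_mul_iff.mp h3).1
  exact (Module.End.isUnit_iff _).mp hunitu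

end Groth.Agent.ProjLib
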