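import Groth.Agent.ProjLib.MapLocal
import Mathlib.RingTheory.GradedAlgebra.Basic

/-!
# The map `Proj S → Proj (S♮ ⊗_S S₀)`

`natTensor_surjective`, `natTensor_isNilpotent`, `natTensor_injective_of_gen`, `map_isIso_of_eventually`.
-/

set_option linter.unusedSectionVars false

namespace Groth.Agent.ProjLib

open DirectSum HomogeneousIdeal AlgebraicGeometry CategoryTheory HomogeneousLocalization

universe u

section Eventually

variable {σ A : Type u} [CommRing A] [SetLike σ A] [AddSubgroupClass σ A] {𝒜 : ℕ → σ}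
  [GradedRing 𝒜] {τ B : Type u} [CommRing B] [SetLike τ B] [AddSubgroupClass τ B]
  {ℬ : ℕ → τ} [GradedRing ℬ] (φ : 𝒜 →+*ᵍ ℬ) (hφ : irrelevant ℬ ≤ (irrelevant 𝒜).map φ)

lemma away_map_injective_of_eventually {d : ℕ} (hd : 0 < d) {s : A} (hs : s ∈ 𝒜 d) (n₀ : ℕ)
    (h : ∀ n : ℕ, n₀ ≤ n → ∀ a ∈ 𝒜 n, φ a = 0 → a = 0) :
    Function.Injective (Away.map φ s : Away 𝒜 s →+* Away ℬ (φ s)) := by
  refine (injective_iff_map_eq_zero _).mpr fun y hy => away_eq_zero_of_forall 𝒜 hs y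
    fun n a ha hya => ?_
  rw [hya, Away.map_mk φ s hs, away_mk_eq_zero_iff] at hy
  obtain ⟨k, hk⟩ := hy
  refine ⟨n₀ + k, h ((n₀ + k) * d + n * d) ?_ _ ?_ ?_⟩
  · calc n₀ ≤ n₀ * d := Nat.le_mul_of_pos_right _ hd
      _ ≤ (n₀ + k) * d + n * d := by
        rw [Nat.add_mul]
        omega
  · have := SetLike.mul_mem_graded (SetLike.pow_mem_graded (n₀ + k) hs) ha
    simpa using this
  · rw [map_mul, map_pow, pow_add, mul_assoc, hk, mul_zero]

set_option backward.isDefEq.respectTransparency.types false in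
/-- A surjective graded map which is injective in high degrees induces an isomorphism on `Proj`. -/
lemma map_isIso_of_eventually (hsurj : Function.Surjective φ) (n₀ : ℕ)
    (h : ∀ n : ℕ, n₀ ≤ n → ∀ a ∈ 𝒜 n, φ a = 0 → a = 0) : IsIso (Proj.map φ hφ) := by
  refine map_property φ hφ (P := MorphismProperty.isomorphisms Scheme) fun _ s hd hs => ?_
  have : IsIso (CommRingCat.ofHom (Away.map φ s : Away 𝒜 s →+* Away ℬ (φ s))) := by
    rw [ConcreteCategory.isIso_iff_bijective]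
    exact ⟨away_map_injective_of_eventually φ hd hs n₀ h,
      away_map_surjective φ hd hs fun n _ b hb => exists_preimage_homogeneous φ hsurj n hb⟩
  exact inferInstanceAs (IsIso (Spec.map _))

end Eventually

section NatTensor

variable {R A B C : Type u} [CommRing R] [CommRing A] [Algebra R A]
  (𝒜 : ℕ → Submodule R A) [GradedAlgebra 𝒜] [CommRing B] [Algebra R B]
  (ℬ : ℕ → Submodule R B) [GradedAlgebra ℬ]
  [CommRing C] [Algebra R C] (𝒞 : ℕ → Submodule R C) [GradedAlgebra 𝒞]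

/-- `S_[n] = ⊕_{m ≥ n} S_m`. -/
abbrev degGE (n : ℕ) : Submodule R A := ⨆ (m : ℕ) (_ : n ≤ m), 𝒜 m

lemma mem_degGE_of_mem {n m : ℕ} (h : n ≤ m) {a : A} (ha : a ∈ 𝒜 m) : a ∈ degGE 𝒜 n :=
  Submodule.mem_iSup_of_mem m (Submodule.mem_iSup_of_mem h ha)

lemma decompose_eq_zero_of_mem_degGE {n i : ℕ} (hi : i < n) {a : A} (ha : a ∈ degGE 𝒜 n) :
    GradedRing.proj 𝒜 i a = 0 := by
  have : degGE 𝒜 n ≤ LinearMap.ker
      ((𝒜 i).subtype.comp ((DirectSum.component R ℕ _ i).comp (decomposeLinearEquiv 𝒜).toLinearMap)) :=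
    iSup₂_le fun m hm x hx => by
      change ((decompose 𝒜 x i : 𝒜 i) : A) = 0
      exact decompose_of_mem_ne 𝒜 hx (by omega)
  exact this ha

lemma mem_degGE_iff {n : ℕ} {a : A} : a ∈ degGE 𝒜 n ↔ ∀ i < n, GradedRing.proj 𝒜 i a = 0 := by
  classical
  refine ⟨fun ha i hi => decompose_eq_zero_of_mem_degGE 𝒜 hi ha, fun h => ?_⟩
  rw [← sum_support_decompose 𝒜 a]
  refine Submodule.sum_mem _ fun i hi => mem_degGE_of_mem 𝒜 ?_ (decompose 𝒜 a i).2
  by_contra hlt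
  rw [DFinsupp.mem_support_iff] at hi
  exact hi (Subtype.ext (h i (by omega)))

lemma mem_degGE_succ {n : ℕ} {a : A} (ha : a ∈ degGE 𝒜 n) (h0 : GradedRing.proj 𝒜 n a = 0) :
    a ∈ degGE 𝒜 (n + 1) := by
  rw [mem_degGE_iff] at ha ⊢
  intro i hi
  rcases Nat.lt_succ_iff_lt_or_eq.mp hi with h | rfl
  exacts [ha i h, h0]

lemma mul_mem_degGE {n m : ℕ} {a b : A} (ha : a ∈ degGE 𝒜 n) (hb : b ∈ degGE 𝒜 m) :
    a * b ∈ degGE 𝒜 (n + m) := by
  have : degGE 𝒜 n * degGE 𝒜 m ≤ degGE 𝒜 (n + m) := by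
    simp only [degGE, Submodule.iSup_mul, Submodule.mul_iSup, iSup_le_iff]
    exact fun i hi j hj => Submodule.mul_le.mpr fun x hx y hy =>
      mem_degGE_of_mem 𝒜 (by omega) (SetLike.mul_mem_graded hx hy)
  exact this (Submodule.mul_mem_mul ha hb)

lemma pow_mem_degGE {n : ℕ} {a : A} (ha : a ∈ degGE 𝒜 n) : ∀ k, a ^ k ∈ degGE 𝒜 (k * n)
  | 0 => by
    rw [pow_zero, Nat.zero_mul]
    exact mem_degGE_of_mem 𝒜 le_rfl SetLike.GradedOne.one_mem
  | k + 1 => by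
    rw [pow_succ, Nat.succ_mul]
    exact mul_mem_degGE 𝒜 (pow_mem_degGE ha k) ha

lemma mem_irrelevant_of_mem_degGE {n : ℕ} (hn : 0 < n) {a : A} (ha : a ∈ degGE 𝒜 n) :
    a ∈ (irrelevant 𝒜).toIdeal :=
  decompose_eq_zero_of_mem_degGE 𝒜 hn ha

variable (φ : B →ₐ[R] Polynomial A) (hφ : Function.Injective φ)
  (hdeg : ∀ n : ℕ, Submodule.map φ.toLinearMap (ℬ n) =
    Submodule.map ((Polynomial.monomial n : A →ₗ[A] Polynomial A).restrictScalars R) (degGE 𝒜 n))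
  (π : ℬ →+*ᵍ 𝒞) (hπ : Function.Surjective π)
  (hker : RingHom.ker π.toRingHom =
    Ideal.span (⇑φ ⁻¹' (⇑(Polynomial.C : A →+* Polynomial A) '' ((irrelevant 𝒜).toIdeal : Set A))))
  (ρ : 𝒞 →+*ᵍ 𝒜) (hρ : ∀ (n : ℕ) (b : B), b ∈ ℬ n → ρ (π b) = GradedRing.proj 𝒜 n ((φ b).coeff n))

include hdeg in
lemma exists_monomial_preimage {n : ℕ} {a : A} (ha : a ∈ degGE 𝒜 n) :
    ∃ b ∈ ℬ n, φ b = Polynomial.monomial n a := by
  have : Polynomial.monomial n a ∈ Submodule.map φ.toLinearMap (ℬ n) := by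
    rw [hdeg]; exact ⟨a, ha, rfl⟩
  exact this

include hdeg in
lemma exists_eq_monomial {n : ℕ} {b : B} (hb : b ∈ ℬ n) :
    ∃ a ∈ degGE 𝒜 n, φ b = Polynomial.monomial n a := by
  have : φ b ∈ Submodule.map ((Polynomial.monomial n : A →ₗ[A] Polynomial A).restrictScalars R) (degGE 𝒜 n) := by
    rw [← hdeg]; exact ⟨b, hb, rfl⟩
  obtain ⟨a, ha, e⟩ := this
  exact ⟨a, ha, e.symm⟩

include hdeg hρ in
lemma natTensor_surjective : Function.Surjective ρ := by
  classical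
  intro a
  have hz : ∀ (n : ℕ) (x : A), x ∈ 𝒜 n → ∃ c, ρ c = x := fun n x hx => by
    obtain ⟨b, hb, e⟩ := exists_monomial_preimage 𝒜 ℬ φ hdeg (mem_degGE_of_mem 𝒜 (le_refl n) hx)
    refine ⟨π b, ?_⟩
    rw [hρ n b hb, e, Polynomial.coeff_monomial_same]
    exact decompose_of_mem_same 𝒜 hx
  have hS : a ∈ ρ.toRingHom.range := by
    rw [← sum_support_decompose 𝒜 a]
    exact Subring.sum_mem _ fun i _ => hz i _ (decompose 𝒜 a i).2
  exact hS

include hdeg hπ hρ in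
/-- A homogeneous element of the kernel of `ρ` comes from `S_[n+1] X^n`. -/
lemma exists_of_mem_ker {n : ℕ} {c : C} (hc : c ∈ 𝒞 n) (h0 : ρ c = 0) :
    ∃ b : B, π b = c ∧ ∃ a ∈ degGE 𝒜 (n + 1), φ b = Polynomial.monomial n a := by
  obtain ⟨b, hb, rfl⟩ := exists_preimage_homogeneous π hπ n hc
  obtain ⟨a, ha, e⟩ := exists_eq_monomial 𝒜 ℬ φ hdeg hb
  rw [hρ n b hb, e, Polynomial.coeff_monomial_same] at h0
  exact ⟨b, rfl, a, mem_degGE_succ 𝒜 ha h0, e⟩

include hdeg hφ hker in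
lemma apply_eq_zero_of_monomial_mul {n : ℕ} {b : B} {x y : A} (hx : x ∈ (irrelevant 𝒜).toIdeal)
    (hy : y ∈ degGE 𝒜 n) (e : φ b = Polynomial.monomial n (x * y)) : π b = 0 := by
  classical
  have hx0 : x ∈ degGE 𝒜 0 := (mem_degGE_iff 𝒜).mpr fun i hi => absurd hi (Nat.not_lt_zero i)
  obtain ⟨b₀, -, e₀⟩ := exists_monomial_preimage 𝒜 ℬ φ hdeg hx0
  obtain ⟨b₁, -, e₁⟩ := exists_monomial_preimage 𝒜 ℬ φ hdeg hy
  have hb : b = b₀ * b₁ := hφ (by rw [map_mul, e, e₀, e₁, Polynomial.monomial_mul_monomial, Nat.zero_add])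
  have hb0 : b₀ ∈ RingHom.ker π.toRingHom := by
    rw [hker]
    exact Ideal.subset_span ⟨x, hx, (e₀.trans (Polynomial.monomial_zero_left (a := x))).symm⟩
  change π.toRingHom b = 0
  rw [hb, map_mul, RingHom.mem_ker.mp hb0, zero_mul]

include hdeg hφ hker hπ hρ in
lemma natTensor_isNilpotent {c : C} (h0 : ρ c = 0) : IsNilpotent c := by
  classical
  rw [← sum_support_decompose 𝒞 c]
  refine isNilpotent_sum fun n _ => ?_
  have hn : ρ (decompose 𝒞 c n : C) = 0 := by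
    rw [GradedRingHom.map_directSumDecompose (𝒜 := 𝒞) (ℬ := 𝒜) ρ (x := c) (i := n), h0, decompose_zero]
    rfl
  obtain ⟨b, hb, a, ha, e⟩ := exists_of_mem_ker 𝒜 ℬ 𝒞 φ hdeg π hπ ρ hρ (decompose 𝒞 c n).2 hn
  refine ⟨n + 1, ?_⟩
  rw [← hb, ← map_pow]
  refine apply_eq_zero_of_monomial_mul 𝒜 ℬ 𝒞 φ hφ hdeg π hker (n := n * (n + 1)) (x := a) (y := a ^ n)
    (mem_irrelevant_of_mem_degGE 𝒜 n.succ_pos ha) (pow_mem_degGE 𝒜 ha n) ?_
  rw [map_pow, e, Polynomial.monomial_pow, ← pow_succ']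

include hdeg hφ hker hπ hρ in
lemma natTensor_injective_of_gen {n₀ : ℕ} (hgen : ∀ n : ℕ, n₀ ≤ n → 𝒜 (n + 1) = 𝒜 1 * 𝒜 n)
    {n : ℕ} (hn : n₀ ≤ n) {c : C} (hc : c ∈ 𝒞 n) (h0 : ρ c = 0) : c = 0 := by
  obtain ⟨b, rfl, a, ha, e⟩ := exists_of_mem_ker 𝒜 ℬ 𝒞 φ hdeg π hπ ρ hρ hc h0
  let P : A → Prop := fun a => ∀ b : B, φ b = Polynomial.monomial n a → π b = 0
  have hP0 : P 0 := fun b e => by
    rw [show b = 0 from hφ (by rw [e, map_zero, map_zero]), map_zero]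
  have hPadd : ∀ x y, x ∈ degGE 𝒜 n → P x → P y → P (x + y) := fun x y hx hPx hPy b e => by
    obtain ⟨bx, -, ex⟩ := exists_monomial_preimage 𝒜 ℬ φ hdeg hx
    have : π (b - bx) = 0 := hPy _ (by rw [map_sub, e, ex, map_add, add_sub_cancel_left])
    rwa [map_sub, hPx bx ex, sub_zero] at this
  suffices degGE 𝒜 (n + 1) ≤ ({ carrier := {a | a ∈ degGE 𝒜 n ∧ P a}
                                zero_mem' := ⟨zero_mem _, hP0⟩
                                add_mem' := fun hx hy => ⟨add_mem hx.1 hy.1, hPadd _ _ hx.1 hx.2 hy.2⟩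
                                smul_mem' := fun r x hx => ⟨Submodule.smul_mem _ r hx.1, fun b e => by
                                  obtain ⟨bx, -, ex⟩ := exists_monomial_preimage 𝒜 ℬ φ hdeg hx.1
                                  rw [show b = algebraMap R B r * bx from hφ (by
                                    rw [e, map_mul, ex, AlgHom.commutes, ← Algebra.smul_def]
                                    exact ((Polynomial.monomial n).restrictScalars R).map_smul r x)]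
                                  change π.toRingHom _ = 0
                                  rw [map_mul, show π.toRingHom bx = 0 from hx.2 bx ex, mul_zero]⟩ } : Submodule R A) from
    (this ha).2 b e
  refine iSup₂_le fun m hm => ?_
  obtain ⟨k, rfl⟩ : ∃ k, m = k + 1 := ⟨m - 1, by omega⟩
  rw [hgen k (by omega), Submodule.mul_le]
  intro x hx y hy
  have hy' : y ∈ degGE 𝒜 n := mem_degGE_of_mem 𝒜 (by omega) hy
  refine ⟨?_, fun b e => apply_eq_zero_of_monomial_mul 𝒜 ℬ 𝒞 φ hφ hdeg π hker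
    (mem_irrelevant_of_mem_degGE 𝒜 one_pos (mem_degGE_of_mem 𝒜 le_rfl hx)) hy' e⟩
  exact mem_degGE_of_mem 𝒜 (by omega : n ≤ 1 + k) (SetLike.mul_mem_graded hx hy)

end NatTensor

end Groth.Agent.ProjLib
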