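import Groth.Agent.ProjLib.BaseChange
import Groth.Agent.ProjLib.RelProjBasics

/-!
# Base change of `Proj` for gradings by subgroups
-/

set_option linter.unusedSectionVars false

namespace Groth.Agent.ProjLib

open DirectSum AlgebraicGeometry CategoryTheory CategoryTheory.Limits

universe u

section reGrade

variable {R A : Type u} [CommRing R] [CommRing A] [Algebra R A] {σ : Type u} [SetLike σ A]
  [AddSubgroupClass σ A] (𝒜 : ℕ → σ) [GradedRing 𝒜] (h0 : ∀ x : R, algebraMap R A x ∈ 𝒜 0)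

/-- A grading by subgroups as a grading by submodules over a ring mapping to degree zero. -/
def subGrading (m : ℕ) : Submodule R A where
  carrier := 𝒜 m
  add_mem' := add_mem
  zero_mem' := zero_mem _
  smul_mem' c x hx := by
    change c • x ∈ 𝒜 m
    rw [Algebra.smul_def]
    simpa using SetLike.mul_mem_graded (A := 𝒜) (h0 c) hx

instance subGradedAlgebra : GradedAlgebra (subGrading 𝒜 h0) where
  one_mem := SetLike.GradedOne.one_mem (A := 𝒜)
  mul_mem _ _ _ _ ha hb := SetLike.mul_mem_graded (A := 𝒜) ha hb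
  decompose' := DirectSum.Decomposition.decompose' (ℳ := 𝒜)
  left_inv := DirectSum.Decomposition.left_inv (ℳ := 𝒜)
  right_inv := DirectSum.Decomposition.right_inv (ℳ := 𝒜)

/-- The identity, towards the submodule grading. -/
def toSub : 𝒜 →+*ᵍ subGrading 𝒜 h0 := { RingHom.id A with map_mem := id }

/-- The identity, from the submodule grading. -/
def fromSub : subGrading 𝒜 h0 →+*ᵍ 𝒜 := { RingHom.id A with map_mem := id }

lemma toSub_irrelevant :
    HomogeneousIdeal.irrelevant (subGrading 𝒜 h0) ≤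
      (HomogeneousIdeal.irrelevant 𝒜).map (toSub 𝒜 h0) := by
  rw [HomogeneousIdeal.irrelevant_le]
  intro i hi x hx
  exact Ideal.mem_map_of_mem (RingHom.id A)
    (HomogeneousIdeal.mem_irrelevant_of_mem 𝒜 hi hx)

lemma fromSub_irrelevant :
    HomogeneousIdeal.irrelevant 𝒜 ≤
      (HomogeneousIdeal.irrelevant (subGrading 𝒜 h0)).map (fromSub 𝒜 h0) := by
  rw [HomogeneousIdeal.irrelevant_le]
  intro i hi x hx
  exact Ideal.mem_map_of_mem (RingHom.id A)
    (HomogeneousIdeal.mem_irrelevant_of_mem (subGrading 𝒜 h0) hi hx)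

/-- `Proj` does not see the change of the grading type. -/
noncomputable def projSubIso : Proj 𝒜 ≅ Proj (subGrading 𝒜 h0) where
  hom := Proj.map (fromSub 𝒜 h0) (fromSub_irrelevant 𝒜 h0)
  inv := Proj.map (toSub 𝒜 h0) (toSub_irrelevant 𝒜 h0)
  hom_inv_id := by
    rw [← Proj.map_comp]
    exact (projMap_congr (ψ := GradedRingHom.id 𝒜) (GradedRingHom.ext fun _ => rfl) _).trans
      Proj.map_id
  inv_hom_id := by
    rw [← Proj.map_comp]
    exact (projMap_congr (ψ := GradedRingHom.id (subGrading 𝒜 h0))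
      (GradedRingHom.ext fun _ => rfl) _).trans Proj.map_id

end reGrade

variable {R R' A B : Type u} [CommRing R] [CommRing R'] [CommRing A] [CommRing B] {σ τ : Type u}
  [SetLike σ A] [AddSubgroupClass σ A] {𝒜 : ℕ → σ} [GradedRing 𝒜]
  [SetLike τ B] [AddSubgroupClass τ B] {ℬ : ℕ → τ} [GradedRing ℬ]

lemma map_isPullback_of_isPushout (φ : ℬ →+*ᵍ 𝒜)
    (hφ : HomogeneousIdeal.irrelevant 𝒜 ≤ (HomogeneousIdeal.irrelevant ℬ).map φ)
    (ρ : R' →+* R) (rA : R →+* 𝒜 0) (rB : R' →+* ℬ 0)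
    (hpo : IsPushout (CommRingCat.ofHom ρ) (CommRingCat.ofHom ((algebraMap (ℬ 0) B).comp rB))
      (CommRingCat.ofHom ((algebraMap (𝒜 0) A).comp rA)) (CommRingCat.ofHom (φ : B →+* A))) :
    IsPullback (Proj.map φ hφ) (Proj.toSpecZero 𝒜 ≫ Spec.map (CommRingCat.ofHom rA))
      (Proj.toSpecZero ℬ ≫ Spec.map (CommRingCat.ofHom rB)) (Spec.map (CommRingCat.ofHom ρ)) := by
  let := ρ.toAlgebra
  let : Algebra R A := ((algebraMap (𝒜 0) A).comp rA).toAlgebra
  let : Algebra R' B := ((algebraMap (ℬ 0) B).comp rB).toAlgebra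
  let : Algebra B A := (φ : B →+* A).toAlgebra
  let : Algebra R' A := (((algebraMap (𝒜 0) A).comp rA).comp ρ).toAlgebra
  have : IsScalarTower R' R A := IsScalarTower.of_algebraMap_eq fun _ => rfl
  have : IsScalarTower R' B A := IsScalarTower.of_algebraMap_eq fun x => by
    exact ConcreteCategory.congr_hom hpo.w x
  have : Algebra.IsPushout R' R B A := CommRingCat.isPushout_iff_isPushout.mp hpo
  have hA : ∀ x : R, algebraMap R A x ∈ 𝒜 0 := fun x => (rA x).2
  have hB : ∀ x : R', algebraMap R' B x ∈ ℬ 0 := fun x => (rB x).2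
  let φ' : subGrading ℬ hB →+*ᵍ subGrading 𝒜 hA :=
    { (φ : B →+* A) with map_mem := fun hx => φ.map_mem hx }
  have hφ' : HomogeneousIdeal.irrelevant (subGrading 𝒜 hA) ≤
      (HomogeneousIdeal.irrelevant (subGrading ℬ hB)).map φ' :=
    fun x hx => hφ hx
  have h := map_isPullback (R := R) (R' := R') φ' (fun b => rfl) hφ'
  have hsA : Proj.toSpecZero 𝒜 ≫ Spec.map (CommRingCat.ofHom rA) =
      (projSubIso 𝒜 hA).hom ≫ Proj.toSpecZero (subGrading 𝒜 hA) ≫
        Spec.map (CommRingCat.ofHom (algebraMap R (subGrading 𝒜 hA 0))) := by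
    change _ = Proj.map _ _ ≫ _
    rw [← Category.assoc (Proj.map _ _), map_toSpecZero, Category.assoc, ← Spec.map_comp]
    rfl
  have hsB : Proj.toSpecZero ℬ ≫ Spec.map (CommRingCat.ofHom rB) =
      (projSubIso ℬ hB).hom ≫ Proj.toSpecZero (subGrading ℬ hB) ≫
        Spec.map (CommRingCat.ofHom (algebraMap R' (subGrading ℬ hB 0))) := by
    change _ = Proj.map _ _ ≫ _
    rw [← Category.assoc (Proj.map _ _), map_toSpecZero, Category.assoc, ← Spec.map_comp]
    rfl
  refine IsPullback.of_iso h (projSubIso 𝒜 hA).symm (projSubIso ℬ hB).symm (Iso.refl _)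
    (Iso.refl _) ?_ ?_ ?_ ?_
  · change Proj.map φ' hφ' ≫ Proj.map _ _ = Proj.map _ _ ≫ Proj.map φ hφ
    rw [← Proj.map_comp, ← Proj.map_comp]
    exact projMap_congr (GradedRingHom.ext fun _ => rfl) _
  · rw [Iso.refl_hom, Category.comp_id, Iso.symm_hom, hsA, Iso.inv_hom_id_assoc]
  · rw [Iso.refl_hom, Category.comp_id, Iso.symm_hom, hsB, Iso.inv_hom_id_assoc]
  · simp only [Iso.refl_hom, Category.comp_id, Category.id_comp]

end Groth.Agent.ProjLib
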