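import Groth.Agent.ProjLib.SpecLocus
import Groth.Agent.ProjLib.GradedGen
import Mathlib.AlgebraicGeometry.ProjectiveSpectrum.Functor
import Mathlib.Algebra.Polynomial.Eval.Coeff
import Mathlib.RingTheory.Polynomial.Basic
import Mathlib.Algebra.Module.LocalizedModule.Basic

/-!
# Point level facts: infinity of a projective cone, torsion sections
-/

namespace Groth.Agent.ProjLib

open DirectSum HomogeneousIdeal AlgebraicGeometry

universe u

variable {R A : Type u} [CommRing R] [CommRing A] [Algebra R A] {𝒜 : ℕ → Submodule R A}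
  [GradedAlgebra 𝒜] {B : Type u} [CommRing B] [Algebra R B] {ℬ : ℕ → Submodule R B}
  [GradedAlgebra ℬ] [Algebra A B]

lemma range_map_retraction (φ : 𝒜 →+*ᵍ ℬ) (hφ : ∀ a : A, φ a = algebraMap A B a)
    (z : B) (hhat : Function.Bijective (Polynomial.aeval (R := A) z))
    (ψ : ℬ →+*ᵍ 𝒜) (hψφ : ∀ a : A, ψ (φ a) = a) (hψz : ψ z = 0)
    (hψ : HomogeneousIdeal.irrelevant 𝒜 ≤ (HomogeneousIdeal.irrelevant ℬ).map ψ) :
    Set.range (Proj.map ψ hψ).base = ((Proj.basicOpen ℬ z : Set (Proj ℬ)))ᶜ := by
  classical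
  ext q
  constructor
  · rintro ⟨x, rfl⟩ hx
    refine hx ?_
    change ψ z ∈ x.asHomogeneousIdeal.toIdeal
    rw [hψz]
    exact zero_mem _
  · intro hq
    replace hq : z ∈ q.asHomogeneousIdeal.toIdeal := Classical.not_not.mp hq
    have key : ∀ b : B, b - φ (ψ b) ∈ q.asHomogeneousIdeal.toIdeal := by
      intro b
      obtain ⟨P, rfl⟩ := hhat.2 b
      induction P using Polynomial.induction_on' with
      | add P Q hP hQ =>
        rw [map_add, map_add, map_add, add_sub_add_comm]
        exact add_mem hP hQ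
      | monomial n a =>
        rw [Polynomial.aeval_monomial, map_mul, map_pow, hψz, ← hφ, hψφ]
        cases n with
        | zero => simp
        | succ n =>
          rw [zero_pow (Nat.succ_ne_zero n), mul_zero, map_zero, sub_zero]
          exact Ideal.mul_mem_left _ _ (Ideal.pow_mem_of_mem _ hq _ (Nat.succ_pos n))
    have hmem : ∀ b : B, φ (ψ b) ∈ q.asHomogeneousIdeal.toIdeal ↔ b ∈ q.asHomogeneousIdeal.toIdeal := by
      refine fun b => ⟨fun h => ?_, fun h => ?_⟩
      · have := add_mem (key b) h; rwa [sub_add_cancel] at this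
      · have := sub_mem h (key b); rwa [sub_sub_cancel] at this
    let p : HomogeneousIdeal 𝒜 := ⟨q.asHomogeneousIdeal.toIdeal.comap φ, fun i a ha => by
      rw [Ideal.mem_comap] at ha ⊢
      rw [GradedRingHom.map_directSumDecompose]
      exact q.asHomogeneousIdeal.isHomogeneous i ha⟩
    have hp : p.toIdeal.IsPrime := Ideal.IsPrime.comap _ (hK := q.isPrime)
    have hni : ¬ HomogeneousIdeal.irrelevant 𝒜 ≤ p := by
      intro hle
      refine q.not_irrelevant_le ((HomogeneousIdeal.toIdeal_irrelevant_le ℬ).mpr fun i hi b hb => ?_)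
      refine (hmem b).mp (hle (mem_irrelevant_of_pos 𝒜 hi ?_))
      exact (show ψ b ∈ 𝒜 i from ψ.2 hb)
    refine ⟨⟨p, hp, hni⟩, ProjectiveSpectrum.ext (HomogeneousIdeal.toIdeal_injective ?_)⟩
    ext b
    exact hmem b

lemma pow_smul_eq_zero_of_forall {M : Type u} [AddCommGroup M] [Module R M] [Module A M]
    [IsScalarTower R A M] (ℳ : ℕ → Submodule R M) [DirectSum.Decomposition ℳ]
    [SetLike.GradedSMul 𝒜 ℳ] {d : ℕ} (hd : 0 < d) {f : A} (hf : f ∈ 𝒜 d) {i : ℕ} {m : M}
    (hm : m ∈ ℳ i)
    (h : ∀ x : ProjectiveSpectrum 𝒜, f ∉ x.asHomogeneousIdeal.toIdeal →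
      ∃ s ∉ x.asHomogeneousIdeal.toIdeal, s • m = 0) :
    ∃ N : ℕ, f ^ N • m = 0 := by
  classical
  let I : Ideal A :=
    { carrier := {a | a • m = 0}
      add_mem' := fun {a b} ha hb => by
        change (a + b) • m = 0; rw [add_smul, (ha : a • m = 0), (hb : b • m = 0), add_zero]
      zero_mem' := zero_smul A m
      smul_mem' := fun c a ha => by
        change (c • a) • m = 0; rw [smul_eq_mul, mul_smul, (ha : a • m = 0), smul_zero] }
  have hI : I.IsHomogeneous 𝒜 := by
    intro j a ha
    change (decompose 𝒜 a j : A) • m = 0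
    have h1 : ∀ c : A, (decompose ℳ (c • m) (j + i) : M) = (decompose 𝒜 c j : A) • m := by
      intro c
      conv_lhs => rw [← DirectSum.sum_support_decompose 𝒜 c]
      rw [Finset.sum_smul, DirectSum.decompose_sum, DFinsupp.finsetSum_apply, Submodule.coe_sum]
      rw [Finset.sum_eq_single j]
      · rw [DirectSum.decompose_of_mem_same]
        exact SetLike.GradedSMul.smul_mem (decompose 𝒜 c j).2 hm
      · intro k _ hk
        rw [DirectSum.decompose_of_mem_ne ℳ
          (SetLike.GradedSMul.smul_mem (decompose 𝒜 c k).2 hm)]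
        change k + i ≠ j + i
        omega
      · intro hj
        rw [DFinsupp.notMem_support_iff.mp hj]
        simp
    rw [← h1 a, (ha : a • m = 0), DirectSum.decompose_zero]
    rfl
  have : f ∈ I.radical := mem_radical_of_zeroLocus_subset 𝒜 hI (mem_irrelevant_of_pos 𝒜 hd hf)
    fun x hx => by
      by_contra hfx
      obtain ⟨s, hs, hsm⟩ := h x hfx
      exact hs (hx hsm)
  obtain ⟨N, hN⟩ := this
  exact ⟨N, hN⟩

end Groth.Agent.ProjLib
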