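import Groth.Agent.ProjLib.GradedGen
import Mathlib.Algebra.DirectSum.Internal
import Mathlib.Algebra.Module.Submodule.Lattice

/-!
# Gradings by additive subgroups: a common Veronese degree
-/

namespace Groth.Agent.ProjLib

open DirectSum

universe u

variable {A : Type u} [CommRing A] (𝒢 : ℕ → AddSubgroup A) [GradedRing 𝒢]

/-- A grading by additive subgroups as a grading by `ℤ`-submodules. -/
abbrev intDeg (n : ℕ) : Submodule ℤ A := AddSubgroup.toIntSubmodule (𝒢 n)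

@[reducible] noncomputable def intGradedAlgebra : GradedAlgebra (intDeg 𝒢) where
  one_mem := SetLike.GradedOne.one_mem (A := 𝒢)
  mul_mem _ _ _ _ hi hj := SetLike.GradedMul.mul_mem (A := 𝒢) hi hj
  decompose' := decompose 𝒢
  left_inv := (decompose 𝒢).symm_apply_apply
  right_inv := (decompose 𝒢).apply_symm_apply

lemma exists_pow_deg_eq_int [Algebra.FiniteType (𝒢 0) A] :
    ∃ h : ℕ, 0 < h ∧ (∀ m : ℕ, 0 < m → intDeg 𝒢 (m * h) = intDeg 𝒢 h ^ m) ∧
      ∀ n : ℕ, ∃ T : Finset A, (T : Set A) ⊆ (𝒢 n : Set A) ∧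
        intDeg 𝒢 n = intDeg 𝒢 0 * Submodule.span ℤ (T : Set A) := by
  classical
  let _ := intGradedAlgebra 𝒢
  haveI : Algebra.FiniteType (intDeg 𝒢 0) A := ‹Algebra.FiniteType (𝒢 0) A›
  obtain ⟨h, hh, hp⟩ := exists_pow_degree_eq (intDeg 𝒢)
  obtain ⟨s, d, hd, hs⟩ := exists_finset_homogeneous_adjoin_eq_top (intDeg 𝒢)
  refine ⟨h, hh, hp, fun n => ?_⟩
  let T : Finset A := ((s.pi fun _ => Finset.range (n + 1)).image
    (fun a => ∏ e ∈ s.attach, (e : A) ^ a e.1 e.2)).filter (· ∈ 𝒢 n)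
  have hT : (T : Set A) ⊆ (𝒢 n : Set A) := fun x hx => (Finset.mem_filter.mp hx).2
  refine ⟨T, hT, le_antisymm (fun x hx => ?_) ?_⟩
  · refine degree_le_of_monomials (intDeg 𝒢) (fun e he => (hd e he).2) hs n
      (intDeg 𝒢 0 * Submodule.span ℤ (T : Set A)).toAddSubmonoid (fun c hc a ha => ?_) x hx
    refine Submodule.mul_mem_mul hc (Submodule.subset_span ?_)
    refine Finset.mem_filter.mpr ⟨Finset.mem_image.mpr ⟨fun e _ => a e, Finset.mem_pi.mpr fun e he =>
      Finset.mem_range_succ_iff.mpr ?_, Finset.prod_attach s (fun e => e ^ a e)⟩, ?_⟩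
    · exact (Nat.le_mul_of_pos_right _ (hd e he).1).trans
        ((Finset.single_le_sum (f := fun e => a e * d e) (fun _ _ => Nat.zero_le _) he).trans ha.le)
    · exact ha ▸ mem_of_prod_pow (intDeg 𝒢) s id d a (fun e he => (hd e he).2)
  · rw [Submodule.mul_le]
    intro c hc y hy
    have hy' : y ∈ intDeg 𝒢 n := (Submodule.span_le.mpr hT) hy
    simpa using SetLike.mul_mem_graded (A := intDeg 𝒢) hc hy'

lemma pow_deg_eq_of_dvd {h d : ℕ} (hd : 0 < d) (hdvd : h ∣ d)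
    (hp : ∀ m : ℕ, 0 < m → intDeg 𝒢 (m * h) = intDeg 𝒢 h ^ m) (n : ℕ) (hn : 0 < n) :
    intDeg 𝒢 (n * d) = intDeg 𝒢 d ^ n := by
  obtain ⟨k, rfl⟩ := hdvd
  have hk : 0 < k := Nat.pos_of_mul_pos_left hd
  rw [show n * (h * k) = (k * n) * h by ring, show h * k = k * h by ring, hp _ (Nat.mul_pos hk hn),
    hp _ hk, pow_mul]

end Groth.Agent.ProjLib
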