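import Groth.Agent.ProjLib.GradedGen
import Mathlib.Algebra.Module.GradedModule
import Mathlib.RingTheory.Finiteness.Basic

/-!
# Graded modules over finitely generated graded rings
-/

set_option linter.unusedSectionVars false

namespace Groth.Agent.ProjLib

open DirectSum HomogeneousIdeal

universe u

variable {R A : Type u} [CommRing R] [CommRing A] [Algebra R A] (𝒜 : ℕ → Submodule R A)
  [GradedAlgebra 𝒜]
variable {M : Type u} [AddCommGroup M] [Module R M] [Module A M] [IsScalarTower R A M]
  (ℳ : ℕ → Submodule R M) [Decomposition ℳ] [SetLike.GradedSMul 𝒜 ℳ]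

lemma decompose_smul_homogeneous {a : A} {e n : ℕ} {m : M} (hm : m ∈ ℳ e) :
    (decompose ℳ (a • m) n : M) =
      if e ≤ n then (decompose 𝒜 a (n - e) : A) • m else 0 := by
  classical
  induction a using DirectSum.Decomposition.inductionOn (ℳ := 𝒜) with
  | zero => simp
  | @homogeneous i b =>
    have hbm : (b : A) • m ∈ ℳ (i + e) := by
      simpa [vadd_eq_add] using SetLike.GradedSMul.smul_mem b.2 hm
    by_cases hn : i + e = n
    · subst hn
      rw [decompose_of_mem_same ℳ hbm, if_pos (by omega)]
      rw [Nat.add_sub_cancel, decompose_of_mem_same 𝒜 b.2]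
    · rw [decompose_of_mem_ne ℳ hbm hn]
      split_ifs with hle
      · rw [decompose_of_mem_ne 𝒜 b.2 (by omega), zero_smul]
      · rfl
  | add a b ha hb =>
    rw [add_smul, decompose_add, DirectSum.add_apply, Submodule.coe_add, ha, hb]
    simp only [decompose_add, DirectSum.add_apply, Submodule.coe_add]
    split_ifs
    · rw [add_smul]
    · rw [add_zero]

lemma exists_smul_degree_eq [Algebra.FiniteType (𝒜 0) A] [Module.Finite A M] :
    ∃ (n₁ h : ℕ), 0 < h ∧ ∀ n : ℕ, n₁ ≤ n →
      ℳ (n + h) = (𝒜 h : Submodule R A) • (ℳ n : Submodule R M) := by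
  classical
  obtain ⟨h, hpos, hh⟩ := exists_mul_degree_eq 𝒜
  obtain ⟨F, hF⟩ := Module.Finite.fg_top (R := A) (M := M)
  let G : Finset (Σ _ : M, ℕ) := F.sigma fun x => (decompose ℳ x).support
  let g : G → M := fun p => decompose ℳ p.1.1 p.1.2
  have hg : ∀ p : G, g p ∈ ℳ p.1.2 := fun p => (decompose ℳ p.1.1 p.1.2).2
  have hspan : Submodule.span A (Set.range g) = ⊤ := by
    rw [_root_.eq_top_iff, ← hF, Submodule.span_le]
    intro x hx
    rw [SetLike.mem_coe, ← sum_support_decompose ℳ x]
    exact sum_mem fun n hn =>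
      Submodule.subset_span ⟨⟨⟨x, n⟩, Finset.mem_sigma.mpr ⟨hx, hn⟩⟩, rfl⟩
  refine ⟨(∑ p : G, p.1.2) + h, h, hpos, fun n hn => le_antisymm ?_ ?_⟩
  · intro x hx
    obtain ⟨c, hc⟩ := (Submodule.mem_span_range_iff_exists_fun A).mp
      (hspan ▸ Submodule.mem_top : x ∈ Submodule.span A (Set.range g))
    rw [← decompose_of_mem_same ℳ hx, ← hc, decompose_sum, DFinsupp.finsetSum_apply,
      AddSubmonoidClass.coe_finsetSum]
    refine sum_mem fun p _ => ?_
    rw [decompose_smul_homogeneous 𝒜 ℳ (hg p)]
    have hp : p.1.2 ≤ ∑ q : G, q.1.2 :=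
      Finset.single_le_sum (f := fun q : G => q.1.2) (fun q _ => Nat.zero_le _) (Finset.mem_univ p)
    split_ifs with hle
    · have hmem := (decompose 𝒜 (c p) (n + h - p.1.2)).2
      generalize (decompose 𝒜 (c p) (n + h - p.1.2) : A) = a at hmem
      rw [show n + h - p.1.2 = (n - p.1.2) + h by omega, hh _ (by omega)] at hmem
      induction hmem using Submodule.mul_induction_on' with
      | mem_mul_mem a ha b hb =>
        rw [mul_smul]
        refine Submodule.smul_mem_smul ha ?_
        have := SetLike.GradedSMul.smul_mem hb (hg p)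
        rwa [vadd_eq_add, show n - p.1.2 + p.1.2 = n by omega] at this
      | add a _ b _ ha hb => rw [add_smul]; exact add_mem ha hb
    · exact zero_mem _
  · rw [Submodule.smul_le]
    intro a ha m hm
    have := SetLike.GradedSMul.smul_mem ha hm
    rwa [vadd_eq_add, add_comm] at this

end Groth.Agent.ProjLib
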