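import Groth.Agent.ProjLib.GradedGen
import Mathlib.Algebra.Algebra.Operations
import Mathlib.Algebra.Polynomial.AlgebraMap

/-!
# The graded algebra `⊕ₙ S₍≥ₙ₎ Xⁿ`
-/

set_option linter.unusedSectionVars false

namespace Groth.Agent.ProjLib

open DirectSum HomogeneousIdeal Polynomial

universe u

variable {R A B : Type u} [CommRing R] [CommRing A] [Algebra R A]
  (𝒜 : ℕ → Submodule R A) [GradedAlgebra 𝒜] [CommRing B] [Algebra R B] (ℬ : ℕ → Submodule R B)
  [GradedAlgebra ℬ]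

/-- `S₍≥ₙ₎`. -/
noncomputable def geSub (n : ℕ) : Submodule R A := ⨆ (m : ℕ) (_ : n ≤ m), 𝒜 m

lemma le_geSub {n m : ℕ} (h : n ≤ m) : 𝒜 m ≤ geSub 𝒜 n := le_iSup₂_of_le m h le_rfl

lemma geSub_mul (i j : ℕ) : geSub 𝒜 i * geSub 𝒜 j ≤ geSub 𝒜 (i + j) := by
  simp only [geSub, Submodule.iSup_mul, Submodule.mul_iSup]
  refine iSup₂_le fun a ha => iSup₂_le fun b hb => ?_
  exact (Submodule.mul_le.mpr fun x hx y hy => le_geSub 𝒜 (by omega)
    (SetLike.mul_mem_graded hx hy))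

lemma decompose_eq_zero_of_geSub {n k : ℕ} {x : A} (hx : x ∈ geSub 𝒜 n) (hk : k < n) :
    (decompose 𝒜 x k : A) = 0 := by
  have : geSub 𝒜 n ≤ LinearMap.ker
      ((DirectSum.component R ℕ (fun i => 𝒜 i) k).comp
        (decomposeLinearEquiv 𝒜).toLinearMap) := by
    refine iSup₂_le fun m hm y hy => ?_
    rw [LinearMap.mem_ker]
    exact Subtype.ext (decompose_of_mem_ne 𝒜 hy (by omega))
  exact congrArg Subtype.val (this hx)

lemma geSub_zero : geSub 𝒜 0 = ⊤ := by
  classical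
  refine _root_.eq_top_iff.mpr fun x _ => ?_
  rw [← sum_support_decompose 𝒜 x]
  exact sum_mem fun i _ => le_geSub 𝒜 (Nat.zero_le i) (decompose 𝒜 x i).2

lemma mem_geSub_of_decompose {n : ℕ} {x : A} (h : ∀ k < n, (decompose 𝒜 x k : A) = 0) :
    x ∈ geSub 𝒜 n := by
  classical
  rw [← sum_support_decompose 𝒜 x]
  refine sum_mem fun i _ => ?_
  rcases lt_or_ge i n with hi | hi
  · rw [h i hi]; exact zero_mem _
  · exact le_geSub 𝒜 hi (decompose 𝒜 x i).2

lemma geSub_one_le_irrelevant : ∀ x ∈ geSub 𝒜 1, x ∈ (irrelevant 𝒜).toIdeal :=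
  fun _ hx => decompose_eq_zero_of_geSub 𝒜 hx one_pos

variable (φ : B →ₐ[R] A[X]) (hφ : Function.Injective φ)
  (hdeg : ∀ n : ℕ, Submodule.map φ.toLinearMap (ℬ n) =
    Submodule.map ((Polynomial.monomial n : A →ₗ[A] A[X]).restrictScalars R) (geSub 𝒜 n))

include hdeg in
lemma natural_image {n : ℕ} {b : B} (hb : b ∈ ℬ n) :
    ∃ a ∈ geSub 𝒜 n, φ b = monomial n a := by
  obtain ⟨a, ha, h⟩ := (hdeg n).le (Submodule.mem_map_of_mem hb)
  exact ⟨a, ha, h.symm⟩

include hdeg in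
lemma natural_surj {n : ℕ} {a : A} (ha : a ∈ geSub 𝒜 n) : ∃ b ∈ ℬ n, φ b = monomial n a :=
  (hdeg n).ge (Submodule.mem_map_of_mem (f := (monomial n : A →ₗ[A] A[X]).restrictScalars R) ha)

include hdeg hφ in
lemma natural_mul_le {i j k : ℕ} :
    geSub 𝒜 k ≤ geSub 𝒜 i * geSub 𝒜 j ∧ i + j = k → ℬ k ≤ ℬ i * ℬ j := by
  rintro ⟨h, rfl⟩ b hb
  obtain ⟨a, ha, hba⟩ := natural_image 𝒜 ℬ φ hdeg hb
  have : ∀ c ∈ geSub 𝒜 i * geSub 𝒜 j, ∃ b' ∈ ℬ i * ℬ j, φ b' = monomial (i + j) c := by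
    intro c hc
    induction hc using Submodule.mul_induction_on' with
    | mem_mul_mem x hx y hy =>
      obtain ⟨p, hp, hpx⟩ := natural_surj 𝒜 ℬ φ hdeg hx
      obtain ⟨q, hq, hqy⟩ := natural_surj 𝒜 ℬ φ hdeg hy
      exact ⟨p * q, Submodule.mul_mem_mul hp hq, by rw [map_mul, hpx, hqy, monomial_mul_monomial]⟩
    | add x _ y _ hx hy =>
      obtain ⟨p, hp, hpx⟩ := hx
      obtain ⟨q, hq, hqy⟩ := hy
      exact ⟨p + q, add_mem hp hq, by rw [map_add, hpx, hqy, map_add]⟩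
  obtain ⟨b', hb', h'⟩ := this a (h ha)
  exact hφ (h'.trans hba.symm) ▸ hb'

include hdeg in
lemma natural_mul_image {i j : ℕ} {b : B} (hb : b ∈ ℬ i * ℬ j) :
    ∃ c ∈ geSub 𝒜 i * geSub 𝒜 j, φ b = monomial (i + j) c := by
  induction hb using Submodule.mul_induction_on' with
  | mem_mul_mem x hx y hy =>
    obtain ⟨p, hp, hpx⟩ := natural_image 𝒜 ℬ φ hdeg hx
    obtain ⟨q, hq, hqy⟩ := natural_image 𝒜 ℬ φ hdeg hy
    exact ⟨p * q, Submodule.mul_mem_mul hp hq, by rw [map_mul, hpx, hqy, monomial_mul_monomial]⟩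
  | add x _ y _ hx hy =>
    obtain ⟨p, hp, hpx⟩ := hx
    obtain ⟨q, hq, hqy⟩ := hy
    exact ⟨p + q, add_mem hp hq, by rw [map_add, hpx, hqy, map_add]⟩

include hdeg hφ in
lemma natural_succ_iff (n₀ : ℕ) :
    (∀ n : ℕ, n₀ ≤ n → ℬ (n + 1) = ℬ 1 * ℬ n) ↔
      (∀ n : ℕ, n₀ ≤ n → 𝒜 (n + 1) = 𝒜 1 * 𝒜 n) := by
  have hB : ∀ i j, ℬ i * ℬ j ≤ ℬ (i + j) := fun i j =>
    Submodule.mul_le.mpr fun x hx y hy => SetLike.mul_mem_graded hx hy
  have hA : ∀ i j, 𝒜 i * 𝒜 j ≤ 𝒜 (i + j) := fun i j =>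
    Submodule.mul_le.mpr fun x hx y hy => SetLike.mul_mem_graded hx hy
  constructor
  · intro h n hn
    refine le_antisymm (fun a ha => ?_) ((hA 1 n).trans (by rw [add_comm]))
    obtain ⟨b, hb, hba⟩ := natural_surj 𝒜 ℬ φ hdeg (le_geSub 𝒜 (le_refl (n + 1)) ha)
    rw [h n hn] at hb
    obtain ⟨c, hc, hbc⟩ := natural_mul_image 𝒜 ℬ φ hdeg hb
    rw [hbc, add_comm 1 n] at hba
    have hca : c = a := monomial_injective _ hba
    subst hca
    rw [← decompose_of_mem_same 𝒜 ha]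
    have : ∀ c ∈ geSub 𝒜 1 * geSub 𝒜 n, (decompose 𝒜 c (n + 1) : A) ∈ 𝒜 1 * 𝒜 n := by
      intro c hc
      simp only [geSub, Submodule.iSup_mul, Submodule.mul_iSup] at hc
      induction hc using Submodule.iSup_induction' with
      | mem j x hx =>
        induction hx using Submodule.iSup_induction' with
        | mem hj x hx =>
          induction hx using Submodule.iSup_induction' with
          | mem i x hx =>
            induction hx using Submodule.iSup_induction' with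
            | mem hi x hx =>
              by_cases hij : i + j = n + 1
              · rw [decompose_of_mem_same 𝒜 (hij ▸ hA i j hx)]
                obtain rfl : i = 1 := by omega
                obtain rfl : j = n := by omega
                exact hx
              · rw [decompose_of_mem_ne 𝒜 (hA i j hx) hij]; exact zero_mem _
            | zero => simp
            | add x y _ _ hx hy => simpa using add_mem hx hy
          | zero => simp
          | add x y _ _ hx hy => simpa using add_mem hx hy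
        | zero => simp
        | add x y _ _ hx hy => simpa using add_mem hx hy
      | zero => simp
      | add x y _ _ hx hy => simpa using add_mem hx hy
    exact this c hc
  · intro h n hn
    refine le_antisymm (natural_mul_le 𝒜 ℬ φ hφ hdeg ⟨iSup₂_le fun m hm => ?_, add_comm 1 n⟩)
      ((hB 1 n).trans (by rw [add_comm]))
    obtain ⟨m, rfl⟩ : ∃ k, m = k + 1 := ⟨m - 1, by omega⟩
    rw [h m (by omega)]
    exact mul_le_mul' (le_geSub 𝒜 le_rfl) (le_geSub 𝒜 (by omega))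

include hdeg in
lemma natural_pow_image (n : ℕ) :
    ∀ b ∈ ℬ 1 ^ n, ∃ c ∈ geSub 𝒜 1 ^ n, φ b = monomial n c := by
  induction n with
  | zero =>
    intro b hb
    rw [pow_zero, Submodule.one_eq_range] at hb
    obtain ⟨r, rfl⟩ := hb
    refine ⟨algebraMap R A r, by rw [pow_zero, Submodule.one_eq_range]; exact ⟨r, rfl⟩, ?_⟩
    simp [monomial_zero_left]
  | succ n ih =>
    intro b hb
    rw [pow_succ'] at hb
    induction hb using Submodule.mul_induction_on' with
    | mem_mul_mem x hx y hy =>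
      obtain ⟨p, hp, hpx⟩ := natural_image 𝒜 ℬ φ hdeg hx
      obtain ⟨q, hq, hqy⟩ := ih y hy
      exact ⟨p * q, by rw [pow_succ']; exact Submodule.mul_mem_mul hp hq,
        by rw [map_mul, hpx, hqy, monomial_mul_monomial, add_comm]⟩
    | add x _ y _ hx hy =>
      obtain ⟨p, hp, hpx⟩ := hx
      obtain ⟨q, hq, hqy⟩ := hy
      exact ⟨p + q, add_mem hp hq, by rw [map_add, hpx, hqy, map_add]⟩

include hdeg in
lemma natural_pow_surj (n : ℕ) :
    ∀ c ∈ geSub 𝒜 1 ^ n, ∃ b ∈ ℬ 1 ^ n, φ b = monomial n c := by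
  induction n with
  | zero =>
    intro c hc
    rw [pow_zero, Submodule.one_eq_range] at hc
    obtain ⟨r, rfl⟩ := hc
    refine ⟨algebraMap R B r, by rw [pow_zero, Submodule.one_eq_range]; exact ⟨r, rfl⟩, ?_⟩
    simp [monomial_zero_left]
  | succ n ih =>
    intro c hc
    rw [pow_succ'] at hc
    induction hc using Submodule.mul_induction_on' with
    | mem_mul_mem x hx y hy =>
      obtain ⟨p, hp, hpx⟩ := natural_surj 𝒜 ℬ φ hdeg hx
      obtain ⟨q, hq, hqy⟩ := ih y hy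
      exact ⟨p * q, by rw [pow_succ']; exact Submodule.mul_mem_mul hp hq,
        by rw [map_mul, hpx, hqy, monomial_mul_monomial, add_comm]⟩
    | add x _ y _ hx hy =>
      obtain ⟨p, hp, hpx⟩ := hx
      obtain ⟨q, hq, hqy⟩ := hy
      exact ⟨p + q, add_mem hp hq, by rw [map_add, hpx, hqy, map_add]⟩

lemma pow_le_degree (n : ℕ) : 𝒜 1 ^ n ≤ 𝒜 n := by
  induction n with
  | zero => exact Submodule.one_le.mpr (SetLike.one_mem_graded 𝒜)
  | succ n ih =>
    rw [pow_succ]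
    exact (mul_le_mul_left ih _).trans
      (Submodule.mul_le.mpr fun x hx y hy => SetLike.mul_mem_graded hx hy)

lemma geSub_one_pow_le (n : ℕ) : geSub 𝒜 1 ^ n ≤ 𝒜 1 ^ n ⊔ geSub 𝒜 (n + 1) := by
  induction n with
  | zero => simp
  | succ n ih =>
    rw [pow_succ, pow_succ]
    have h1 : geSub 𝒜 1 ≤ 𝒜 1 ⊔ geSub 𝒜 2 := iSup₂_le fun m hm => by
      rcases hm.eq_or_lt with rfl | h
      · exact le_sup_left
      · exact (le_geSub 𝒜 h).trans le_sup_right
    refine (mul_le_mul' ih h1).trans ?_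
    rw [Submodule.sup_mul, Submodule.mul_sup, Submodule.mul_sup]
    refine sup_le (sup_le le_sup_left ((?_ : _ ≤ _).trans le_sup_right))
      (sup_le ((?_ : _ ≤ _).trans le_sup_right) ((?_ : _ ≤ _).trans le_sup_right))
    · exact (mul_le_mul_left ((pow_le_degree 𝒜 n).trans (le_geSub 𝒜 le_rfl)) _).trans
        (geSub_mul 𝒜 n 2)
    · exact (mul_le_mul_right (le_geSub 𝒜 le_rfl) _).trans (geSub_mul 𝒜 (n + 1) 1)
    · exact (geSub_mul 𝒜 (n + 1) 2).trans (iSup₂_le fun m hm => le_geSub 𝒜 (by omega))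

include hdeg hφ in
lemma natural_pow_iff (n₀ : ℕ) (hn₀ : 1 ≤ n₀) :
    (∀ n : ℕ, n₀ ≤ n → ℬ n = ℬ 1 ^ n) ↔ (∀ n : ℕ, n₀ ≤ n → 𝒜 n = 𝒜 1 ^ n) := by
  constructor
  · intro h n hn
    refine le_antisymm (fun a ha => ?_) (pow_le_degree 𝒜 n)
    obtain ⟨b, hb, hba⟩ := natural_surj 𝒜 ℬ φ hdeg (le_geSub 𝒜 (le_refl n) ha)
    rw [h n hn] at hb
    obtain ⟨c, hc, hbc⟩ := natural_pow_image 𝒜 ℬ φ hdeg n b hb
    rw [hbc] at hba
    have hca : c = a := monomial_injective _ hba
    subst hca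
    obtain ⟨p, hp, q, hq, hpq⟩ := Submodule.mem_sup.mp (geSub_one_pow_le 𝒜 n hc)
    have := decompose_of_mem_same 𝒜 ha
    rw [← hpq, decompose_add, DirectSum.add_apply, Submodule.coe_add,
      decompose_eq_zero_of_geSub 𝒜 hq (Nat.lt_succ_self n), add_zero,
      decompose_of_mem_same 𝒜 (pow_le_degree 𝒜 n hp)] at this
    rw [← hpq, ← this]
    exact hp
  · intro h n hn
    refine le_antisymm (fun b hb => ?_) (pow_le_degree ℬ n)
    obtain ⟨a, ha, hba⟩ := natural_image 𝒜 ℬ φ hdeg hb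
    have : geSub 𝒜 n ≤ geSub 𝒜 1 ^ n := iSup₂_le fun m hm => by
      obtain ⟨k, rfl⟩ := Nat.exists_eq_add_of_le hm
      obtain ⟨n', rfl⟩ : ∃ k, n = k + 1 := ⟨n - 1, by omega⟩
      rw [h _ (hn.trans hm), pow_succ (geSub 𝒜 1), show n' + 1 + k = n' + (k + 1) by omega, pow_add]
      exact mul_le_mul' (pow_le_pow_left' (le_geSub 𝒜 le_rfl) _)
        ((pow_le_degree 𝒜 (k + 1)).trans (le_geSub 𝒜 (by omega)))
    obtain ⟨b', hb', h'⟩ := natural_pow_surj 𝒜 ℬ φ hdeg n a (this ha)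
    exact hφ (h'.trans hba.symm) ▸ hb'

include hdeg hφ in
lemma natural_radical {ι : Type u} (d : ι → ℕ) (hd : ∀ a, 0 < d a) (f : ι → A)
    (hf : ∀ a, f a ∈ 𝒜 (d a))
    (hrad : ∀ g ∈ (irrelevant 𝒜).toIdeal, ∃ n : ℕ, 0 < n ∧ g ^ n ∈ Ideal.span (Set.range f))
    (fn : ι → B) (hfn : ∀ a, φ (fn a) = monomial (d a) (f a)) :
    (irrelevant ℬ).toIdeal ≤ (Ideal.span (Set.range fn)).radical := by
  classical
  refine irrelevant_le_of_homogeneous ℬ fun n hn b hb => ?_
  obtain ⟨a, ha, hba⟩ := natural_image 𝒜 ℬ φ hdeg hb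
  obtain ⟨N, hN, haN⟩ := hrad a (geSub_one_le_irrelevant 𝒜 a
    ((iSup₂_le fun m hm => le_geSub 𝒜 (by omega) : geSub 𝒜 n ≤ geSub 𝒜 1) ha))
  obtain ⟨c, hc⟩ := (Finsupp.mem_span_range_iff_exists_finsupp).mp haN
  let M := N + (∑ i ∈ c.support, d i)
  have haM : ∀ k, a ^ k ∈ geSub 𝒜 (n * k) := fun k => by
    induction k with
    | zero => rw [pow_zero, mul_zero, geSub_zero]; exact Submodule.mem_top
    | succ k ih =>
      rw [pow_succ, Nat.mul_succ]
      exact geSub_mul 𝒜 _ _ (Submodule.mul_mem_mul ih ha)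
  refine ⟨M, ?_⟩
  -- truncated coefficients
  let t : ι → A := fun i => c i * a ^ (∑ i ∈ c.support, d i) -
    ∑ k ∈ Finset.range (n * M - d i),
      (decompose 𝒜 (c i * a ^ (∑ i ∈ c.support, d i)) k : A)
  have htrunc : ∀ (N' : ℕ) (x : A), x - ∑ k ∈ Finset.range N', (decompose 𝒜 x k : A) ∈
      geSub 𝒜 N' := fun N' x => mem_geSub_of_decompose 𝒜 fun k hk => by
    rw [decompose_sub, DFinsupp.sub_apply, AddSubgroupClass.coe_sub, decompose_sum,
      DFinsupp.finsetSum_apply, AddSubmonoidClass.coe_finsetSum,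
      Finset.sum_eq_single k (fun j _ hj => decompose_of_mem_ne 𝒜 (decompose 𝒜 x j).2 hj)
        (fun h => absurd (Finset.mem_range.mpr hk) h),
      decompose_of_mem_same 𝒜 (decompose 𝒜 x k).2, sub_self]
  choose p hp hpt using fun i : ι => natural_surj 𝒜 ℬ φ hdeg (htrunc (n * M - d i)
    (c i * a ^ (∑ i ∈ c.support, d i)))
  have hdle : ∀ i ∈ c.support, d i ≤ n * M := fun i hi =>
    ((Finset.single_le_sum (fun j _ => Nat.zero_le (d j)) hi).trans (Nat.le_add_left _ N)).trans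
      (Nat.le_mul_of_pos_left _ hn)
  have key : b ^ M = ∑ i ∈ c.support, p i * fn i := by
    apply hφ
    rw [map_pow, hba, monomial_pow, map_sum,
      Finset.sum_congr rfl fun i hi => by
        rw [map_mul, hpt, hfn, monomial_mul_monomial, Nat.sub_add_cancel (hdle i hi)],
      ← map_sum]
    congr 1
    have h1 : a ^ M = ∑ i ∈ c.support, (c i * a ^ (∑ i ∈ c.support, d i)) * f i := by
      rw [pow_add, ← hc, Finsupp.sum, Finset.sum_mul]
      exact Finset.sum_congr rfl fun i _ => by rw [smul_eq_mul]; ring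
    simp only [sub_mul, Finset.sum_sub_distrib, Finset.sum_mul]
    rw [← h1, eq_comm, sub_eq_self]
    have h0 : ∀ k, k < n * M → (decompose 𝒜 (a ^ M) k : A) = 0 := fun k hk =>
      decompose_eq_zero_of_geSub 𝒜 (haM M) hk
    have h2 : ∑ k ∈ Finset.range (n * M), (decompose 𝒜 (a ^ M) k : A) = 0 :=
      Finset.sum_eq_zero fun k hk => h0 k (Finset.mem_range.mp hk)
    rw [h1, Finset.sum_congr rfl fun k _ =>
      map_sum (GradedRing.proj 𝒜 k) (fun i => (c i * a ^ (∑ i ∈ c.support, d i)) * f i) c.support |>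
        (fun e => (GradedRing.proj_apply 𝒜 k _).symm.trans e)] at h2
    simp only [GradedRing.proj_apply, coe_decompose_mul_of_right_mem 𝒜 _ (hf _)] at h2
    rw [Finset.sum_comm] at h2
    refine Eq.trans (Finset.sum_congr rfl fun i hi => ?_) h2
    rw [← Finset.sum_range_add_sum_Ico _ (hdle i hi)]
    rw [Finset.sum_eq_zero (s := Finset.range (d i)) fun k hk =>
      if_neg (by have := Finset.mem_range.mp hk; omega), zero_add, Finset.sum_Ico_eq_sum_range]
    exact Finset.sum_congr rfl fun k _ => by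
      rw [if_pos (Nat.le_add_right _ _), Nat.add_sub_cancel_left]
  rw [key]
  exact sum_mem fun i _ => Ideal.mul_mem_left _ _ (Ideal.subset_span ⟨i, rfl⟩)

/-- The degree zero part of `⊕ S₍≥ₙ₎ Xⁿ` is `S`. -/
noncomputable def naturalZero : ℬ 0 →+* A :=
  (Polynomial.constantCoeff.comp φ.toRingHom).comp (SetLike.GradeZero.subalgebra ℬ).val.toRingHom

include hdeg hφ in
lemma naturalZero_bijective : Function.Bijective (naturalZero ℬ φ) := by
  refine ⟨fun x y h => ?_, fun a => ?_⟩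
  · obtain ⟨p, _, hp⟩ := natural_image 𝒜 ℬ φ hdeg x.2
    obtain ⟨q, _, hq⟩ := natural_image 𝒜 ℬ φ hdeg y.2
    have h' : (φ (x : B)).coeff 0 = (φ (y : B)).coeff 0 := h
    rw [hp, hq, coeff_monomial, coeff_monomial, if_pos rfl, if_pos rfl] at h'
    exact Subtype.ext (hφ (by rw [hp, hq, h']))
  · obtain ⟨b, hb, hba⟩ := natural_surj 𝒜 ℬ φ hdeg (n := 0) (a := a)
      (by rw [geSub_zero]; exact Submodule.mem_top)
    refine ⟨⟨b, hb⟩, ?_⟩
    change (φ b).coeff 0 = a
    rw [hba, coeff_monomial, if_pos rfl]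

include hdeg hφ in
lemma natural_finiteType [Algebra.FiniteType (𝒜 0) A] : Algebra.FiniteType (ℬ 0) B := by
  classical
  obtain ⟨s, dg, hdg, hs⟩ := exists_finset_homogeneous_adjoin_eq_top 𝒜
  choose g hg hgφ using fun p : (Σ e : s, Fin (dg e + 1)) =>
    natural_surj 𝒜 ℬ φ hdeg (n := (p.2 : ℕ)) (a := (p.1 : A))
      (le_geSub 𝒜 (Nat.lt_succ_iff.mp p.2.2) (hdg p.1 p.1.2).2)
  let T := Algebra.adjoin (ℬ 0) (Set.range g)
  let T' := T.toSubring.map φ.toRingHom
  have hC : ∀ a : A, C a ∈ T' := fun a => by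
    obtain ⟨b, hb, hba⟩ := natural_surj 𝒜 ℬ φ hdeg (n := 0) (a := a)
      (by rw [geSub_zero]; exact Submodule.mem_top)
    exact ⟨b, T.algebraMap_mem ⟨b, hb⟩, hba⟩
  let P : ℕ → A → Prop := fun m x => ∀ n ≤ m, monomial n x ∈ T'
  have hmul : ∀ m m' x y, P m x → P m' y → P (m + m') (x * y) := fun m m' x y hx hy n hn => by
    rw [show n = min n m + (n - min n m) by omega, ← monomial_mul_monomial]
    exact mul_mem (hx _ (by omega)) (hy _ (by omega))
  have hgen : ∀ e ∈ s, P (dg e) e := fun e he n hn =>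
    ⟨g ⟨⟨e, he⟩, ⟨n, Nat.lt_succ_iff.mpr hn⟩⟩, Algebra.subset_adjoin ⟨_, rfl⟩, hgφ _⟩
  have hone : ∀ a, P 0 a := fun a n hn => by
    obtain rfl : n = 0 := by omega
    rw [monomial_zero_left]; exact hC a
  have hpow : ∀ e ∈ s, ∀ k, P (k * dg e) (e ^ k) := fun e he k => by
    induction k with
    | zero => simpa using hone 1
    | succ k ih => rw [pow_succ, Nat.succ_mul]; exact hmul _ _ _ _ ih (hgen e he)
  have hprod : ∀ (a : A → ℕ) (t : Finset A), t ⊆ s →
      P (∑ e ∈ t, a e * dg e) (∏ e ∈ t, e ^ a e) := fun a t => by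
    induction t using Finset.induction with
    | empty => intro _; simpa using hone 1
    | insert e t het ih =>
      intro hsub
      rw [Finset.sum_insert het, Finset.prod_insert het]
      exact hmul _ _ _ _ (hpow e (hsub (Finset.mem_insert_self e t)) _)
        (ih ((Finset.subset_insert e t).trans hsub))
  have key : ∀ n, ∀ b ∈ ℬ n, b ∈ T := fun n b hb => by
    obtain ⟨a, ha, hba⟩ := natural_image 𝒜 ℬ φ hdeg hb
    suffices monomial n a ∈ T' by
      obtain ⟨b', hb', h'⟩ := this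
      exact hφ (h'.trans hba.symm) ▸ hb'
    let N := T'.toAddSubgroup.toAddSubmonoid.comap (monomial n).toAddMonoidHom
    suffices a ∈ N by exact this
    rw [← sum_support_decompose 𝒜 a]
    refine sum_mem fun m _ => ?_
    rcases lt_or_ge m n with hm | hm
    · rw [decompose_eq_zero_of_geSub 𝒜 ha hm]; exact zero_mem _
    · refine degree_le_of_monomials 𝒜 (fun e he => (hdg e he).2) hs m N
        (fun c _ x hx => ?_) _ (decompose 𝒜 a m).2
      have := hmul 0 m c _ (hone c) (hx ▸ hprod x s subset_rfl)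
      exact this n (by omega)
  refine ⟨⟨Finset.univ.image g, ?_⟩⟩
  rw [Finset.coe_image, Finset.coe_univ, Set.image_univ, _root_.eq_top_iff]
  intro b _
  rw [← sum_support_decompose ℬ b]
  exact sum_mem fun n _ => key n _ (decompose ℬ b n).2

include hdeg in
lemma finiteType_of_natural [Algebra.FiniteType (ℬ 0) B] : Algebra.FiniteType (𝒜 0) A := by
  classical
  obtain ⟨s, dg, hdg, hs⟩ := exists_finset_homogeneous_adjoin_eq_top ℬ
  refine (irrelevant_fg_iff 𝒜).mp ⟨(s.filter (dg · = 1)).image fun e => (φ e).coeff 1,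
    le_antisymm (Ideal.span_le.mpr fun x hx => ?_)
      (irrelevant_le_of_homogeneous 𝒜 fun m hm x hx => ?_)⟩
  · obtain ⟨e, he, rfl⟩ := Finset.mem_image.mp hx
    obtain ⟨hes, he1⟩ := Finset.mem_filter.mp he
    obtain ⟨a, ha, hea⟩ := natural_image 𝒜 ℬ φ hdeg (he1 ▸ (hdg e hes).2)
    show (φ e).coeff 1 ∈ (irrelevant 𝒜).toIdeal
    rw [hea, coeff_monomial, if_pos rfl]
    exact geSub_one_le_irrelevant 𝒜 a ha
  · obtain ⟨b, hb, hbx⟩ := natural_surj 𝒜 ℬ φ hdeg (le_geSub 𝒜 (by omega : 1 ≤ m) hx)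
    let I := Ideal.span (((s.filter (dg · = 1)).image fun e => (φ e).coeff 1 : Finset A) : Set A)
    let N := I.toAddSubmonoid.comap ((Polynomial.lcoeff A 1).toAddMonoidHom.comp
      φ.toRingHom.toAddMonoidHom)
    have hx' : b ∈ N := by
      refine degree_le_of_monomials ℬ (fun e he => (hdg e he).2) hs 1 N (fun c hc a ha => ?_) b hb
      change (φ (c * _)).coeff 1 ∈ I
      obtain ⟨c', _, hc'⟩ := natural_image 𝒜 ℬ φ hdeg hc
      obtain ⟨e, he, hae⟩ : ∃ e ∈ s, a e * dg e ≠ 0 := by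
        by_contra! hall
        rw [Finset.sum_eq_zero hall] at ha
        exact zero_ne_one ha
      obtain ⟨h1, hrest⟩ : a e * dg e = 1 ∧ ∀ j ∈ s.erase e, a j * dg j = 0 := by
        rw [← Finset.add_sum_erase s _ he] at ha
        exact ⟨by omega, fun j hj => by
          have := Finset.single_le_sum (fun j _ => Nat.zero_le (a j * dg j)) hj
          omega⟩
      obtain ⟨ha1, hd1⟩ := Nat.eq_one_of_mul_eq_one_right h1 |> fun h =>
        (⟨h, Nat.eq_one_of_mul_eq_one_left h1⟩ : a e = 1 ∧ dg e = 1)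
      rw [← Finset.mul_prod_erase s _ he, ha1, pow_one, Finset.prod_eq_one fun j hj => by
        rw [(Nat.mul_eq_zero.mp (hrest j hj)).resolve_right
          (hdg j (Finset.mem_of_mem_erase hj)).1.ne', pow_zero], mul_one, map_mul, hc',
        monomial_zero_left, coeff_C_mul]
      exact Ideal.mul_mem_left _ _ (Ideal.subset_span (Finset.mem_image.mpr
        ⟨e, Finset.mem_filter.mpr ⟨he, hd1⟩, rfl⟩))
    have : (φ b).coeff 1 ∈ I := hx'
    rwa [hbx, coeff_monomial, if_pos rfl] at this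

include hdeg hφ in
lemma natural_isNoetherianRing_iff : IsNoetherianRing B ↔ IsNoetherianRing A := by
  let e := RingEquiv.ofBijective _ (naturalZero_bijective 𝒜 ℬ φ hφ hdeg)
  constructor
  · intro h
    exact isNoetherianRing_of_ringEquiv (ℬ 0) e
  · intro h
    have := ((isNoetherianRing_iff_degZero 𝒜).mp h).2
    exact (isNoetherianRing_iff_degZero ℬ).mpr
      ⟨isNoetherianRing_of_ringEquiv A e.symm, natural_finiteType 𝒜 ℬ φ hφ hdeg⟩

end Groth.Agent.ProjLib
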