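import Groth.Agent.ProjLib.ProjSpace
import Mathlib.AlgebraicGeometry.Morphisms.QuasiFinite
import Mathlib.AlgebraicGeometry.ProjectiveSpectrum.Proper
import Mathlib.AlgebraicGeometry.Morphisms.Finite

/-!
# The projective line over a field is not affine
-/

namespace Groth.Agent.ProjLib

open CategoryTheory AlgebraicGeometry

universe u

set_option backward.isDefEq.respectTransparency.types false in
lemma projLine_not_isAffine (k : Type u) [Field k] : ¬ IsAffine (CohB1.ProjSpace 1 k) := by
  intro hA
  have : IsScalarTower k ((CohB1.polyGrading 1 k) 0) (MvPolynomial (Fin (1 + 1)) k) :=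
    IsScalarTower.of_algebraMap_eq (R := k) (S := (CohB1.polyGrading 1 k) 0) (A := MvPolynomial (Fin (1 + 1)) k) fun r => rfl
  have hft : Algebra.FiniteType ((CohB1.polyGrading 1 k) 0) (MvPolynomial (Fin (1 + 1)) k) :=
    Algebra.FiniteType.of_restrictScalars_finiteType k ((CohB1.polyGrading 1 k) 0) _
  have hbij : Function.Bijective (algebraMap k ((CohB1.polyGrading 1 k) 0)) := by
    refine ⟨fun a b h => MvPolynomial.C_injective _ k (congrArg Subtype.val h),
      fun p => ⟨MvPolynomial.coeff 0 p.1, Subtype.ext ?_⟩⟩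
    show MvPolynomial.C (MvPolynomial.coeff 0 p.1) = p.1
    exact (MvPolynomial.totalDegree_eq_zero_iff_eq_C.mp
      (((MvPolynomial.totalDegree_zero_iff_isHomogeneous _).2 ((MvPolynomial.mem_homogeneousSubmodule 0 p.1).mp p.2)))).symm
  have : IsIso (CommRingCat.ofHom (algebraMap k ((CohB1.polyGrading 1 k) 0))) :=
    (ConcreteCategory.isIso_iff_bijective _).mpr hbij
  have : IsProper (CohB1.ProjSpace.toSpec 1 k) :=
    show IsProper (Proj.toSpecZero (CohB1.polyGrading 1 k) ≫ Spec.map (CommRingCat.ofHom (algebraMap k ((CohB1.polyGrading 1 k) 0)))) from inferInstance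
  have : IsAffineHom (CohB1.ProjSpace.toSpec 1 k) := inferInstance
  have : IsFinite (CohB1.ProjSpace.toSpec 1 k) :=
    IsFinite.iff_isProper_and_isAffineHom.mpr ⟨inferInstance, inferInstance⟩
  have hqs : LocallyQuasiFinite (CohB1.ProjSpace.toSpec 1 k) := inferInstance
  have hq : LocallyQuasiFinite
      (Spec.map (CommRingCat.ofHom (toAway 1 k (MvPolynomial.X 0)))) := by
    rw [← awayι_toSpec 1 k (X_mem_polyGrading 1 k 0) one_pos]
    exact MorphismProperty.comp_mem (W := @LocallyQuasiFinite.{u})
      (Proj.awayι (CohB1.polyGrading 1 k) _ (X_mem_polyGrading 1 k 0) one_pos) (CohB1.ProjSpace.toSpec 1 k)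
      inferInstance hqs
  have hqf : (toAway 1 k (MvPolynomial.X 0)).QuasiFinite :=
    (HasRingHomProperty.Spec_iff (P := @LocallyQuasiFinite)).mp hq
  let := (toAway 1 k (MvPolynomial.X 0)).toAlgebra
  have : Algebra.QuasiFinite k (HomogeneousLocalization.Away (CohB1.polyGrading 1 k) (MvPolynomial.X 0)) := hqf
  have : Module.Finite k (HomogeneousLocalization.Away (CohB1.polyGrading 1 k) (MvPolynomial.X 0)) := .of_quasiFinite
  have : IsArtinianRing (HomogeneousLocalization.Away (CohB1.polyGrading 1 k) (MvPolynomial.X 0)) :=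
    IsArtinianRing.of_finite k _
  have : IsDomain (Localization.Away (MvPolynomial.X 0 : MvPolynomial (Fin (1 + 1)) k)) :=
    IsLocalization.isDomain_localization
      (powers_le_nonZeroDivisors_of_noZeroDivisors (MvPolynomial.X_ne_zero 0))
  have : IsDomain (HomogeneousLocalization.Away (CohB1.polyGrading 1 k) (MvPolynomial.X 0)) :=
    (HomogeneousLocalization.val_injective _).isDomain (algebraMap _
      (Localization.Away (MvPolynomial.X 0 : MvPolynomial (Fin (1 + 1)) k)))
  have hfld := IsArtinianRing.isField_of_isDomain (HomogeneousLocalization.Away (CohB1.polyGrading 1 k) (MvPolynomial.X 0))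
  let t : HomogeneousLocalization.Away (CohB1.polyGrading 1 k) (MvPolynomial.X 0) :=
    HomogeneousLocalization.Away.mk (CohB1.polyGrading 1 k) (X_mem_polyGrading 1 k 0) 1 (MvPolynomial.X 1)
      (by rw [one_smul]; exact X_mem_polyGrading 1 k 1)
  have ht0 : t ≠ 0 := by
    intro h
    have h2 := congrArg HomogeneousLocalization.val h
    simp only [t, HomogeneousLocalization.Away.val_mk, HomogeneousLocalization.val_zero,
      Localization.mk_eq_mk', IsLocalization.mk'_eq_zero_iff] at h2
    obtain ⟨⟨_, m, rfl⟩, hm⟩ := h2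
    exact mul_ne_zero (pow_ne_zero m (MvPolynomial.X_ne_zero (R := k) 0)) (MvPolynomial.X_ne_zero 1) hm
  have hev : evalPt 1 k t = 0 := by
    simp only [evalPt, t, RingHom.comp_apply, HomogeneousLocalization.algebraMap_apply,
      HomogeneousLocalization.Away.val_mk, Localization.mk_eq_mk', pow_one,
      IsLocalization.Away.lift, IsLocalization.lift_mk']
    simp
  obtain ⟨s, hs⟩ := hfld.mul_inv_cancel ht0
  have h1 := congrArg (evalPt 1 k) hs
  rw [map_mul, hev, zero_mul, map_one] at h1
  exact zero_ne_one h1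


end Groth.Agent.ProjLib
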