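import Groth.Prelude.Def_PCone
import Groth.Agent.ProjLib.MapLocal

/-!
# The morphism on the domain of a graded homomorphism
-/

namespace Groth.Agent.ProjLib

open CategoryTheory CategoryTheory.Limits AlgebraicGeometry HomogeneousLocalization TopologicalSpace

universe u

variable {R A B : Type u} [CommRing R] [CommRing A] [Algebra R A] {𝒜 : ℕ → Submodule R A}
  [GradedAlgebra 𝒜] [CommRing B] [Algebra R B] {ℬ : ℕ → Submodule R B} [GradedAlgebra ℬ]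
  (φ : 𝒜 →+*ᵍ ℬ)

omit [GradedAlgebra 𝒜] in
lemma chart_fac {d : ℕ} {f : A} (hf : f ∈ 𝒜 d) (hd : 0 < d) :
    PCone.chart φ hf hd ≫ (PCone.dom φ).ι =
      Proj.awayι ℬ (φ f) (show φ f ∈ ℬ _ from φ.2 hf) hd :=
  IsOpenImmersion.lift_fac ..

instance chart_isOpenImmersion {d : ℕ} {f : A} (hf : f ∈ 𝒜 d) (hd : 0 < d) :
    IsOpenImmersion (PCone.chart φ hf hd) :=
  have : IsOpenImmersion (PCone.chart φ hf hd ≫ (PCone.dom φ).ι) := by
    rw [chart_fac]; infer_instance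
  IsOpenImmersion.of_comp _ (PCone.dom φ).ι

omit [GradedAlgebra 𝒜] in
lemma chart_opensRange {d : ℕ} {f : A} (hf : f ∈ 𝒜 d) (hd : 0 < d) :
    (PCone.chart φ hf hd).opensRange = (PCone.dom φ).ι ⁻¹ᵁ Proj.basicOpen ℬ (φ f) := by
  have h1 : (PCone.dom φ).ι ''ᵁ (PCone.chart φ hf hd).opensRange =
      (Proj.awayι ℬ (φ f) (show φ f ∈ ℬ _ from φ.2 hf) hd).opensRange := by
    rw [← Scheme.Hom.opensRange_comp]
    simp only [chart_fac]
  rw [← (PCone.dom φ).ι.preimage_image_eq (PCone.chart φ hf hd).opensRange, h1,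
    Proj.opensRange_awayι]

lemma isLocalizationElem_map {d e : ℕ} {f g : A} (hg : g ∈ 𝒜 e) (hf : f ∈ 𝒜 d) :
    Away.map φ g (Away.isLocalizationElem hg hf) =
      Away.isLocalizationElem (show φ g ∈ ℬ _ from φ.2 hg) (show φ f ∈ ℬ _ from φ.2 hf) := by
  refine HomogeneousLocalization.val_injective _ ?_
  simp [Away.isLocalizationElem, Away.val_mk]

lemma preimage_basicOpen_of_chart (p : (PCone.dom φ : Scheme.{u}) ⟶ Proj 𝒜)
    (hp : ∀ (d : ℕ) (f : A) (hd : 0 < d) (hf : f ∈ 𝒜 d), PCone.chart φ hf hd ≫ p =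
      Spec.map (CommRingCat.ofHom (Away.map φ f)) ≫ Proj.awayι 𝒜 f hf hd)
    {d : ℕ} {f : A} (hf : f ∈ 𝒜 d) (hd : 0 < d) :
    p ⁻¹ᵁ Proj.basicOpen 𝒜 f = (PCone.chart φ hf hd).opensRange := by
  rw [chart_opensRange]
  ext y
  obtain ⟨⟨g, e, he, hg⟩, hy⟩ := Opens.mem_iSup.mp y.2
  have hy' : y ∈ (PCone.chart φ hg he).opensRange := by rw [chart_opensRange]; exact hy
  obtain ⟨x, rfl⟩ := hy'
  have e1 := chart_fac φ hg he
  have h1 : (PCone.chart φ hg he ≫ p) ⁻¹ᵁ Proj.basicOpen 𝒜 f =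
      (PCone.chart φ hg he ≫ (PCone.dom φ).ι) ⁻¹ᵁ Proj.basicOpen ℬ (φ f) := by
    rw [hp, e1, Scheme.Hom.comp_preimage, Proj.awayι_preimage_basicOpen 𝒜 hg he hf hd,
      Proj.awayι_preimage_basicOpen ℬ (show φ g ∈ ℬ _ from φ.2 hg) he
        (show φ f ∈ ℬ _ from φ.2 hf) hd, ← isLocalizationElem_map]
    rfl
  exact (SetLike.ext_iff.mp h1 x)

lemma isAffineHom_of_chart (p : (PCone.dom φ : Scheme.{u}) ⟶ Proj 𝒜)
    (hp : ∀ (d : ℕ) (f : A) (hd : 0 < d) (hf : f ∈ 𝒜 d), PCone.chart φ hf hd ≫ p =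
      Spec.map (CommRingCat.ofHom (Away.map φ f)) ≫ Proj.awayι 𝒜 f hf hd) :
    IsAffineHom p := by
  refine isAffineHom_of_forall_exists_isAffineOpen _ fun x => ?_
  obtain ⟨i, hi⟩ := (Proj.affineOpenCover 𝒜).openCover.exists_eq x
  refine ⟨Proj.basicOpen 𝒜 (i.2 : A), ?_, Proj.isAffineOpen_basicOpen 𝒜 _ i.2.2 i.1.2, ?_⟩
  · rw [← Proj.opensRange_awayι 𝒜 _ i.2.2 i.1.2]
    exact hi
  · rw [preimage_basicOpen_of_chart φ p hp i.2.2 i.1.2]
    have := chart_isOpenImmersion φ i.2.2 i.1.2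
    exact isAffineOpen_opensRange (PCone.chart φ (hd := i.1.2) (hf := i.2.2))

end Groth.Agent.ProjLib
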