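import Groth.Agent.ProjLib.VeroneseProj
import Mathlib.RingTheory.GradedAlgebra.Radical

/-!
# Homogeneous primes with prescribed tail
-/

set_option linter.unusedSectionVars false

namespace Groth.Agent.ProjLib

open DirectSum HomogeneousIdeal AlgebraicGeometry

universe u

variable {R A : Type u} [CommRing R] [CommRing A] [Algebra R A] (𝒜 : ℕ → Submodule R A)
  [GradedAlgebra 𝒜] (n₀ : ℕ) (p : ℕ → AddSubgroup A)

/-- `a` times the tail of `S` lands in the prescribed tail. -/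
def TailMem (i : ℕ) (a : A) : Prop := ∀ n, n₀ ≤ n → ∀ b ∈ 𝒜 n, a * b ∈ p (i + n)

lemma tailMem_add {i : ℕ} {a b : A} (ha : TailMem 𝒜 n₀ p i a) (hb : TailMem 𝒜 n₀ p i b) :
    TailMem 𝒜 n₀ p i (a + b) :=
  fun n hn c hc => by rw [add_mul]; exact add_mem (ha n hn c hc) (hb n hn c hc)

lemma tailMem_zero (i : ℕ) : TailMem 𝒜 n₀ p i 0 :=
  fun n _ c _ => by rw [zero_mul]; exact zero_mem _

/-- The homogeneous ideal attached to a tail. -/
noncomputable def tailIdeal : Ideal A where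
  carrier := {x | ∀ i, TailMem 𝒜 n₀ p i (decompose 𝒜 x i : A)}
  add_mem' {a b} ha hb i := by
    rw [decompose_add, DirectSum.add_apply, Submodule.coe_add]
    exact tailMem_add 𝒜 n₀ p (ha i) (hb i)
  zero_mem' i := by
    rw [decompose_zero]
    exact tailMem_zero 𝒜 n₀ p i
  smul_mem' c x hx := by
    classical
    induction c using DirectSum.Decomposition.inductionOn (ℳ := 𝒜) with
    | zero =>
      rw [zero_smul]
      exact fun i => by rw [decompose_zero]; exact tailMem_zero 𝒜 n₀ p i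
    | @homogeneous j c =>
      intro i
      rw [smul_eq_mul, coe_decompose_mul_of_left_mem 𝒜 i c.2]
      split_ifs with hle
      · intro n hn b hb
        have := hx (i - j) (j + n) (by omega) _ (SetLike.mul_mem_graded c.2 hb)
        rw [show i - j + (j + n) = i + n by omega] at this
        rwa [mul_comm (c : A), mul_assoc]
      · exact tailMem_zero 𝒜 n₀ p i
    | add a b ha hb =>
      intro i
      rw [add_smul, decompose_add, DirectSum.add_apply, Submodule.coe_add]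
      exact tailMem_add 𝒜 n₀ p (ha i) (hb i)

lemma mem_tailIdeal_iff {i : ℕ} {a : A} (ha : a ∈ 𝒜 i) :
    a ∈ tailIdeal 𝒜 n₀ p ↔ TailMem 𝒜 n₀ p i a := by
  refine ⟨fun h => by simpa [decompose_of_mem_same 𝒜 ha] using h i, fun h j => ?_⟩
  by_cases hij : i = j
  · subst hij; rwa [decompose_of_mem_same 𝒜 ha]
  · rw [decompose_of_mem_ne 𝒜 ha hij]; exact tailMem_zero 𝒜 n₀ p j

lemma tailIdeal_isHomogeneous : (tailIdeal 𝒜 n₀ p).IsHomogeneous 𝒜 :=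
  fun i _ hx => (mem_tailIdeal_iff 𝒜 n₀ p (decompose 𝒜 _ i).2).mpr (hx i)

/-- The homogeneous prime with a given tail exists exactly under the evident conditions. -/
lemma exists_prime_tail_iff (hn₀ : 0 < n₀) (hp : ∀ n : ℕ, n₀ ≤ n → (p n : Set A) ⊆ 𝒜 n) :
    (∃ 𝔭 : HomogeneousIdeal 𝒜, 𝔭.toIdeal.IsPrime ∧ ¬ irrelevant 𝒜 ≤ 𝔭 ∧
        ∀ n : ℕ, n₀ ≤ n → (𝔭.toIdeal : Set A) ∩ 𝒜 n = p n) ↔
      ((∀ m n : ℕ, n₀ ≤ n → ∀ a ∈ 𝒜 m, ∀ b ∈ p n, a * b ∈ p (m + n)) ∧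
        (∀ m n : ℕ, n₀ ≤ m → n₀ ≤ n → ∀ f ∈ 𝒜 m, ∀ g ∈ 𝒜 n, f * g ∈ p (m + n) →
          f ∈ p m ∨ g ∈ p n) ∧
        ∃ n : ℕ, n₀ ≤ n ∧ (p n : Set A) ≠ 𝒜 n) := by
  classical
  constructor
  · rintro ⟨𝔭, hprime, hne, htail⟩
    have hmem : ∀ n, n₀ ≤ n → ∀ a, a ∈ p n ↔ a ∈ 𝔭.toIdeal ∧ a ∈ 𝒜 n := fun n hn a =>
      (Set.ext_iff.mp (htail n hn) a).symm
    refine ⟨fun m n hn a ha b hb => ?_, fun m n hm hn f hf g hg hfg => ?_, ?_⟩
    · rw [hmem _ (hn.trans (Nat.le_add_left n m))]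
      exact ⟨Ideal.mul_mem_left _ _ ((hmem n hn b).mp hb).1,
        SetLike.mul_mem_graded ha ((hmem n hn b).mp hb).2⟩
    · rcases hprime.mem_or_mem ((hmem _ (hn.trans (Nat.le_add_left n m)) _).mp hfg).1 with h | h
      · exact Or.inl ((hmem m hm f).mpr ⟨h, hf⟩)
      · exact Or.inr ((hmem n hn g).mpr ⟨h, hg⟩)
    · by_contra! hall
      refine hne (toIdeal_le_toIdeal_iff.mp (irrelevant_le_of_homogeneous 𝒜 fun d hd x hx => ?_))
      refine hprime.mem_of_pow_mem n₀ ((hmem (n₀ * d) (Nat.le_mul_of_pos_right _ hd) _).mp ?_).1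
      change x ^ n₀ ∈ (p (n₀ * d) : Set A)
      rw [hall _ (Nat.le_mul_of_pos_right _ hd)]
      simpa using SetLike.pow_mem_graded n₀ hx
  · rintro ⟨h1, h2, n, hn, hne⟩
    obtain ⟨f, hf, hfp⟩ := Set.not_subset.mp fun h => hne (subset_antisymm (hp n hn) h)
    have hiff : ∀ i, n₀ ≤ i → ∀ a ∈ 𝒜 i, (TailMem 𝒜 n₀ p i a ↔ a ∈ p i) := fun i hi a ha => by
      refine ⟨fun h => (h2 i n hi hn a ha f hf (h n hn f hf)).resolve_right hfp,
        fun h m hm b hb => ?_⟩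
      rw [mul_comm, add_comm]
      exact h1 m i hi b hb a h
    refine ⟨⟨tailIdeal 𝒜 n₀ p, tailIdeal_isHomogeneous 𝒜 n₀ p⟩, ?_, fun hle => ?_, fun i hi => ?_⟩
    · refine (tailIdeal_isHomogeneous 𝒜 n₀ p).isPrime_of_homogeneous_mem_or_mem (fun htop => ?_) ?_
      · have := (mem_tailIdeal_iff 𝒜 n₀ p (SetLike.one_mem_graded 𝒜)).mp
          (htop ▸ Submodule.mem_top) n hn f hf
        rw [one_mul, zero_add] at this
        exact hfp this
      · rintro a b ⟨i, ha⟩ ⟨j, hb⟩ hab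
        have h3 := (mem_tailIdeal_iff 𝒜 n₀ p (SetLike.mul_mem_graded ha hb)).mp hab (n + n)
          (by omega) _ (SetLike.mul_mem_graded hf hf)
        rw [show a * b * (f * f) = a * f * (b * f) by ring,
          show i + j + (n + n) = i + n + (j + n) by omega] at h3
        have key : ∀ k c, c ∈ 𝒜 k → c * f ∈ p (k + n) → c ∈ tailIdeal 𝒜 n₀ p := fun k c hc hcf =>
          (mem_tailIdeal_iff 𝒜 n₀ p hc).mpr fun m hm e he => by
            refine (h2 (k + m) n (by omega) hn (c * e) (SetLike.mul_mem_graded hc he) f hf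
              ?_).resolve_right hfp
            rw [mul_comm c e, mul_assoc, add_comm k m, add_assoc]
            exact h1 m (k + n) (by omega) e he (c * f) hcf
        rcases h2 (i + n) (j + n) (by omega) (by omega) _ (SetLike.mul_mem_graded ha hf) _
          (SetLike.mul_mem_graded hb hf) h3 with h | h
        · exact Or.inl (key i a ha h)
        · exact Or.inr (key j b hb h)
    · have : f ∈ tailIdeal 𝒜 n₀ p := hle (mem_irrelevant_of_pos 𝒜 (by omega) hf)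
      exact hfp ((hiff n hn f hf).mp ((mem_tailIdeal_iff 𝒜 n₀ p hf).mp this))
    · ext a
      refine ⟨fun ⟨h, ha⟩ => (hiff i hi a ha).mp ((mem_tailIdeal_iff 𝒜 n₀ p ha).mp h),
        fun h => ⟨(mem_tailIdeal_iff 𝒜 n₀ p (hp i hi h)).mpr ((hiff i hi a (hp i hi h)).mpr h),
          hp i hi h⟩⟩

lemma prime_tail_unique (hn₀ : 0 < n₀) (𝔭 𝔮 : HomogeneousIdeal 𝒜) (h𝔭 : 𝔭.toIdeal.IsPrime)
    (h𝔮 : 𝔮.toIdeal.IsPrime) (h𝔭' : ¬ irrelevant 𝒜 ≤ 𝔭) (h𝔮' : ¬ irrelevant 𝒜 ≤ 𝔮)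
    (ht : ∀ n : ℕ, n₀ ≤ n → (𝔭.toIdeal : Set A) ∩ 𝒜 n = p n)
    (ht' : ∀ n : ℕ, n₀ ≤ n → (𝔮.toIdeal : Set A) ∩ 𝒜 n = p n) : 𝔭 = 𝔮 := by
  let x : Proj 𝒜 := ⟨𝔭, h𝔭, h𝔭'⟩
  let y : Proj 𝒜 := ⟨𝔮, h𝔮, h𝔮'⟩
  have : x = y := point_ext fun d hd a ha => by
    change a ∈ 𝔭.toIdeal ↔ a ∈ 𝔮.toIdeal
    rw [← h𝔭.pow_mem_iff_mem n₀ hn₀, ← h𝔮.pow_mem_iff_mem n₀ hn₀]
    have hmem : a ^ n₀ ∈ 𝒜 (n₀ * d) := by simpa using SetLike.pow_mem_graded n₀ ha
    have hle : n₀ ≤ n₀ * d := Nat.le_mul_of_pos_right _ hd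
    exact ⟨fun h => (((Set.ext_iff.mp (ht' _ hle) _).mpr ((Set.ext_iff.mp (ht _ hle) _).mp ⟨h, hmem⟩))).1,
      fun h => (((Set.ext_iff.mp (ht _ hle) _).mpr ((Set.ext_iff.mp (ht' _ hle) _).mp ⟨h, hmem⟩))).1⟩
  exact congrArg ProjectiveSpectrum.asHomogeneousIdeal this

end Groth.Agent.ProjLib
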