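import Groth.Agent.ProjLib.BaseChangeGen
import Groth.Prelude.Def_RelProj2

/-!
# Base change of the relative `Proj`
-/

set_option linter.unusedSectionVars false

namespace Groth.Agent.ProjLib

open CategoryTheory CategoryTheory.Limits AlgebraicGeometry TopologicalSpace Opposite
open scoped HomogeneousIdeal

universe u

variable {Y Y' P P' : Scheme.{u}} (ψ : Y' ⟶ Y) {𝒮 : RelProj.QCGrAlg Y} {𝒮' : RelProj.QCGrAlg Y'}
  {U : Y.Opens} {U' : Y'.Opens} (hU : IsAffineOpen U) (hU' : IsAffineOpen U') (hle : U' ≤ ψ ⁻¹ᵁ U)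

lemma isoSpec_inv_resLE :
    hU'.isoSpec.inv ≫ ψ.resLE U U' hle = Spec.map (ψ.appLE U U' hle) ≫ hU.isoSpec.inv := by
  rw [← cancel_mono U.ι, Category.assoc, Category.assoc, Scheme.Hom.resLE_comp_ι,
    hU.isoSpec_inv_ι, hU.SpecMap_appLE_fromSpec ψ hU' hle, ← hU'.isoSpec_inv_ι, Category.assoc]

lemma isPullback_chartBase (φ : 𝒮.deg U hU →+*ᵍ 𝒮'.deg U' hU')
    (hirr : (𝒮'.deg U' hU')₊ ≤ ((𝒮.deg U hU)₊).map φ)
    (hpo : IsPushout (ψ.appLE U U' hle) (𝒮.str.app (op U)) (𝒮'.str.app (op U'))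
      (CommRingCat.ofHom (φ : 𝒮.presheaf.obj (op U) →+* 𝒮'.presheaf.obj (op U')))) :
    IsPullback (Proj.map φ hirr) (chartBase 𝒮' U' hU') (chartBase 𝒮 U hU)
      (ψ.resLE U U' hle) := by
  have h := map_isPullback_of_isPushout φ hirr (ψ.appLE U U' hle).hom
    (𝒮'.strZero U' hU').hom (𝒮.strZero U hU).hom hpo
  refine IsPullback.of_iso h (Iso.refl _) (Iso.refl _) hU'.isoSpec.symm hU.isoSpec.symm ?_ ?_ ?_ ?_
  · simp
  · rw [Iso.refl_hom, Category.id_comp, Iso.symm_hom]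
    exact Category.assoc _ _ _
  · rw [Iso.refl_hom, Category.id_comp, Iso.symm_hom]
    exact Category.assoc _ _ _
  · exact (isoSpec_inv_resLE ψ hU hU' hle).symm

variable {p : P ⟶ Y}
  {chart : ∀ (U : Y.Opens) (hU : IsAffineOpen U), (((p ⁻¹ᵁ U : P.Opens) : Scheme.{u}) ≅ Proj (𝒮.deg U hU))}
  (hP : RelProj.IsRelProj 𝒮 p chart) {p' : P' ⟶ Y'}
  {chart' : ∀ (U' : Y'.Opens) (hU' : IsAffineOpen U'), (((p' ⁻¹ᵁ U' : P'.Opens) : Scheme.{u}) ≅ Proj (𝒮'.deg U' hU'))}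
  (hP' : RelProj.IsRelProj 𝒮' p' chart') (g : P' ⟶ P)

include hP hP' in
lemma isPullback_over_open (φ : 𝒮.deg U hU →+*ᵍ 𝒮'.deg U' hU')
    (hirr : (𝒮'.deg U' hU')₊ ≤ ((𝒮.deg U hU)₊).map φ)
    (hpo : IsPushout (ψ.appLE U U' hle) (𝒮.str.app (op U)) (𝒮'.str.app (op U'))
      (CommRingCat.ofHom (φ : 𝒮.presheaf.obj (op U) →+* 𝒮'.presheaf.obj (op U'))))
    (hg : (p' ⁻¹ᵁ U').ι ≫ g =
      (chart' U' hU').hom ≫ Proj.map φ hirr ≫ RelProj.emb p chart U hU) :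
    IsPullback (p' ∣_ U') ((p' ⁻¹ᵁ U').ι ≫ g) (U'.ι ≫ ψ) p := by
  have h1 : IsPullback ((chart' U' hU').hom ≫ Proj.map φ hirr ≫ (chart U hU).inv) (p' ∣_ U')
      (p ∣_ U) (ψ.resLE U U' hle) := by
    refine IsPullback.of_iso (isPullback_chartBase ψ hU hU' hle φ hirr hpo) (chart' U' hU').symm
      (chart U hU).symm (Iso.refl _) (Iso.refl _) ?_ ?_ ?_ ?_
    · simp
    · rw [Iso.refl_hom, Category.comp_id, Iso.symm_hom, chart_morphismRestrict hP' U' hU',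
        Iso.inv_hom_id_assoc]
    · rw [Iso.refl_hom, Category.comp_id, Iso.symm_hom, chart_morphismRestrict hP U hU,
        Iso.inv_hom_id_assoc]
    · simp
  have h2 := h1.paste_horiz (isPullback_morphismRestrict p U).flip
  rw [Scheme.Hom.resLE_comp_ι] at h2
  rw [hg, RelProj.emb]
  simp only [Category.assoc] at h2 ⊢
  exact h2.flip

include hP hP' in
lemma isPullback_relProj
    (φ : ∀ (U : Y.Opens) (hU : IsAffineOpen U) (U' : Y'.Opens) (hU' : IsAffineOpen U')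
      (_ : U' ≤ ψ ⁻¹ᵁ U), 𝒮.deg U hU →+*ᵍ 𝒮'.deg U' hU')
    (hirr : ∀ (U : Y.Opens) (hU : IsAffineOpen U) (U' : Y'.Opens) (hU' : IsAffineOpen U')
      (hle : U' ≤ ψ ⁻¹ᵁ U), (𝒮'.deg U' hU')₊ ≤ ((𝒮.deg U hU)₊).map (φ U hU U' hU' hle))
    (hpo : ∀ (U : Y.Opens) (hU : IsAffineOpen U) (U' : Y'.Opens) (hU' : IsAffineOpen U')
      (hle : U' ≤ ψ ⁻¹ᵁ U),
      IsPushout (ψ.appLE U U' hle) (𝒮.str.app (op U)) (𝒮'.str.app (op U'))
        (CommRingCat.ofHom (φ U hU U' hU' hle : 𝒮.presheaf.obj (op U) →+* 𝒮'.presheaf.obj (op U'))))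
    (hg : ∀ (U : Y.Opens) (hU : IsAffineOpen U) (U' : Y'.Opens) (hU' : IsAffineOpen U')
      (hle : U' ≤ ψ ⁻¹ᵁ U), (p' ⁻¹ᵁ U').ι ≫ g =
        (chart' U' hU').hom ≫ Proj.map (φ U hU U' hU' hle) (hirr U hU U' hU' hle) ≫
          RelProj.emb p chart U hU) :
    IsPullback g p' p ψ := by
  let ι := {W : Y'.Opens // IsAffineOpen W ∧ ∃ U : Y.Opens, IsAffineOpen U ∧ W ≤ ψ ⁻¹ᵁ U}
  have hι : ⨆ W : ι, (W : Y'.Opens) = ⊤ := by
    refine top_le_iff.mp fun y _ => ?_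
    obtain ⟨_, ⟨U, hU, rfl⟩, hyU, -⟩ :=
      Y.isBasis_affineOpens.exists_subset_of_mem_open (Set.mem_univ (ψ y)) isOpen_univ
    obtain ⟨_, ⟨W, hW, rfl⟩, hyW, hWU⟩ :=
      Y'.isBasis_affineOpens.exists_subset_of_mem_open (show y ∈ ψ ⁻¹ᵁ U from hyU) (ψ ⁻¹ᵁ U).isOpen
    exact Opens.mem_iSup.mpr ⟨⟨W, hW, U, hU, hWU⟩, hyW⟩
  refine (Scheme.isPullback_of_openCover p' g ψ p
    (Y'.openCoverOfIsOpenCover (fun W : ι => (W : Y'.Opens)) hι) fun W => ?_).flip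
  obtain ⟨W, hW, U, hU, hle⟩ := W
  have h := isPullback_over_open ψ hU hW hle hP hP' g (φ U hU W hW hle) (hirr U hU W hW hle)
    (hpo U hU W hW hle) (hg U hU W hW hle)
  have h0 := (isPullback_morphismRestrict p' W).flip
  refine IsPullback.of_iso h h0.isoPullback (Iso.refl _) (Iso.refl _) (Iso.refl _) ?_ ?_ ?_ ?_
  · exact (Category.comp_id _).trans h0.isoPullback_hom_snd.symm
  · exact (Category.comp_id _).trans (h0.isoPullback_hom_fst_assoc g).symm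
  · exact (Category.comp_id _).trans (Category.id_comp _).symm
  · simp

end Groth.Agent.ProjLib
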