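import Groth.Agent.ProjLib.QMapTN
import Groth.Agent.ProjLib.RelProjBaseChange

/-!
# `Proj(u)` for an inverse image algebra
-/

set_option linter.unusedSectionVars false
set_option autoImplicit false
set_option backward.isDefEq.respectTransparency.types false

namespace Groth.Agent.QProj

open CategoryTheory CategoryTheory.Limits AlgebraicGeometry TopologicalSpace Opposite
open scoped HomogeneousIdeal TensorProduct

universe u

/-- A pushout of rings is generated by the two images. -/
theorem closure_range_union_eq_top {R A B C : CommRingCat.{u}} {f : R ⟶ A} {g : R ⟶ B} {i : A ⟶ C} {j : B ⟶ C}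
    (h : IsPushout f g i j) : Subring.closure (Set.range i.hom ∪ Set.range j.hom) = ⊤ := by
  algebraize [f.hom, g.hom]
  let h' : IsPushout f g _ _ := CommRingCat.isPushout_tensorProduct R A B
  refine eq_top_iff.mpr fun c hc => ?_
  clear hc
  obtain ⟨t, rfl⟩ := (ConcreteCategory.bijective_of_isIso (h'.isoIsPushout _ _ h).hom).2 c
  induction t using TensorProduct.induction_on with
  | zero => erw [map_zero]; exact zero_mem _
  | tmul a b =>
    have e : a ⊗ₜ[R] b = (a ⊗ₜ[R] (1 : B)) * ((1 : A) ⊗ₜ[R] b) := by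
      rw [Algebra.TensorProduct.tmul_mul_tmul, one_mul, mul_one]
    rw [e]
    erw [map_mul]
    refine mul_mem (Subring.subset_closure (Or.inl ⟨a, ?_⟩)) (Subring.subset_closure (Or.inr ⟨b, ?_⟩))
    · exact (ConcreteCategory.congr_hom (IsPushout.inl_isoIsPushout_hom _ _ h' h) a).symm
    · exact (ConcreteCategory.congr_hom (IsPushout.inr_isoIsPushout_hom _ _ h' h) b).symm
  | add x y hx hy => erw [map_add]; exact add_mem hx hy

variable {S S' : Scheme.{u}} {g : S' ⟶ S} {𝒮 : RelProj.QCGrAlg S} {𝒮' : RelProj.QCGrAlg S'}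
  (u : RelProj.QGrHom g 𝒮 𝒮')

theorem irrelevant_le_of_isQBaseChange (hu : RelSpec.IsQBaseChange u.toQHom) (U : S.Opens) (hU : IsAffineOpen U)
    (U' : S'.Opens) (hU' : IsAffineOpen U') (hle : U' ≤ g ⁻¹ᵁ U) :
    (𝒮'.deg U' hU')₊ ≤ ((𝒮.deg U hU)₊).map (u.gradedAt U hU U' hU' hle) := by
  classical
  let φ := u.gradedAt U hU U' hU' hle
  let D := ((𝒮.deg U hU)₊).map φ
  let T : Subring (𝒮'.presheaf.obj (op U')) :=
    { carrier := {x | (DirectSum.decompose (𝒮'.deg U' hU') x 0 : 𝒮'.presheaf.obj (op U')) - x ∈ D.toIdeal}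
      zero_mem' := by simp
      one_mem' := by
        rw [Set.mem_ofPred_eq, DirectSum.decompose_of_mem_same _ SetLike.GradedOne.one_mem, sub_self]
        exact zero_mem _
      add_mem' := fun {a b} ha' hb' => by
        have ha : _ ∈ D.toIdeal := ha'
        have hb : _ ∈ D.toIdeal := hb'
        rw [Set.mem_ofPred_eq, DirectSum.decompose_add, DirectSum.add_apply, AddMemClass.coe_add]
        convert add_mem ha hb using 1
        ring
      neg_mem' := fun {a} ha' => by
        have ha : _ ∈ D.toIdeal := ha'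
        rw [Set.mem_ofPred_eq, DirectSum.decompose_neg, DFinsupp.neg_apply, NegMemClass.coe_neg]
        convert neg_mem ha using 1
        ring
      mul_mem' := fun {a b} ha' hb' => by
        have ha : _ ∈ D.toIdeal := ha'
        have hb : _ ∈ D.toIdeal := hb'
        have hp : ∀ x : 𝒮'.presheaf.obj (op U'), GradedRing.projZeroRingHom (𝒮'.deg U' hU') x =
            (DirectSum.decompose (𝒮'.deg U' hU') x 0 : 𝒮'.presheaf.obj (op U')) := fun _ => rfl
        rw [Set.mem_ofPred_eq, ← hp, map_mul, hp, hp]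
        convert add_mem (Ideal.mul_mem_right (DirectSum.decompose (𝒮'.deg U' hU') b 0 : 𝒮'.presheaf.obj (op U')) _ ha)
          (Ideal.mul_mem_left _ a hb) using 1
        ring }
  have hT : T = ⊤ := by
    refine eq_top_iff.mpr ((closure_range_union_eq_top (hu U hU U' hU' hle)).ge.trans (Subring.closure_le.mpr ?_))
    rintro _ (⟨r, rfl⟩ | ⟨a, rfl⟩)
    · show _ - _ ∈ D.toIdeal
      rw [DirectSum.decompose_of_mem_same _ (𝒮'.str_mem U' hU' r), sub_self]
      exact zero_mem _
    · show (DirectSum.decompose (𝒮'.deg U' hU') (φ a) 0 : 𝒮'.presheaf.obj (op U')) - φ a ∈ D.toIdeal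
      rw [← GradedRingHom.map_directSumDecompose (𝒜 := 𝒮.deg U hU) (ℬ := 𝒮'.deg U' hU') φ, ← neg_mem_iff (H := D.toIdeal), neg_sub, ← map_sub]
      refine Ideal.mem_map_of_mem _ ?_
      show GradedRing.proj (𝒮.deg U hU) 0
        (a - (DirectSum.decompose (𝒮.deg U hU) a 0 : 𝒮.presheaf.obj (op U))) = 0
      rw [map_sub, GradedRing.proj_apply, GradedRing.proj_apply,
        DirectSum.decompose_of_mem_same _ (DirectSum.decompose (𝒮.deg U hU) a 0).2, sub_self]
  rw [HomogeneousIdeal.irrelevant_le]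
  intro d hd x hx'
  have hx : x ∈ 𝒮'.deg U' hU' d := hx'
  have h1 : (DirectSum.decompose (𝒮'.deg U' hU') x 0 : 𝒮'.presheaf.obj (op U')) - x ∈ D.toIdeal := hT.ge (Subring.mem_top x)
  rw [DirectSum.decompose_of_mem_ne (𝒮'.deg U' hU') hx hd.ne', zero_sub, neg_mem_iff] at h1
  exact h1

end Groth.Agent.QProj
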