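import Groth.Agent.ProjLib.QComp
import Groth.Agent.RelConeLib.Retraction

/-!
# `Proj(u[z])` on projective cones
-/

set_option linter.unusedSectionVars false
set_option autoImplicit false
set_option backward.isDefEq.respectTransparency.types false

namespace Groth.Agent.QProj

open CategoryTheory CategoryTheory.Limits AlgebraicGeometry TopologicalSpace Opposite HomogeneousLocalization
open scoped HomogeneousIdeal
open Groth.Agent.ProjLib (awayMapTo awayMapTo_mk awayMapTo_rfl)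

universe u

section chase

variable {S S' P P' T : Scheme.{u}} {g : S' ⟶ S} {𝒮 : RelProj.QCGrAlg S} {𝒮' : RelProj.QCGrAlg S'}
  (u : RelProj.QGrHom g 𝒮 𝒮') {p : P ⟶ S}
  {chart : ∀ (U : S.Opens) (hU : IsAffineOpen U), (((p ⁻¹ᵁ U : P.Opens) : Scheme.{u}) ≅ Proj (𝒮.deg U hU))}
  {p' : P' ⟶ S'}
  {chart' : ∀ (U' : S'.Opens) (hU' : IsAffineOpen U'), (((p' ⁻¹ᵁ U' : P'.Opens) : Scheme.{u}) ≅ Proj (𝒮'.deg U' hU'))}

/-- A point factoring through a standard chart follows the chart equation. -/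
theorem chase {W : P'.Opens} {r : W.toScheme ⟶ P} (hr : RelProj.IsProjQMapOn u p chart p' chart' W r)
    (hW : W = RelProj.domQ u p' chart') (U : S.Opens) (hU : IsAffineOpen U) (U' : S'.Opens) (hU' : IsAffineOpen U')
    (hle : U' ≤ g ⁻¹ᵁ U) {d : ℕ} (hd : 0 < d) {f : 𝒮.presheaf.obj (op U)} (hf : f ∈ 𝒮.deg U hU d)
    {k : 𝒮'.presheaf.obj (op U')} (e : u.gradedAt U hU U' hU' hle f = k) (hk : k ∈ 𝒮'.deg U' hU' d)
    (m : T ⟶ Spec (CommRingCat.of (Away (𝒮'.deg U' hU') k))) (a : T ⟶ W.toScheme)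
    (ha : a ≫ W.ι = m ≫ Proj.awayι (𝒮'.deg U' hU') k hk hd ≫ RelProj.emb p' chart' U' hU') :
    a ≫ r = (m ≫ Spec.map (CommRingCat.ofHom (awayMapTo (u.gradedAt U hU U' hU' hle) f k e))) ≫
      Proj.awayι (𝒮.deg U hU) f hf hd ≫ RelProj.emb p chart U hU := by
  subst e hW
  have hrange := RelProj.range_awayEmb_subset_domQ u p' chart' U hU U' hU' hle hd f hf
  have h := hr U hU U' hU' hle d hd f hf hrange
  have h1 : a = m ≫ IsOpenImmersion.lift (RelProj.domQ u p' chart').ι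
      (RelProj.awayEmb u p' chart' U hU U' hU' hle hd f hf) hrange := by
    rw [← cancel_mono (RelProj.domQ u p' chart').ι, Category.assoc, IsOpenImmersion.lift_fac, ha]
    rfl
  rw [h1, Category.assoc, h, Category.assoc, awayMapTo_rfl]

/-- The same for an everywhere defined morphism. -/
theorem chase_top {r : P' ⟶ P} (hr : RelProj.IsProjQMap u p chart p' chart' r)
    (U : S.Opens) (hU : IsAffineOpen U) (U' : S'.Opens) (hU' : IsAffineOpen U')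
    (hle : U' ≤ g ⁻¹ᵁ U) {d : ℕ} (hd : 0 < d) {f : 𝒮.presheaf.obj (op U)} (hf : f ∈ 𝒮.deg U hU d)
    {k : 𝒮'.presheaf.obj (op U')} (e : u.gradedAt U hU U' hU' hle f = k) (hk : k ∈ 𝒮'.deg U' hU' d) :
    (Proj.awayι (𝒮'.deg U' hU') k hk hd ≫ RelProj.emb p' chart' U' hU') ≫ r =
      Spec.map (CommRingCat.ofHom (awayMapTo (u.gradedAt U hU U' hU' hle) f k e)) ≫
        Proj.awayι (𝒮.deg U hU) f hf hd ≫ RelProj.emb p chart U hU := by
  subst e
  rw [awayMapTo_rfl]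
  exact hr.2 U hU U' hU' hle d hd f hf

lemma mem_range_awayEmb_iff (U' : S'.Opens) (hU' : IsAffineOpen U') {d : ℕ} (hd : 0 < d)
    {k : 𝒮'.presheaf.obj (op U')} (hk : k ∈ 𝒮'.deg U' hU' d) (x : P') :
    x ∈ (Proj.awayι (𝒮'.deg U' hU') k hk hd ≫ RelProj.emb p' chart' U' hU').opensRange ↔ x ∈ nz chart' U' hU' k := by
  rw [Scheme.Hom.opensRange_comp, Proj.opensRange_awayι]
  rfl

end chase

section agree

variable {A B C σ τ ρ : Type u} [CommRing A] [SetLike σ A] [AddSubgroupClass σ A] {𝒜 : ℕ → σ} [GradedRing 𝒜]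
  [CommRing B] [SetLike τ B] [AddSubgroupClass τ B] {ℬ : ℕ → τ} [GradedRing ℬ]
  [CommRing C] [SetLike ρ C] [AddSubgroupClass ρ C] {𝒞 : ℕ → ρ} [GradedRing 𝒞]

/-- Composites of maps of degree-zero localizations depend only on the composite maps. -/
lemma awayMapTo_comp_eq {D : Type u} [CommRing D] {υ : Type u} [SetLike υ D] [AddSubgroupClass υ D] {𝒟 : ℕ → υ}
    [GradedRing 𝒟] (ψ₁ : 𝒜 →+*ᵍ ℬ) (χ₁ : ℬ →+*ᵍ 𝒟) (ψ₂ : 𝒜 →+*ᵍ 𝒞) (χ₂ : 𝒞 →+*ᵍ 𝒟) (h : ∀ a, χ₁ (ψ₁ a) = χ₂ (ψ₂ a))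
    {d : ℕ} {f : A} (hf : f ∈ 𝒜 d) (b : B) (e₁ : ψ₁ f = b) (c : C) (e₂ : ψ₂ f = c) (k : D) (e₁' : χ₁ b = k)
    (e₂' : χ₂ c = k) :
    (awayMapTo χ₁ b k e₁').comp (awayMapTo ψ₁ f b e₁) = (awayMapTo χ₂ c k e₂').comp (awayMapTo ψ₂ f c e₂) := by
  refine RingHom.ext fun q => ?_
  obtain ⟨n, a, ha, rfl⟩ := Away.mk_surjective 𝒜 hf q
  rw [RingHom.comp_apply, RingHom.comp_apply, awayMapTo_mk, awayMapTo_mk, awayMapTo_mk, awayMapTo_mk]
  apply HomogeneousLocalization.val_injective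
  simp [Away.val_mk, h]

end agree

section cone

variable {S P : Scheme.{u}} {𝒮 𝒮h : RelProj.QCGrAlg S} {ι : 𝒮.toQCAlg ⟶ 𝒮h.toQCAlg} {z : 𝒮h.presheaf.obj (op ⊤)}
  (hz : RelCone.IsPolyOver 𝒮 𝒮h ι z)

include hz in
/-- Homomorphisms out of `𝒮[z]` agree if they agree on `𝒮` and on `z`. -/
lemma polyHom_ext (U : S.Opens) (hU : IsAffineOpen U) {R : Type u} [CommRing R] {F G : 𝒮h.presheaf.obj (op U) →+* R}
    (h1 : ∀ a, F ((ι.hom.app (op U)).hom a) = G ((ι.hom.app (op U)).hom a))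
    (h2 : F (RelCone.restrictTop 𝒮h z U) = G (RelCone.restrictTop 𝒮h z U)) (x : 𝒮h.presheaf.obj (op U)) : F x = G x := by
  obtain ⟨f, rfl⟩ := (hz.bij U hU).2 x
  have : F.comp (Polynomial.eval₂RingHom (ι.hom.app (op U)).hom (RelCone.restrictTop 𝒮h z U)) =
      G.comp (Polynomial.eval₂RingHom (ι.hom.app (op U)).hom (RelCone.restrictTop 𝒮h z U)) :=
    Polynomial.ringHom_ext (fun a => by simpa using h1 a) (by simpa using h2)
  exact RingHom.congr_fun this f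

include hz in
/-- A point where `z` and the positive part of `𝒮` vanish does not exist. -/
lemma restrictTop_notMem (U : S.Opens) (hU : IsAffineOpen U) (y : Proj (𝒮h.deg U hU))
    (hy : y ∉ RelCone.domOpen (RelProj.gradedHomAt ι hz.graded U hU)) :
    RelCone.restrictTop 𝒮h z U ∉ y.asHomogeneousIdeal.toIdeal := by
  classical
  intro hzy
  refine y.not_irrelevant_le ((HomogeneousIdeal.irrelevant_le _).mpr fun d hd x hx' => ?_)
  have hx : x ∈ 𝒮h.deg U hU d := hx'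
  obtain ⟨f, rfl⟩ := (hz.bij U hU).2 x
  let E := Polynomial.eval₂RingHom (ι.hom.app (op U)).hom (RelCone.restrictTop 𝒮h z U)
  have e : E f = E f.divX * RelCone.restrictTop 𝒮h z U + (ι.hom.app (op U)).hom (f.coeff 0) := by
    conv_lhs => rw [← Polynomial.divX_mul_X_add f]
    simp [E]
  have hd' : d - 1 + 1 = d := Nat.succ_pred_eq_of_pos hd
  show E f ∈ y.asHomogeneousIdeal.toIdeal
  rw [← DirectSum.decompose_of_mem_same (𝒮h.deg U hU) hx]
  change ((DirectSum.decompose (𝒮h.deg U hU) (E f) d : _) : 𝒮h.presheaf.obj (op U)) ∈ _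
  rw [e, DirectSum.decompose_add, DirectSum.add_apply, AddMemClass.coe_add]
  refine add_mem ?_ ?_
  · rw [DirectSum.coe_decompose_mul_of_right_mem_of_le (𝒮h.deg U hU) (hz.deg_z U hU) (show 1 ≤ d from hd)]
    exact Ideal.mul_mem_left _ _ hzy
  · have hdec := GradedRingHom.map_directSumDecompose (𝒜 := 𝒮.deg U hU) (ℬ := 𝒮h.deg U hU)
      (RelProj.gradedHomAt ι hz.graded U hU) (x := f.coeff 0) (i := d)
    show ((DirectSum.decompose (𝒮h.deg U hU) (RelProj.gradedHomAt ι hz.graded U hU (f.coeff 0)) d : _) :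
      𝒮h.presheaf.obj (op U)) ∈ _
    rw [← hdec]
    by_contra hc
    exact hy ((RelCone.mem_domOpen _ _).mpr
      ⟨_, HomogeneousIdeal.mem_irrelevant_of_mem _ hd (DirectSum.decompose (𝒮.deg U hU) (f.coeff 0) d).2, hc⟩)

variable {p : P ⟶ S}
  {chart : ∀ (U : S.Opens) (hU : IsAffineOpen U), (((p ⁻¹ᵁ U : P.Opens) : Scheme.{u}) ≅ Proj (𝒮h.deg U hU))}
  (hP : RelProj.IsRelProj 𝒮h p chart)

include hP in
theorem pointedProjCone_eq_domQ :
    RelCone.pointedProjCone 𝒮 hz p chart = RelProj.domQ (RelProj.QGrHom.ofHom ι hz.graded) p chart := by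
  refine le_antisymm (iSup_le fun U => ?_) fun x hx => ?_
  · rw [← domQ_ofHom_inf ι hz.graded hP U.1 U.2]
    exact inf_le_left
  · obtain ⟨U, hxU⟩ := Opens.mem_iSup.mp ((ProjLib.iSup_preimage_affine p).ge (Set.mem_univ x))
    exact Opens.mem_iSup.mpr ⟨U, (domQ_ofHom_inf ι hz.graded hP U.1 U.2).le ⟨hx, hxU⟩⟩

include hP in
lemma mem_pointedProjCone_iff_nz (U : S.Opens) (hU : IsAffineOpen U) {x : P} (hx : p x ∈ U) :
    x ∈ RelCone.pointedProjCone 𝒮 hz p chart ↔ ∃ (d : ℕ) (_ : 0 < d) (f : 𝒮.presheaf.obj (op U)),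
      f ∈ 𝒮.deg U hU d ∧ x ∈ nz chart U hU ((ι.hom.app (op U)).hom f) := by
  rw [pointedProjCone_eq_domQ hz hP, mem_domQ_iff _ hP U hU U hU le_rfl hx]
  simp only [gradedAt_ofHom_apply]
  rfl

variable {S' P' : Scheme.{u}} {q : S' ⟶ S} {𝒮' 𝒮h' : RelProj.QCGrAlg S'} {ι' : 𝒮'.toQCAlg ⟶ 𝒮h'.toQCAlg}
  {z' : 𝒮h'.presheaf.obj (op ⊤)}
  (u : RelProj.QGrHom q 𝒮 𝒮') (uh : RelProj.QGrHom q 𝒮h 𝒮h')

lemma uh_ι (huh : ∀ U : S.Opens, ι.hom.app (op U) ≫ uh.app U = u.app U ≫ ι'.hom.app (op (q ⁻¹ᵁ U)))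
    (U : S.Opens) (hU : IsAffineOpen U) (U' : S'.Opens) (hU' : IsAffineOpen U') (hle : U' ≤ q ⁻¹ᵁ U)
    (a : 𝒮.presheaf.obj (op U)) :
    uh.gradedAt U hU U' hU' hle ((ι.hom.app (op U)).hom a) = (ι'.hom.app (op U')).hom (u.gradedAt U hU U' hU' hle a) := by
  show (ι.hom.app (op U) ≫ uh.app U ≫ 𝒮h'.presheaf.map (homOfLE hle).op).hom a =
    ((u.app U ≫ 𝒮'.presheaf.map (homOfLE hle).op) ≫ ι'.hom.app (op U')).hom a
  rw [← Category.assoc, huh, Category.assoc, Category.assoc, ι'.hom.naturality]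

lemma uh_z (huhz : (uh.app ⊤).hom z = RelCone.restrictTop 𝒮h' z' (q ⁻¹ᵁ ⊤))
    (U : S.Opens) (hU : IsAffineOpen U) (U' : S'.Opens) (hU' : IsAffineOpen U') (hle : U' ≤ q ⁻¹ᵁ U) :
    uh.gradedAt U hU U' hU' hle (RelCone.restrictTop 𝒮h z U) = RelCone.restrictTop 𝒮h' z' U' := by
  show (𝒮h.presheaf.map (homOfLE le_top).op ≫ uh.appLE U U' hle).hom z = _
  rw [uh.map_appLE le_top hle]
  show (𝒮h'.presheaf.map (homOfLE _).op).hom ((uh.app ⊤).hom z) = _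
  rw [huhz]
  exact (ConcreteCategory.congr_hom (𝒮h'.presheaf.map_comp _ _) z').symm

end cone

end Groth.Agent.QProj

namespace Groth.Agent.QProj

open CategoryTheory CategoryTheory.Limits AlgebraicGeometry TopologicalSpace Opposite HomogeneousLocalization
open scoped HomogeneousIdeal

universe u

variable {S S' P P' : Scheme.{u}} {g : S' ⟶ S} {𝒮 : RelProj.QCGrAlg S} {𝒮' : RelProj.QCGrAlg S'}
  (u : RelProj.QGrHom g 𝒮 𝒮') {p : P ⟶ S}
  {chart : ∀ (U : S.Opens) (hU : IsAffineOpen U), (((p ⁻¹ᵁ U : P.Opens) : Scheme.{u}) ≅ Proj (𝒮.deg U hU))}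
  (hP : RelProj.IsRelProj 𝒮 p chart) {p' : P' ⟶ S'}
  {chart' : ∀ (U' : S'.Opens) (hU' : IsAffineOpen U'), (((p' ⁻¹ᵁ U' : P'.Opens) : Scheme.{u}) ≅ Proj (𝒮'.deg U' hU'))}
  (hP' : RelProj.IsRelProj 𝒮' p' chart')

include hP hP' in
theorem mem_preimage_nz_iff_of_eq {W : P'.Opens} (hW : W = RelProj.domQ u p' chart') {v : W.toScheme ⟶ P}
    (hv : RelProj.IsProjQMapOn u p chart p' chart' W v)
    (U : S.Opens) (hU : IsAffineOpen U) (U' : S'.Opens) (hU' : IsAffineOpen U')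
    (hle : U' ≤ g ⁻¹ᵁ U) {d : ℕ} (hd : 0 < d) {f : 𝒮.presheaf.obj (op U)} (hf : f ∈ 𝒮.deg U hU d)
    (x : W.toScheme) (hx : p' x.1 ∈ U') :
    v x ∈ nz chart U hU f ↔ x.1 ∈ nz chart' U' hU' (u.gradedAt U hU U' hU' hle f) := by
  subst hW
  exact mem_preimage_nz_iff u hP hP' hv U hU U' hU' hle hd hf x hx

end Groth.Agent.QProj
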