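import Groth.Agent.ProjLib.QLine
import Mathlib.AlgebraicGeometry.Morphisms.Immersion

/-!
# Restrictions of `Proj(u)` over a chart `D₊(s)`, for the algebra of an invertible module
-/

set_option linter.unusedSectionVars false
set_option autoImplicit false
set_option backward.isDefEq.respectTransparency.types false

namespace Groth.Agent.QProj

open CategoryTheory CategoryTheory.Limits AlgebraicGeometry TopologicalSpace Opposite HomogeneousLocalization
open scoped HomogeneousIdeal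
open Groth.Agent.Coherent Groth.Agent.PicLib Groth.Agent.AmpleLib

universe u

section regular

variable {X : Scheme.{u}} {L : X.Modules} {𝒮L : RelProj.QCGrAlg X} {j : L ⟶ 𝒮L.toModule}
  [Coh.IsQCoh L] (hj : RelProj.IsGrSymAlg L 𝒮L j) {U : X.Opens} (hU : IsAffineOpen U) {g : Γ(L, U)}
  (hg : IsGen L U g)

include hj hU hg in
/-- The powers of a generator are free. -/
lemma eq_zero_of_str_mul_pow {b : Γ(X, U)} (i : ℕ)
    (h : (𝒮L.str.app (op U)).hom b * (show 𝒮L.presheaf.obj (op U) from j.app U g) ^ i = 0) : b = 0 := by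
  obtain ⟨F, hF0, hF1⟩ := SymAlgLib.exists_sectionsHom hj.1 hU (RingHom.id _)
    (AddMonoidHom.mk' (hg.coef le_rfl) (hg.coef_add le_rfl)) (fun r x => hg.coef_smul le_rfl r x)
  have h1 := congrArg F h
  have h2 : F (show 𝒮L.presheaf.obj (op U) from j.app U g) = 1 := by
    rw [hF1 g]
    show hg.coef le_rfl g = 1
    simpa only [resM_self] using hg.coef_self le_rfl
  rw [map_mul, map_pow, h2, one_pow, mul_one, map_zero] at h1
  exact (hF0 b).symm.trans h1

end regular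

section chartmap

variable {S P : Scheme.{u}} {𝒮 : RelProj.QCGrAlg S} {p : P ⟶ S}
  {chart : ∀ (U : S.Opens) (hU : IsAffineOpen U), (((p ⁻¹ᵁ U : P.Opens) : Scheme.{u}) ≅ Proj (𝒮.deg U hU))}

variable (chart) in
/-- The standard chart at a homogeneous section. -/
noncomputable def nzMap (U : S.Opens) (hU : IsAffineOpen U) {n : ℕ} (hn : 0 < n) {s : 𝒮.presheaf.obj (op U)}
    (hs : s ∈ 𝒮.deg U hU n) : Spec (CommRingCat.of (Away (𝒮.deg U hU) s)) ⟶ P :=
  Proj.awayι (𝒮.deg U hU) s hs hn ≫ RelProj.emb p chart U hU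

instance (U : S.Opens) (hU : IsAffineOpen U) {n : ℕ} (hn : 0 < n) {s : 𝒮.presheaf.obj (op U)}
    (hs : s ∈ 𝒮.deg U hU n) : IsOpenImmersion (nzMap chart U hU hn hs) := by
  unfold nzMap; infer_instance

lemma opensRange_nzMap (U : S.Opens) (hU : IsAffineOpen U) {n : ℕ} (hn : 0 < n) {s : 𝒮.presheaf.obj (op U)}
    (hs : s ∈ 𝒮.deg U hU n) : (nzMap chart U hU hn hs).opensRange = nz chart U hU s := by
  unfold nzMap
  rw [Scheme.Hom.opensRange_comp, Proj.opensRange_awayι]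
  rfl

end chartmap

section crit

variable {Y X P PL : Scheme.{u}} {q : X ⟶ Y} {L : X.Modules} {𝒮 : RelProj.QCGrAlg Y} {𝒮L : RelProj.QCGrAlg X}
  {j : L ⟶ 𝒮L.toModule} [Coh.IsQCoh L] (hj : RelProj.IsGrSymAlg L 𝒮L j) (hL : PicF.IsInvertible L)
  (u : RelProj.QGrHom q 𝒮 𝒮L) {p : P ⟶ Y}
  {chart : ∀ (U : Y.Opens) (hU : IsAffineOpen U), (((p ⁻¹ᵁ U : P.Opens) : Scheme.{u}) ≅ Proj (𝒮.deg U hU))}
  (hP : RelProj.IsRelProj 𝒮 p chart) {pL : PL ⟶ X}
  {chartL : ∀ (U : X.Opens) (hU : IsAffineOpen U), (((pL ⁻¹ᵁ U : PL.Opens) : Scheme.{u}) ≅ Proj (𝒮L.deg U hU))}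
  (hPL : RelProj.IsRelProj 𝒮L pL chartL)
  {r : (RelProj.domQ u pL chartL).toScheme ⟶ P}
  (hr : RelProj.IsProjQMapOn u p chart pL chartL (RelProj.domQ u pL chartL) r)
  {U : Y.Opens} (hU : IsAffineOpen U) {n : ℕ} (hn : 0 < n) {s : 𝒮.presheaf.obj (op U)} (hs : s ∈ 𝒮.deg U hU n)
  {XT : X.Opens}

variable (chartL) in
/-- `XT` is the open where the image of `s` does not vanish. -/
structure IsSOpen (U : Y.Opens) (hU : IsAffineOpen U) (s : 𝒮.presheaf.obj (op U)) (XT : X.Opens) : Prop where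
  le : XT ≤ q ⁻¹ᵁ U
  mem_iff : ∀ (V : X.Opens) (hV : IsAffineOpen V) (hle : V ≤ q ⁻¹ᵁ U) (z : PL), pL z ∈ V →
    (pL z ∈ XT ↔ z ∈ nz chartL V hV (u.gradedAt U hU V hV hle s))

include hPL in
lemma mem_nz_gradedAt_indep (t : 𝒮.presheaf.obj (op U)) {V V' : X.Opens} (hV : IsAffineOpen V) (hV' : IsAffineOpen V')
    (hle : V ≤ q ⁻¹ᵁ U) (hle' : V' ≤ q ⁻¹ᵁ U) {z : PL} (hz : pL z ∈ V) (hz' : pL z ∈ V') :
    z ∈ nz chartL V hV (u.gradedAt U hU V hV hle t) ↔ z ∈ nz chartL V' hV' (u.gradedAt U hU V' hV' hle' t) := by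
  obtain ⟨O, hO, hzO, hOV, hOV', -, -, -⟩ := exists_common_basic hV hV' ⊤ hz hz' (Set.mem_univ _)
  rw [← mem_nz_res_iff hPL hV hO hOV _ hzO, ← mem_nz_res_iff hPL hV' hO hOV' _ hzO,
    gradedAt_res_right, gradedAt_res_right]

include hj hPL hL in
theorem isSOpen_sLocus (hY : IsAffineOpen (⊤ : Y.Opens)) {d : ℕ} {f : 𝒮.presheaf.obj (op ⊤)}
    (hf : f ∈ 𝒮.deg ⊤ hY d) : IsSOpen u chartL ⊤ hY f (sLocus u d f) where
  le := le_top.trans (Scheme.Hom.preimage_top q).ge
  mem_iff V hV _ z hz := mem_sLocus_iff hj hPL u hL hY hf V hV hz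

variable [IsIso pL]

include hPL in
theorem exists_isSOpen : ∃ XT : X.Opens, IsSOpen u chartL U hU s XT := by
  refine ⟨⨆ V : {V : X.affineOpens // (V : X.Opens) ≤ q ⁻¹ᵁ U},
    pL ''ᵁ nz chartL V.1.1 V.1.2 (u.gradedAt U hU V.1.1 V.1.2 V.2 s), iSup_le fun V => ?_, fun V hV hle z hz => ?_⟩
  · rintro _ ⟨z, hz, rfl⟩
    exact V.2 (nz_le V.1.1 V.1.2 _ hz)
  · constructor
    · intro h
      obtain ⟨⟨⟨V', hV'⟩, hle'⟩, z', hz', he⟩ := Opens.mem_iSup.mp h
      obtain rfl := pL.isOpenEmbedding.injective he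
      exact (mem_nz_gradedAt_indep u hPL hU s hV' hV hle' hle (nz_le V' hV' _ hz') hz).mp hz'
    · exact fun h => Opens.mem_iSup.mpr ⟨⟨⟨V, hV⟩, hle⟩, z, h, rfl⟩

variable (h : IsSOpen u chartL U hU s XT)

lemma pL_inv_apply (x : X) : pL ((inv pL) x) = x := by
  show (inv pL ≫ pL) x = x
  rw [IsIso.inv_hom_id]
  rfl

include hn hs h hPL in
lemma mem_domQ_of_mem {z : PL} (hz : pL z ∈ XT) : z ∈ RelProj.domQ u pL chartL := by
  obtain ⟨_, ⟨V, hV, rfl⟩, hzV, hle⟩ :=
    X.isBasis_affineOpens.exists_subset_of_mem_open (show pL z ∈ q ⁻¹ᵁ U from h.le hz) (q ⁻¹ᵁ U).isOpen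
  exact (mem_domQ_iff u hPL U hU V hV hle hzV).mpr ⟨n, hn, s, hs, (h.mem_iff V hV hle z hzV).mp hz⟩

include hn hs h hPL in
lemma sRange : Set.range (XT.ι ≫ inv pL) ⊆ Set.range (RelProj.domQ u pL chartL).ι := by
  rw [Scheme.Opens.range_ι]
  rintro _ ⟨x, rfl⟩
  refine mem_domQ_of_mem u hPL hU hn hs h ?_
  show pL ((inv pL) x.1) ∈ XT
  rw [pL_inv_apply]
  exact x.2

/-- The inclusion of `XT` into `G(u)`. -/
noncomputable def sMap : XT.toScheme ⟶ (RelProj.domQ u pL chartL).toScheme :=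
  IsOpenImmersion.lift _ _ (sRange u hPL hU hn hs h)

@[reassoc]
lemma sMap_ι : sMap u hPL hU hn hs h ≫ (RelProj.domQ u pL chartL).ι = XT.ι ≫ inv pL :=
  IsOpenImmersion.lift_fac _ _ _

instance : IsOpenImmersion (sMap u hPL hU hn hs h) := by
  have : IsOpenImmersion (sMap u hPL hU hn hs h ≫ (RelProj.domQ u pL chartL).ι) := by
    rw [sMap_ι]; infer_instance
  exact IsOpenImmersion.of_comp _ (RelProj.domQ u pL chartL).ι

lemma pL_sMap (x : XT.toScheme) : pL (sMap u hPL hU hn hs h x).1 = x.1 := by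
  have e : (sMap u hPL hU hn hs h x).1 = inv pL x.1 := apply_eq (sMap_ι u hPL hU hn hs h) x
  rw [e]
  exact pL_inv_apply x.1

include hP hPL hr hn hs h in
lemma mem_preimage_iff (x : (RelProj.domQ u pL chartL).toScheme) : r x ∈ nz chart U hU s ↔ pL x.1 ∈ XT := by
  by_cases hx : q (pL x.1) ∈ U
  · obtain ⟨_, ⟨V, hV, rfl⟩, hxV, hle⟩ :=
      X.isBasis_affineOpens.exists_subset_of_mem_open (show pL x.1 ∈ q ⁻¹ᵁ U from hx) (q ⁻¹ᵁ U).isOpen
    rw [mem_preimage_nz_iff u hP hPL hr U hU V hV hle hn hs x hxV, h.mem_iff V hV hle x.1 hxV]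
  · exact ⟨fun h' => absurd ((apply_qMap u hP hPL hr x) ▸ nz_le U hU s h') hx, fun h' => absurd (h.le h') hx⟩

include hP hr in
lemma opensRange_sMap : (sMap u hPL hU hn hs h).opensRange = r ⁻¹ᵁ nz chart U hU s := by
  ext x
  constructor
  · rintro ⟨y, rfl⟩
    refine (mem_preimage_iff u hP hPL hr hU hn hs h _).mpr ?_
    rw [pL_sMap]
    exact y.2
  · intro hx
    refine ⟨⟨_, (mem_preimage_iff u hP hPL hr hU hn hs h x).mp hx⟩, Subtype.ext (pL.isOpenEmbedding.injective ?_)⟩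
    exact pL_sMap u hPL hU hn hs h _

include hP hr in
lemma rRange : Set.range (sMap u hPL hU hn hs h ≫ r) ⊆ Set.range (nzMap chart U hU hn hs) := by
  rintro _ ⟨x, rfl⟩
  exact (opensRange_nzMap U hU hn hs).ge ((opensRange_sMap u hP hPL hr hU hn hs h).le ⟨x, rfl⟩)

/-- The morphism to the chart. -/
noncomputable def toChart : XT.toScheme ⟶ Spec (CommRingCat.of (Away (𝒮.deg U hU) s)) :=
  IsOpenImmersion.lift _ _ (rRange u hP hPL hr hU hn hs h)

@[reassoc]
lemma toChart_fac : toChart u hP hPL hr hU hn hs h ≫ nzMap chart U hU hn hs = sMap u hPL hU hn hs h ≫ r :=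
  IsOpenImmersion.lift_fac _ _ _

include hP hr in
lemma restrict_iff (Q : MorphismProperty Scheme.{u}) [Q.RespectsIso] :
    Q (r ∣_ nz chart U hU s) ↔ Q (toChart u hP hPL hr hU hn hs h) := by
  have hpb := IsOpenImmersion.isPullback (toChart u hP hPL hr hU hn hs h) (sMap u hPL hU hn hs h)
    (nzMap chart U hU hn hs) r (toChart_fac u hP hPL hr hU hn hs h).symm
    (by rw [opensRange_nzMap]; exact (opensRange_sMap u hP hPL hr hU hn hs h).symm)
  rw [Q.arrow_mk_iso_iff (morphismRestrictEq r (opensRange_nzMap U hU hn hs).symm ≪≫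
    morphismRestrictOpensRange r (nzMap chart U hU hn hs)), ← hpb.flip.isoPullback_hom_snd,
    Q.cancel_left_of_respectsIso]

/-- The ring map of the chart. -/
noncomputable def theta : CommRingCat.of (Away (𝒮.deg U hU) s) ⟶ Γ(X, XT) :=
  (Scheme.ΓSpecIso _).inv ≫ (toChart u hP hPL hr hU hn hs h).appTop ≫ XT.topIso.hom

lemma toChart_eq : toChart u hP hPL hr hU hn hs h = XT.toSpecΓ ≫ Spec.map (theta u hP hPL hr hU hn hs h) := by
  rw [theta, Scheme.Opens.toSpecΓ, Category.assoc, ← Spec.map_comp, Category.assoc, Category.assoc,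
    Iso.hom_inv_id, Category.comp_id, Spec.map_comp, ← Scheme.toSpecΓ_naturality_assoc,
    toSpecΓ_SpecMap_ΓSpecIso_inv, Category.comp_id]

lemma theta_isSurjective_of [IsClosedImmersion (toChart u hP hPL hr hU hn hs h)] :
    IsAffineOpen XT ∧ Function.Surjective (theta u hP hPL hr hU hn hs h).hom := by
  obtain ⟨h1, h2⟩ := IsClosedImmersion.isAffine_surjective_of_isAffine (toChart u hP hPL hr hU hn hs h)
  refine ⟨h1, ?_⟩
  simp only [theta, CommRingCat.hom_comp, RingHom.coe_comp]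
  exact ((ConcreteCategory.bijective_of_isIso XT.topIso.hom).2.comp h2).comp
    (ConcreteCategory.bijective_of_isIso (Scheme.ΓSpecIso _).inv).2

theorem isClosedImmersion_restrict_iff :
    IsClosedImmersion (r ∣_ nz chart U hU s) ↔
      IsAffineOpen XT ∧ Function.Surjective (theta u hP hPL hr hU hn hs h).hom := by
  rw [restrict_iff u hP hPL hr hU hn hs h @IsClosedImmersion]
  refine ⟨fun _ => theta_isSurjective_of u hP hPL hr hU hn hs h, fun ⟨h1, h2⟩ => ?_⟩
  have := IsClosedImmersion.spec_of_surjective _ h2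
  rw [toChart_eq, ← h1.isoSpec_hom]
  infer_instance

theorem isIso_restrict_iff :
    IsIso (r ∣_ nz chart U hU s) ↔
      IsAffineOpen XT ∧ Function.Bijective (theta u hP hPL hr hU hn hs h).hom := by
  rw [← MorphismProperty.isomorphisms.iff, restrict_iff u hP hPL hr hU hn hs h (MorphismProperty.isomorphisms _),
    MorphismProperty.isomorphisms.iff]
  refine ⟨fun hi => ⟨isAffine_of_isAffineHom (toChart u hP hPL hr hU hn hs h), ?_⟩, fun ⟨h1, h2⟩ => ?_⟩
  · have : IsIso (Scheme.Hom.appTop (toChart u hP hPL hr hU hn hs h)) := by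
      have : IsIso (toChart u hP hPL hr hU hn hs h) := hi
      exact Functor.map_isIso Scheme.Γ (toChart u hP hPL hr hU hn hs h).op
    simp only [theta, CommRingCat.hom_comp, RingHom.coe_comp]
    exact ((ConcreteCategory.bijective_of_isIso XT.topIso.hom).comp
      (ConcreteCategory.bijective_of_isIso (Scheme.Hom.appTop (toChart u hP hPL hr hU hn hs h)))).comp
      (ConcreteCategory.bijective_of_isIso (Scheme.ΓSpecIso _).inv)
  · have := isIso_SpecMap_iff.mpr h2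
    rw [toChart_eq, ← h1.isoSpec_hom]
    infer_instance

include hPL in
lemma awayEmb_comp {W : X.Opens} (hW : IsAffineOpen W) (hle : W ≤ q ⁻¹ᵁ U) :
    RelProj.awayEmb u pL chartL U hU W hW hle hn s hs ≫ pL =
      Spec.map (𝒮L.strZero W hW ≫ CommRingCat.ofHom (fromZeroRingHom (𝒮L.deg W hW)
        (Submonoid.powers (u.gradedAt U hU W hW hle s)))) ≫ hW.fromSpec := by
  rw [RelProj.awayEmb, Category.assoc, emb_comp hPL, ProjLib.chartBase_ι, Proj.awayι_toSpecZero_assoc,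
    Spec.map_comp, Category.assoc]

/-- The equation of `theta` on an affine open of `XT`. -/
lemma theta_eq {W : X.Opens} (hW : IsAffineOpen W) (hWX : W ≤ XT) :
    theta u hP hPL hr hU hn hs h ≫ X.presheaf.map (homOfLE hWX).op ≫
      𝒮L.strZero W hW ≫ CommRingCat.ofHom (fromZeroRingHom (𝒮L.deg W hW)
        (Submonoid.powers (u.gradedAt U hU W hW (hWX.trans h.le) s))) =
      CommRingCat.ofHom (Away.map (u.gradedAt U hU W hW (hWX.trans h.le)) s) := by
  apply Spec.map_injective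
  have hle := hWX.trans h.le
  have hWr := RelProj.range_awayEmb_subset_domQ u pL chartL U hU W hW hle hn s hs
  have key : IsOpenImmersion.lift (RelProj.domQ u pL chartL).ι (RelProj.awayEmb u pL chartL U hU W hW hle hn s hs) hWr =
      Spec.map (𝒮L.strZero W hW ≫ CommRingCat.ofHom (fromZeroRingHom (𝒮L.deg W hW)
        (Submonoid.powers (u.gradedAt U hU W hW hle s)))) ≫ hW.isoSpec.inv ≫ X.homOfLE hWX ≫ sMap u hPL hU hn hs h := by
    rw [← cancel_mono (RelProj.domQ u pL chartL).ι, IsOpenImmersion.lift_fac]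
    simp only [Category.assoc, sMap_ι, Scheme.homOfLE_ι_assoc, IsAffineOpen.isoSpec_inv_ι_assoc]
    rw [← Category.assoc, IsIso.eq_comp_inv, awayEmb_comp u hPL hU hn hs hW hle]
  have h1 := hr U hU W hW hle n hn s hs hWr
  rw [key] at h1
  simp only [Category.assoc] at h1
  rw [← toChart_fac u hP hPL hr hU hn hs h] at h1
  have h2 : (Spec.map (𝒮L.strZero W hW ≫ CommRingCat.ofHom (fromZeroRingHom (𝒮L.deg W hW)
      (Submonoid.powers (u.gradedAt U hU W hW hle s)))) ≫ hW.isoSpec.inv ≫ X.homOfLE hWX ≫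
        toChart u hP hPL hr hU hn hs h) ≫ nzMap chart U hU hn hs =
      Spec.map (CommRingCat.ofHom (Away.map (u.gradedAt U hU W hW hle) s)) ≫ nzMap chart U hU hn hs := by
    simp only [Category.assoc]
    exact h1
  rw [cancel_mono, toChart_eq, ← Scheme.Opens.toSpecΓ_SpecMap_presheaf_map_assoc W XT hWX,
    IsAffineOpen.isoSpec_inv_toSpecΓ_assoc] at h2
  rw [← h2]
  simp only [Spec.map_comp, Category.assoc]

include hL in
lemma exists_good {x : X} (hx : x ∈ XT) :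
    ∃ (W : X.Opens) (_ : IsAffineOpen W) (g : Γ(L, W)), x ∈ W ∧ W ≤ XT ∧ IsGen L W g := by
  obtain ⟨U₀, hxU₀, g₀, hg₀⟩ := exists_isGen hL x
  obtain ⟨_, ⟨W, hW, rfl⟩, hxW, hle⟩ :=
    X.isBasis_affineOpens.exists_subset_of_mem_open (show x ∈ XT ⊓ U₀ from ⟨hx, hxU₀⟩) (XT ⊓ U₀).isOpen
  exact ⟨W, hW, resM L (fun w hw => (hle hw).2) g₀, hxW, fun w hw => (hle hw).1, hg₀.restrict _⟩

include hj hPL h in
/-- On `XT` the image of `s` is a nonzerodivisor. -/
lemma eq_zero_of_pow_mul {W : X.Opens} (hW : IsAffineOpen W) {g : Γ(L, W)} (hg : IsGen L W g) (hWX : W ≤ XT)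
    (hns : s ∈ 𝒮.deg U hU n) (k i : ℕ) {x : 𝒮L.presheaf.obj (op W)} (hx : x ∈ 𝒮L.deg W hW i)
    (hkx : (u.gradedAt U hU W hW (hWX.trans h.le) s) ^ k * x = 0) : x = 0 := by
  obtain ⟨c, hc⟩ : ∃ c : Γ(X, W), (𝒮L.str.app (op W)).hom c * (show 𝒮L.presheaf.obj (op W) from j.app W g) ^ n =
      u.gradedAt U hU W hW (hWX.trans h.le) s :=
    exists_eq_mul_pow hj hW hg n (Graded.map_mem (u.gradedAt U hU W hW (hWX.trans h.le)) hns)
  have hcu : IsUnit c := by
    refine X.toRingedSpace.isUnit_of_isUnit_germ W c fun x hx => ?_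
    refine (Scheme.mem_basicOpen X c x hx).mp ?_
    rw [← pL_inv_apply (pL := pL) x]
    have hz : pL ((inv pL) x) ∈ W := by rw [pL_inv_apply]; exact hx
    refine (mem_nz_str_iff hPL W hW c hz).mp ?_
    obtain ⟨y, hy, hyz⟩ := (h.mem_iff W hW (hWX.trans h.le) _ hz).mp (hWX hz)
    refine ⟨y, fun hc' => hy ?_, hyz⟩
    show u.gradedAt U hU W hW (hWX.trans h.le) s ∈ y.asHomogeneousIdeal.toIdeal
    rw [← hc]
    exact Ideal.mul_mem_right _ _ hc'
  obtain ⟨a, ha⟩ := exists_eq_mul_pow hj hW hg i hx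
  rw [← hc, ← ha, mul_pow, ← pow_mul, mul_mul_mul_comm, ← pow_add, ← map_pow, ← map_mul] at hkx
  have h0 := eq_zero_of_str_mul_pow hj hW hg _ hkx
  rw [← ha, (hcu.pow k).mul_right_eq_zero.mp h0, map_zero, zero_mul]

include hj hL in
lemma sheaf_ext {a b : 𝒮L.presheaf.obj (op XT)}
    (hab : ∀ (W : X.Opens) (_ : IsAffineOpen W) (g : Γ(L, W)) (hWX : W ≤ XT), IsGen L W g →
      (𝒮L.presheaf.map (homOfLE hWX).op).hom a = (𝒮L.presheaf.map (homOfLE hWX).op).hom b) : a = b := by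
  choose W hW g hxW hWX hg using fun x : XT => exists_good hL (XT := XT) x.2
  exact TopCat.Sheaf.eq_of_locally_eq' (SymAlgLib.abSheaf 𝒮L.toQCAlg) W XT (fun x => homOfLE (hWX x))
    (fun x hx => Opens.mem_iSup.mpr ⟨⟨x, hx⟩, hxW ⟨x, hx⟩⟩) a b fun x => hab (W x) (hW x) (g x) (hWX x) (hg x)

include hj hL in
/-- `theta` sends `s' / s ^ m` to the function `t` with `t * f ^ m = f'`. -/
theorem theta_mk_eq_iff (m : ℕ) (s' : 𝒮.presheaf.obj (op U)) (hs' : s' ∈ 𝒮.deg U hU (m • n)) (t : Γ(X, XT)) :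
    (theta u hP hPL hr hU hn hs h).hom (Away.mk (𝒮.deg U hU) hs m s' hs') = t ↔
      (𝒮L.str.app (op XT)).hom t * ((u.appLE U XT h.le).hom s) ^ m = (u.appLE U XT h.le).hom s' := by
  let c := (theta u hP hPL hr hU hn hs h).hom (Away.mk (𝒮.deg U hU) hs m s' hs')
  have hus : ∀ (W : X.Opens) (hW : IsAffineOpen W) (hWX : W ≤ XT) (v : 𝒮.presheaf.obj (op U)),
      (𝒮L.presheaf.map (homOfLE hWX).op).hom ((u.appLE U XT h.le).hom v) =
        u.gradedAt U hU W hW (hWX.trans h.le) v :=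
    fun W hW hWX v => ConcreteCategory.congr_hom (u.appLE_map h.le hWX) v
  have hstr : ∀ (W : X.Opens) (hWX : W ≤ XT) (v : Γ(X, XT)),
      (𝒮L.presheaf.map (homOfLE hWX).op).hom ((𝒮L.str.app (op XT)).hom v) =
        (𝒮L.str.app (op W)).hom ((X.presheaf.map (homOfLE hWX).op).hom v) :=
    fun W hWX v => (ConcreteCategory.congr_hom (𝒮L.str.naturality (homOfLE hWX).op) v).symm
  have hloc : ∀ (W : X.Opens) (hW : IsAffineOpen W) (g : Γ(L, W)) (hWX : W ≤ XT), IsGen L W g →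
      (𝒮L.str.app (op W)).hom ((X.presheaf.map (homOfLE hWX).op).hom c) *
        (u.gradedAt U hU W hW (hWX.trans h.le) s) ^ m = u.gradedAt U hU W hW (hWX.trans h.le) s' := by
    intro W hW g hWX hg
    let ψ := u.gradedAt U hU W hW (hWX.trans h.le)
    have h1 := congrArg HomogeneousLocalization.val (ConcreteCategory.congr_hom
      (theta_eq u hP hPL hr hU hn hs h hW hWX) (Away.mk (𝒮.deg U hU) hs m s' hs'))
    simp only [CommRingCat.hom_comp, CommRingCat.hom_ofHom, RingHom.comp_apply] at h1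
    erw [Away.map_mk] at h1
    rw [Away.val_mk] at h1
    change Localization.mk ((𝒮L.str.app (op W)).hom ((X.presheaf.map (homOfLE hWX).op).hom c))
      ⟨1, _⟩ = _ at h1
    rw [Localization.mk_eq_mk_iff, Localization.r_iff_exists] at h1
    obtain ⟨⟨_, k, rfl⟩, h1⟩ := h1
    simp only [one_mul] at h1
    refine sub_eq_zero.mp (eq_zero_of_pow_mul hj u hPL hU h hW hg hWX hs k (m • n) ?_ ?_)
    · refine sub_mem ?_ (Graded.map_mem ψ hs')
      have := SetLike.mul_mem_graded (𝒮L.str_mem W hW ((X.presheaf.map (homOfLE hWX).op).hom c))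
        (SetLike.pow_mem_graded m (Graded.map_mem ψ hs))
      rwa [zero_add] at this
    · linear_combination h1
  constructor
  · rintro rfl
    refine sheaf_ext hj hL fun W hW g hWX hg => ?_
    rw [map_mul, map_pow, hus W hW, hus W hW, hstr]
    exact hloc W hW g hWX hg
  · intro ht
    choose W hW g hxW hWX hg using fun x : XT => exists_good hL (XT := XT) x.2
    refine TopCat.Sheaf.eq_of_locally_eq' X.sheaf W XT (fun x => homOfLE (hWX x))
      (fun x hx => Opens.mem_iSup.mpr ⟨⟨x, hx⟩, hxW ⟨x, hx⟩⟩) c t fun x => ?_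
    have h1 := congrArg (𝒮L.presheaf.map (homOfLE (hWX x)).op).hom ht
    rw [map_mul, map_pow, hus (W x) (hW x), hus (W x) (hW x), hstr] at h1
    have h2 := (hloc (W x) (hW x) (g x) (hWX x) (hg x)).trans h1.symm
    let a : Γ(X, W x) := (X.presheaf.map (homOfLE (hWX x)).op).hom c - (X.presheaf.map (homOfLE (hWX x)).op).hom t
    have h3 : (𝒮L.str.app (op (W x))).hom a = 0 := by
      refine eq_zero_of_pow_mul hj u hPL hU h (hW x) (hg x) (hWX x) hs m 0 (𝒮L.str_mem _ _ _) ?_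
      rw [map_sub]
      linear_combination h2
    refine sub_eq_zero.mp (eq_zero_of_str_mul_pow hj (hW x) (hg x) (b := a) 0 ?_)
    rw [h3, zero_mul]

lemma exists_mk_pos (z : Away (𝒮.deg U hU) s) :
    ∃ (m : ℕ) (_ : 0 < m) (s' : 𝒮.presheaf.obj (op U)) (hs' : s' ∈ 𝒮.deg U hU (m • n)),
      Away.mk (𝒮.deg U hU) hs m s' hs' = z := by
  obtain ⟨m, s', hs', rfl⟩ := Away.mk_surjective (𝒮.deg U hU) hs z
  have hm : s * s' ∈ 𝒮.deg U hU ((m + 1) • n) := by
    rw [add_smul, one_smul, add_comm]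
    exact SetLike.mul_mem_graded hs hs'
  refine ⟨m + 1, m.succ_pos, s * s', hm, ?_⟩
  apply HomogeneousLocalization.val_injective
  rw [Away.val_mk, Away.val_mk, Localization.mk_eq_mk_iff, Localization.r_iff_exists]
  exact ⟨1, by simp; ring⟩

include hj hL in
theorem surjective_theta_iff :
    Function.Surjective (theta u hP hPL hr hU hn hs h).hom ↔
      ∀ t : Γ(X, XT), ∃ (m : ℕ) (_ : 0 < m) (s' : 𝒮.presheaf.obj (op U)) (_ : s' ∈ 𝒮.deg U hU (m * n)),
        (𝒮L.str.app (op XT)).hom t * ((u.appLE U XT h.le).hom s) ^ m = (u.appLE U XT h.le).hom s' := by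
  constructor
  · intro hsurj t
    obtain ⟨z, hz⟩ := hsurj t
    obtain ⟨m, hm, s', hs', rfl⟩ := exists_mk_pos hU hs z
    exact ⟨m, hm, s', by simpa using hs', (theta_mk_eq_iff hj hL u hP hPL hr hU hn hs h m s' hs' t).mp hz⟩
  · intro hex t
    obtain ⟨m, -, s', hs', he⟩ := hex t
    exact ⟨_, (theta_mk_eq_iff hj hL u hP hPL hr hU hn hs h m s' (by simpa using hs') t).mpr he⟩

include hj hL in
theorem injective_theta_iff :
    Function.Injective (theta u hP hPL hr hU hn hs h).hom ↔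
      ∀ m : ℕ, 0 < m → ∀ s' ∈ 𝒮.deg U hU (m * n), (u.appLE U XT h.le).hom s' = 0 →
        ∃ k : ℕ, 0 < k ∧ s ^ k * s' = 0 := by
  rw [injective_iff_map_eq_zero]
  constructor
  · intro hinj m _ s' hs' h0
    have h1 := congrArg HomogeneousLocalization.val (hinj (Away.mk (𝒮.deg U hU) hs m s' (by simpa using hs'))
      ((theta_mk_eq_iff hj hL u hP hPL hr hU hn hs h m s' (by simpa using hs') 0).mpr (by simp [h0])))
    rw [Away.val_mk, HomogeneousLocalization.val_zero, ← Localization.mk_zero 1, Localization.mk_eq_mk_iff,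
      Localization.r_iff_exists] at h1
    obtain ⟨⟨_, k, rfl⟩, h1⟩ := h1
    refine ⟨k + 1, k.succ_pos, ?_⟩
    simp at h1
    rw [pow_succ, mul_right_comm, h1, zero_mul]
  · intro hex z hz
    obtain ⟨m, hm, s', hs', rfl⟩ := exists_mk_pos hU hs z
    have h0 := (theta_mk_eq_iff hj hL u hP hPL hr hU hn hs h m s' hs' 0).mp hz
    rw [map_zero, zero_mul] at h0
    obtain ⟨k, -, hk⟩ := hex m hm s' (by simpa using hs') h0.symm
    apply HomogeneousLocalization.val_injective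
    rw [Away.val_mk, HomogeneousLocalization.val_zero, ← Localization.mk_zero 1, Localization.mk_eq_mk_iff,
      Localization.r_iff_exists]
    exact ⟨⟨s ^ k, k, rfl⟩, by simpa using hk⟩

end crit

section assemble

variable {A B : Scheme.{u}} (f : A ⟶ B) {ι : Type u} (V : ι → B.Opens)

lemma exists_fac_of_cover (hcov : (⨆ a, f ⁻¹ᵁ V a) = ⊤) :
    ∃ (e : A ⟶ (f ⁻¹ᵁ iSup V).toScheme), IsIso e ∧ e ≫ (f ∣_ iSup V) ≫ (iSup V).ι = f := by
  have hO : f ⁻¹ᵁ iSup V = ⊤ := by rw [Scheme.Hom.preimage_iSup, hcov]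
  have : IsIso (f ⁻¹ᵁ iSup V).ι := by
    have : IsIso (⊤ : A.Opens).ι := A.topIso.isIso_hom
    rw [← Scheme.isoOfEq_hom_ι A hO]
    infer_instance
  exact ⟨inv (f ⁻¹ᵁ iSup V).ι, inferInstance, by rw [morphismRestrict_ι, IsIso.inv_hom_id_assoc]⟩

lemma property_restrict_iSup (Q : MorphismProperty Scheme.{u}) [IsZariskiLocalAtTarget Q]
    (hV : ∀ a, Q (f ∣_ V a)) : Q (f ∣_ iSup V) := by
  refine IsZariskiLocalAtTarget.of_iSup_eq_top (fun a => (iSup V).ι ⁻¹ᵁ V a)
    (eq_top_iff.mpr fun x _ => ?_) fun a => ?_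
  · obtain ⟨a, ha⟩ := Opens.mem_iSup.mp x.2
    exact Opens.mem_iSup.mpr ⟨a, ha⟩
  · refine (Q.arrow_mk_iso_iff (morphismRestrictRestrict f (iSup V) _ ≪≫ morphismRestrictEq f ?_)).mpr (hV a)
    rw [Scheme.Hom.image_preimage_eq_opensRange_inf, Scheme.Opens.opensRange_ι]
    exact inf_eq_right.mpr (le_iSup V a)

theorem isImmersion_of_cover (hcov : (⨆ a, f ⁻¹ᵁ V a) = ⊤) (hV : ∀ a, IsClosedImmersion (f ∣_ V a)) :
    IsImmersion f := by
  obtain ⟨e, he, hfac⟩ := exists_fac_of_cover f V hcov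
  have := property_restrict_iSup f V @IsClosedImmersion hV
  rw [← hfac]
  infer_instance

theorem isOpenImmersion_of_cover (hcov : (⨆ a, f ⁻¹ᵁ V a) = ⊤) (hV : ∀ a, IsIso (f ∣_ V a)) :
    IsOpenImmersion f := by
  obtain ⟨e, he, hfac⟩ := exists_fac_of_cover f V hcov
  have : IsIso (f ∣_ iSup V) := property_restrict_iSup f V (MorphismProperty.isomorphisms _) hV
  rw [← hfac]
  infer_instance

theorem isClosedImmersion_restrict_of_le [IsImmersion f] {W : B.Opens} (hW : W ≤ f.coborderRange) :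
    IsClosedImmersion (f ∣_ W) := by
  refine .of_isPreimmersion _ ?_
  have : Set.range (f ∣_ W) = W.ι ⁻¹' closure (Set.range f) := by
    ext x
    constructor
    · rintro ⟨y, rfl⟩
      exact subset_closure ⟨y.1, (apply_eq (morphismRestrict_ι f W) y).symm⟩
    · intro hx
      obtain ⟨a, ha⟩ : x.1 ∈ Set.range f := by
        rw [← coborder_inter_closure (s := Set.range f)]
        exact ⟨hW x.2, hx⟩
      refine ⟨⟨a, show f a ∈ W from ha.symm ▸ x.2⟩, Subtype.ext ?_⟩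
      exact (apply_eq (morphismRestrict_ι f W) _).trans ha
  rw [this]
  exact isClosed_closure.preimage W.ι.continuous

theorem isIso_restrict_of_le [IsOpenImmersion f] {W : B.Opens} (hW : W ≤ f.opensRange) : IsIso (f ∣_ W) := by
  rw [isIso_iff_isOpenImmersion_and_surjective]
  refine ⟨IsZariskiLocalAtTarget.restrict ‹_› W, ⟨fun x => ?_⟩⟩
  obtain ⟨a, ha⟩ := hW x.2
  exact ⟨⟨a, show f a ∈ W from ha.symm ▸ x.2⟩, Subtype.ext ((apply_eq (morphismRestrict_ι f W) _).trans ha)⟩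

end assemble

end Groth.Agent.QProj
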