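import Groth.Prelude.Def_RelProj4
import Groth.Agent.ProjLib.RelProjBasics
import Groth.Agent.ProjLib.DomMap

/-!
# Charts of the open `G(u)` of a graded morphism over a morphism of bases
-/

set_option linter.unusedSectionVars false
set_option autoImplicit false

namespace Groth.Agent.QProj

open CategoryTheory CategoryTheory.Limits AlgebraicGeometry TopologicalSpace Opposite
open scoped HomogeneousIdeal
open Groth.Agent.ProjLib (exists_homogeneous_notMem exists_image_notMem)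

universe u

variable {S P : Scheme.{u}} {𝒮 : RelProj.QCGrAlg S} {p : P ⟶ S}
  {chart : ∀ (U : S.Opens) (hU : IsAffineOpen U),
    (((p ⁻¹ᵁ U : P.Opens) : Scheme.{u}) ≅ Proj (𝒮.deg U hU))}

lemma irrelevant_le_res {U V : S.Opens} (hU : IsAffineOpen U) (hV : IsAffineOpen V) (i : V ≤ U)
    (h : ∃ r : Γ(S, U), V = S.basicOpen r) :
    (𝒮.deg V hV)₊ ≤ ((𝒮.deg U hU)₊).map (𝒮.res hU hV i) := by
  obtain ⟨r, rfl⟩ := h
  exact 𝒮.irrelevant_le_map U hU r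

lemma basic_trans {U V W : S.Opens} (hU : IsAffineOpen U) (h : ∃ r : Γ(S, U), V = S.basicOpen r)
    (h' : ∃ r : Γ(S, V), W = S.basicOpen r) : ∃ r : Γ(S, U), W = S.basicOpen r := by
  obtain ⟨r, rfl⟩ := h
  obtain ⟨s, rfl⟩ := h'
  obtain ⟨f, hf⟩ := hU.basicOpen_basicOpen_is_basicOpen r s
  exact ⟨f, hf.symm⟩

/-- A basic open of two affine opens around a point, inside a given open. -/
lemma exists_common_basic {U V : S.Opens} (hU : IsAffineOpen U) (hV : IsAffineOpen V) (O : S.Opens)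
    {x : S} (hxU : x ∈ U) (hxV : x ∈ V) (hxO : x ∈ O) :
    ∃ (W : S.Opens) (_ : IsAffineOpen W), x ∈ W ∧ W ≤ U ∧ W ≤ V ∧ W ≤ O ∧
      (∃ r : Γ(S, U), W = S.basicOpen r) ∧ ∃ r : Γ(S, V), W = S.basicOpen r := by
  obtain ⟨r, hr, hxr⟩ := hU.exists_basicOpen_le (V := V ⊓ O) ⟨x, hxV, hxO⟩ hxU
  obtain ⟨a, b, hab, hxa⟩ := exists_basicOpen_le_affine_inter (hU.basicOpen r) hV x ⟨hxr, hxV⟩
  have hle : S.basicOpen a ≤ S.basicOpen r := S.basicOpen_le a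
  exact ⟨S.basicOpen a, (hU.basicOpen r).basicOpen a, hxa, hle.trans (S.basicOpen_le r),
    (hle.trans hr).trans inf_le_left, (hle.trans hr).trans inf_le_right,
    basic_trans hU ⟨r, rfl⟩ ⟨a, rfl⟩, b, hab⟩

lemma res_comp {U V W : S.Opens} (hU : IsAffineOpen U) (hV : IsAffineOpen V) (hW : IsAffineOpen W)
    (i : V ≤ U) (j : W ≤ V) (x : 𝒮.presheaf.obj (op U)) :
    𝒮.res hV hW j (𝒮.res hU hV i x) = 𝒮.res hU hW (j.trans i) x :=
  (ConcreteCategory.congr_hom (𝒮.presheaf.map_comp (homOfLE i).op (homOfLE j).op) x).symm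

lemma range_emb (U : S.Opens) (hU : IsAffineOpen U) :
    (RelProj.emb p chart U hU).opensRange = p ⁻¹ᵁ U := by
  show ((chart U hU).inv ≫ (p ⁻¹ᵁ U).ι).opensRange = _
  rw [Scheme.Hom.opensRange_comp_of_isIso, Scheme.Opens.opensRange_ι]

variable (chart) in
/-- The open where a homogeneous element is invertible, transported to `P`. -/
noncomputable def nz (U : S.Opens) (hU : IsAffineOpen U) (t : 𝒮.presheaf.obj (op U)) : P.Opens :=
  RelProj.emb p chart U hU ''ᵁ Proj.basicOpen (𝒮.deg U hU) t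

lemma nz_le (U : S.Opens) (hU : IsAffineOpen U) (t : 𝒮.presheaf.obj (op U)) : nz chart U hU t ≤ p ⁻¹ᵁ U :=
  (Scheme.Hom.image_le_opensRange _ _).trans (range_emb U hU).le

variable (hP : RelProj.IsRelProj 𝒮 p chart)
include hP

lemma map_res_emb {U V : S.Opens} (hU : IsAffineOpen U) (hV : IsAffineOpen V) (i : V ≤ U)
    (h : ∃ r : Γ(S, U), V = S.basicOpen r) :
    Proj.map (𝒮.res hU hV i) (irrelevant_le_res hU hV i h) ≫ RelProj.emb p chart U hU =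
      RelProj.emb p chart V hV := by
  obtain ⟨r, rfl⟩ := h
  exact RelProj.map_res_emb hP U hU r

lemma nz_res_of_basic {U V : S.Opens} (hU : IsAffineOpen U) (hV : IsAffineOpen V) (i : V ≤ U)
    (h : ∃ r : Γ(S, U), V = S.basicOpen r) (t : 𝒮.presheaf.obj (op U)) :
    nz chart V hV (𝒮.res hU hV i t) = nz chart U hU t ⊓ p ⁻¹ᵁ V := by
  rw [nz, nz, ← Proj.map_preimage_basicOpen _ (irrelevant_le_res hU hV i h)]
  ext z
  constructor
  · rintro ⟨y, hy, rfl⟩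
    refine ⟨⟨Proj.map (𝒮.res hU hV i) (irrelevant_le_res hU hV i h) y, hy, ?_⟩, ?_⟩
    · exact ConcreteCategory.congr_hom (congrArg (fun k => k.base) (map_res_emb hP hU hV i h)) y
    · exact (range_emb V hV).le ⟨y, rfl⟩
  · rintro ⟨⟨w, hw, rfl⟩, hz⟩
    obtain ⟨y, hy⟩ := (range_emb (p := p) (chart := chart) V hV).ge hz
    have he : Proj.map (𝒮.res hU hV i) (irrelevant_le_res hU hV i h) y = w := by
      apply (RelProj.emb p chart U hU).isOpenEmbedding.injective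
      exact (ConcreteCategory.congr_hom (congrArg (fun k => k.base) (map_res_emb hP hU hV i h)) y).trans hy
    exact ⟨y, by show _ ∈ Proj.basicOpen _ t; rw [he]; exact hw, hy⟩

lemma mem_nz_res_iff {U V : S.Opens} (hU : IsAffineOpen U) (hV : IsAffineOpen V) (i : V ≤ U)
    (t : 𝒮.presheaf.obj (op U)) {z : P} (hz : p z ∈ V) :
    z ∈ nz chart V hV (𝒮.res hU hV i t) ↔ z ∈ nz chart U hU t := by
  obtain ⟨W, hW, hzW, hWU, hWV, -, hbU, hbV⟩ := exists_common_basic hU hV ⊤ (i hz) hz (Set.mem_univ _)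
  have h1 := nz_res_of_basic hP hV hW hWV hbV (𝒮.res hU hV i t)
  have h2 := nz_res_of_basic hP hU hW hWU hbU t
  rw [res_comp hU hV hW i hWV t, h2] at h1
  have h3 := SetLike.ext_iff.mp h1 z
  exact ⟨fun h => (h3.mpr ⟨h, hzW⟩).1, fun h => (h3.mp ⟨h, hzW⟩).1⟩

omit hP

section pair

variable {S' P' : Scheme.{u}} {g : S' ⟶ S} {𝒮' : RelProj.QCGrAlg S'} (u : RelProj.QGrHom g 𝒮 𝒮')
  {p' : P' ⟶ S'} {chart' : ∀ (U' : S'.Opens) (hU' : IsAffineOpen U'),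
    (((p' ⁻¹ᵁ U' : P'.Opens) : Scheme.{u}) ≅ Proj (𝒮'.deg U' hU'))}
  (hP' : RelProj.IsRelProj 𝒮' p' chart')

lemma gradedAt_res_left {U V : S.Opens} (hU : IsAffineOpen U) (hV : IsAffineOpen V) (i : V ≤ U)
    {U' : S'.Opens} (hU' : IsAffineOpen U') (hle : U' ≤ g ⁻¹ᵁ V) (x : 𝒮.presheaf.obj (op U)) :
    u.gradedAt V hV U' hU' hle (𝒮.res hU hV i x) =
      u.gradedAt U hU U' hU' (hle.trans (g.preimage_mono i)) x :=
  ConcreteCategory.congr_hom (u.map_appLE i hle) x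

lemma gradedAt_res_right {U : S.Opens} (hU : IsAffineOpen U) {U' V' : S'.Opens} (hU' : IsAffineOpen U')
    (hV' : IsAffineOpen V') (hle : U' ≤ g ⁻¹ᵁ U) (i : V' ≤ U') (x : 𝒮.presheaf.obj (op U)) :
    𝒮'.res hU' hV' i (u.gradedAt U hU U' hU' hle x) = u.gradedAt U hU V' hV' (i.trans hle) x :=
  ConcreteCategory.congr_hom (u.appLE_map hle i) x

lemma mem_emb_domOpen_iff (U : S.Opens) (hU : IsAffineOpen U) (U' : S'.Opens) (hU' : IsAffineOpen U')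
    (hle : U' ≤ g ⁻¹ᵁ U) (z : P') :
    z ∈ RelProj.emb p' chart' U' hU' ''ᵁ RelCone.domOpen (u.gradedAt U hU U' hU' hle) ↔
      ∃ (d : ℕ) (_ : 0 < d) (f : 𝒮.presheaf.obj (op U)), f ∈ 𝒮.deg U hU d ∧
        z ∈ nz chart' U' hU' (u.gradedAt U hU U' hU' hle f) := by
  constructor
  · rintro ⟨y, hy, rfl⟩
    obtain ⟨d, hd, f, hf, hfy⟩ := exists_homogeneous_notMem _ (x := y) hy
    exact ⟨d, hd, f, hf, y, hfy, rfl⟩
  · rintro ⟨d, hd, f, hf, y, hy, rfl⟩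
    exact ⟨y, (RelCone.mem_domOpen _ _).mpr ⟨f, HomogeneousIdeal.mem_irrelevant_of_mem _ hd hf, hy⟩, rfl⟩

include hP' in
/-- A nonvanishing witness over a smaller pair gives one over a larger pair. -/
lemma exists_nz_of_basic {U V : S.Opens} (hU : IsAffineOpen U) (hV : IsAffineOpen V) (i : V ≤ U)
    (h : ∃ r : Γ(S, U), V = S.basicOpen r) {U' V' : S'.Opens} (hU' : IsAffineOpen U') (hV' : IsAffineOpen V')
    (i' : V' ≤ U') (hleU : U' ≤ g ⁻¹ᵁ U) (hleV : V' ≤ g ⁻¹ᵁ V) {z : P'} (hz : p' z ∈ V')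
    (hw : ∃ (d : ℕ) (_ : 0 < d) (f : 𝒮.presheaf.obj (op V)), f ∈ 𝒮.deg V hV d ∧
        z ∈ nz chart' V' hV' (u.gradedAt V hV V' hV' hleV f)) :
    ∃ (d : ℕ) (_ : 0 < d) (f : 𝒮.presheaf.obj (op U)), f ∈ 𝒮.deg U hU d ∧
        z ∈ nz chart' U' hU' (u.gradedAt U hU U' hU' hleU f) := by
  obtain ⟨d, hd, f, hf, y, hy, rfl⟩ := hw
  have hy' : y ∈ RelCone.domOpen (u.gradedAt V hV V' hV' hleV) :=
    (RelCone.mem_domOpen _ _).mpr ⟨f, HomogeneousIdeal.mem_irrelevant_of_mem _ hd hf, hy⟩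
  obtain ⟨e, he, f₁, hf₁, hy₁⟩ := exists_image_notMem _ (𝒮.res hU hV i) (irrelevant_le_res hU hV i h) hy'
  refine ⟨e, he, f₁, hf₁, ?_⟩
  rw [← mem_nz_res_iff hP' hU' hV' i' _ hz, gradedAt_res_right u hU hU' hV' hleU i',
    ← gradedAt_res_left u hU hV i hV' hleV]
  exact ⟨y, hy₁, rfl⟩

include hP' in
/-- The open `G(u)` over an affine pair. -/
theorem mem_domQ_iff (U : S.Opens) (hU : IsAffineOpen U) (U' : S'.Opens) (hU' : IsAffineOpen U')
    (hle : U' ≤ g ⁻¹ᵁ U) {z : P'} (hz : p' z ∈ U') :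
    z ∈ RelProj.domQ u p' chart' ↔ ∃ (d : ℕ) (_ : 0 < d) (f : 𝒮.presheaf.obj (op U)), f ∈ 𝒮.deg U hU d ∧
        z ∈ nz chart' U' hU' (u.gradedAt U hU U' hU' hle f) := by
  constructor
  · intro h
    obtain ⟨⟨⟨⟨V, hV⟩, ⟨V', hV'⟩⟩, hleV⟩, hmem⟩ := Opens.mem_iSup.mp h
    obtain ⟨d, hd, f, hf, hzf⟩ := (mem_emb_domOpen_iff u V hV V' hV' hleV z).mp hmem
    have hzV : p' z ∈ V' := nz_le V' hV' _ hzf
    obtain ⟨W, hW, hgW, hWU, hWV, -, hbU, hbV⟩ :=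
      exists_common_basic hU hV ⊤ (show g (p' z) ∈ U from hle hz) (hleV hzV) (Set.mem_univ _)
    obtain ⟨W', hW', hzW', hWU', hWV', hWW, -, -⟩ :=
      exists_common_basic hU' hV' (g ⁻¹ᵁ W) hz hzV hgW
    refine exists_nz_of_basic u hP' hU hW hWU hbU hU' hW' hWU' hle hWW hzW' ⟨d, hd, 𝒮.res hV hW hWV f,
      𝒮.map_mem hV hW hWV hf, ?_⟩
    rw [gradedAt_res_left u hV hW hWV hW' hWW, ← gradedAt_res_right u hV hV' hW' hleV hWV',
      mem_nz_res_iff hP' hV' hW' hWV' _ hzW']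
    exact hzf
  · intro h
    exact Opens.mem_iSup.mpr ⟨⟨(⟨U, hU⟩, ⟨U', hU'⟩), hle⟩, (mem_emb_domOpen_iff u U hU U' hU' hle z).mpr h⟩

include hP' in
theorem domQ_inf_preimage (U : S.Opens) (hU : IsAffineOpen U) (U' : S'.Opens) (hU' : IsAffineOpen U')
    (hle : U' ≤ g ⁻¹ᵁ U) :
    RelProj.domQ u p' chart' ⊓ p' ⁻¹ᵁ U' =
      RelProj.emb p' chart' U' hU' ''ᵁ RelCone.domOpen (u.gradedAt U hU U' hU' hle) := by
  ext z
  constructor
  · rintro ⟨h1, h2⟩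
    exact (mem_emb_domOpen_iff u U hU U' hU' hle z).mpr ((mem_domQ_iff u hP' U hU U' hU' hle h2).mp h1)
  · intro h
    exact ⟨Opens.mem_iSup.mpr ⟨⟨(⟨U, hU⟩, ⟨U', hU'⟩), hle⟩, h⟩,
      ((Scheme.Hom.image_le_opensRange _ _).trans (range_emb U' hU').le) h⟩

end pair

end Groth.Agent.QProj
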