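import Groth.Agent.ProjLib.QMapHom
import Groth.Agent.ProjLib.GenDegOne
import Groth.Agent.RelVALib.UPApps

/-!
# Nonvanishing loci of homogeneous sections on the `Proj` of the algebra of an invertible module
-/

set_option linter.unusedSectionVars false
set_option autoImplicit false
set_option backward.isDefEq.respectTransparency.types false

namespace Groth.Agent.QProj

open CategoryTheory CategoryTheory.Limits AlgebraicGeometry TopologicalSpace Opposite HomogeneousLocalization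
open scoped HomogeneousIdeal
open Groth.Agent.Coherent Groth.Agent.PicLib Groth.Agent.AmpleLib

universe u

section ring

variable {σ A : Type u} [CommRing A] [SetLike σ A] [AddSubgroupClass σ A] (𝒜 : ℕ → σ) [GradedRing 𝒜]

lemma mem_toSpecZero_preimage_iff (a : 𝒜 0) (z : Proj 𝒜) :
    Proj.toSpecZero 𝒜 z ∈ PrimeSpectrum.basicOpen a ↔ z ∈ Proj.basicOpen 𝒜 (a : A) := by
  obtain ⟨⟨⟨d, hd⟩, f, hf⟩, hzf⟩ := Opens.mem_iSup.mp
    ((ProjLib.iSup_basicOpen_pos (𝒜 := 𝒜)).ge (Set.mem_univ z))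
  obtain ⟨y, rfl⟩ := (Proj.opensRange_awayι 𝒜 f hf hd).ge hzf
  have h1 : Proj.toSpecZero 𝒜 (Proj.awayι 𝒜 f hf hd y) =
      Spec.map (CommRingCat.ofHom (fromZeroRingHom 𝒜 (Submonoid.powers f))) y :=
    apply_eq (Proj.awayι_toSpecZero 𝒜 f hf hd) y
  have haf : (a : A) * f ∈ 𝒜 d := by
    have := SetLike.mul_mem_graded a.2 hf
    rwa [zero_add] at this
  have h2 := SetLike.ext_iff.mp (Proj.awayι_preimage_basicOpen 𝒜 hf hd haf hd) y
  have h3 : fromZeroRingHom 𝒜 (Submonoid.powers f) a ^ d = Away.isLocalizationElem hf haf := by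
    apply HomogeneousLocalization.val_injective
    rw [HomogeneousLocalization.val_pow, Away.isLocalizationElem, Away.val_mk]
    show (Localization.mk (a : A) ⟨1, _⟩) ^ d = _
    rw [Localization.mk_pow, Localization.mk_eq_mk_iff, Localization.r_iff_exists]
    exact ⟨1, by simp [mul_pow]; ring⟩
  rw [h1]
  constructor
  · intro h
    have h4 : Away.isLocalizationElem hf haf ∉ y.asIdeal := by
      rw [← h3]
      exact fun hc => h (y.isPrime.mem_of_pow_mem _ hc)
    have h5 : Proj.awayι 𝒜 f hf hd y ∈ Proj.basicOpen 𝒜 ((a : A) * f) := h2.mpr h4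
    rw [Proj.basicOpen_mul] at h5
    exact h5.1
  · intro h hc
    have h5 : Proj.awayι 𝒜 f hf hd y ∈ Proj.basicOpen 𝒜 ((a : A) * f) := by
      rw [Proj.basicOpen_mul]
      exact ⟨h, hzf⟩
    refine h2.mp h5 ?_
    rw [← h3]
    exact y.asIdeal.pow_mem_of_mem hc d hd

end ring

variable {X PL : Scheme.{u}} {L : X.Modules} {𝒮L : RelProj.QCGrAlg X} {j : L ⟶ 𝒮L.toModule}
  [Coh.IsQCoh L] (hj : RelProj.IsGrSymAlg L 𝒮L j) {pL : PL ⟶ X}
  {chartL : ∀ (U : X.Opens) (hU : IsAffineOpen U), (((pL ⁻¹ᵁ U : PL.Opens) : Scheme.{u}) ≅ Proj (𝒮L.deg U hU))}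
  (hPL : RelProj.IsRelProj 𝒮L pL chartL)

include hPL in
/-- Scalars: nonvanishing is the preimage of the basic open. -/
lemma mem_nz_str_iff (U : X.Opens) (hU : IsAffineOpen U) (r : Γ(X, U)) {z : PL} (hz : pL z ∈ U) :
    z ∈ nz chartL U hU ((𝒮L.str.app (op U)).hom r) ↔ pL z ∈ X.basicOpen r := by
  obtain ⟨y, rfl⟩ := (range_emb (p := pL) (chart := chartL) U hU).ge hz
  have h1 : pL (RelProj.emb pL chartL U hU y) =
      hU.fromSpec (Spec.map (𝒮L.strZero U hU) (Proj.toSpecZero (𝒮L.deg U hU) y)) := by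
    refine (apply_eq (emb_comp hPL U hU) y).trans ?_
    exact apply_eq (ProjLib.chartBase_ι U hU) y
  rw [h1, show (hU.fromSpec (Spec.map (𝒮L.strZero U hU) (Proj.toSpecZero (𝒮L.deg U hU) y)) ∈ X.basicOpen r) =
    (Spec.map (𝒮L.strZero U hU) (Proj.toSpecZero (𝒮L.deg U hU) y) ∈ hU.fromSpec ⁻¹ᵁ X.basicOpen r) from rfl,
    hU.fromSpec_preimage_basicOpen]
  refine Iff.trans ?_ ((mem_toSpecZero_preimage_iff (𝒮L.deg U hU) ⟨_, 𝒮L.str_mem U hU r⟩ y).symm.trans Iff.rfl)
  constructor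
  · rintro ⟨w, hw, hwy⟩
    exact (RelProj.emb pL chartL U hU).isOpenEmbedding.injective hwy ▸ hw
  · exact fun h => ⟨y, h, rfl⟩

include hj hPL in
/-- A degree one section not vanishing at a point. -/
lemma exists_deg_one_nz (U : X.Opens) (hU : IsAffineOpen U) {z : PL} (hz : pL z ∈ U) :
    ∃ f ∈ 𝒮L.deg U hU 1, z ∈ nz chartL U hU f := by
  obtain ⟨d, hd, f, hf, y, hy, rfl⟩ := exists_nz_mem (chart := chartL) U hU hz
  by_contra h
  push Not at h
  have h1 : Ideal.span (𝒮L.deg U hU 1 : Set (𝒮L.presheaf.obj (op U))) ≤ y.asHomogeneousIdeal.toIdeal :=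
    Ideal.span_le.mpr fun g hg => by
      by_contra hg'
      exact h g hg ⟨y, hg', rfl⟩
  exact hy (h1 (ProjLib.mem_irrelevant_le_span_degree_one (SymAlgLib.isGenDegOne_of_isGrSymAlg hj U hU)
    (HomogeneousIdeal.mem_irrelevant_of_mem _ hd hf)))

include hj hPL in
/-- A section whose multiples exhaust its degree does not vanish. -/
theorem mem_nz_of_span (V : X.Opens) (hV : IsAffineOpen V) (n : ℕ) {x : 𝒮L.presheaf.obj (op V)}
    (hspan : ((𝒮L.deg V hV n : AddSubgroup (𝒮L.presheaf.obj (op V))) : Set (𝒮L.presheaf.obj (op V))) ⊆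
      (Ideal.span {x} : Set (𝒮L.presheaf.obj (op V))))
    {z : PL} (hz : pL z ∈ V) : z ∈ nz chartL V hV x := by
  obtain ⟨f, hf, y, hy, rfl⟩ := exists_deg_one_nz hj hPL V hV hz
  refine ⟨y, fun hc => hy (y.isPrime.mem_of_pow_mem n ?_), rfl⟩
  have h1 := hspan (by simpa using SetLike.pow_mem_graded n hf)
  exact (Ideal.span_singleton_le_iff_mem _).mpr hc h1

section gen

variable {U : X.Opens} (hU : IsAffineOpen U) {g : Γ(L, U)} (hg : IsGen L U g)
include hj hg

/-- The homogeneous sections of degree `n` over an open with a generator. -/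
lemma exists_eq_mul_pow (n : ℕ) {x : 𝒮L.presheaf.obj (op U)} (hx : x ∈ 𝒮L.deg U hU n) :
    ∃ r : Γ(X, U), (𝒮L.str.app (op U)).hom r * (show 𝒮L.presheaf.obj (op U) from j.app U g) ^ n = x := by
  classical
  let T : 𝒮L.presheaf.obj (op U) := j.app U g
  have hT : T ∈ 𝒮L.deg U hU 1 := hj.2 U hU g
  have hx' : x ∈ (Polynomial.eval₂RingHom (𝒮L.str.app (op U)).hom T).range := by
    refine (Subring.closure_le (t := (Polynomial.eval₂RingHom (𝒮L.str.app (op U)).hom T).range)).2 ?_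
      ((SymAlgLib.closure_eq_top hj.1 hU).ge (Subring.mem_top x))
    rintro _ (⟨r, rfl⟩ | ⟨m, rfl⟩)
    · exact ⟨Polynomial.C r, by simp⟩
    · refine ⟨Polynomial.C (hg.coef le_rfl m) * Polynomial.X, ?_⟩
      have hm := hg.coef_spec le_rfl m
      rw [resM_self] at hm
      show (Polynomial.eval₂RingHom (𝒮L.str.app (op U)).hom T) _ = (show 𝒮L.presheaf.obj (op U) from j.app U m)
      conv_rhs => rw [← hm, Scheme.Modules.Hom.app_smul]
      simp
      rfl
  obtain ⟨p, hp⟩ := hx'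
  refine ⟨p.coeff n, ?_⟩
  have hmem : ∀ i (a : Γ(X, U)), (𝒮L.str.app (op U)).hom a * T ^ i ∈ 𝒮L.deg U hU i := fun i a => by
    simpa using SetLike.mul_mem_graded (𝒮L.str_mem U hU a) (SetLike.pow_mem_graded i hT)
  have h2 : (DirectSum.decompose (𝒮L.deg U hU) x n : 𝒮L.presheaf.obj (op U)) =
      (𝒮L.str.app (op U)).hom (p.coeff n) * T ^ n := by
    rw [← hp, Polynomial.coe_eval₂RingHom, Polynomial.eval₂_eq_sum, Polynomial.sum]
    rw [DirectSum.decompose_sum, DFinsupp.finset_sum_apply, AddSubmonoidClass.coe_finset_sum]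
    rw [Finset.sum_eq_single n]
    · rw [DirectSum.decompose_of_mem_same _ (hmem n _)]
    · exact fun i _ hi => DirectSum.decompose_of_mem_ne _ (hmem i _) hi
    · intro hn
      rw [Polynomial.notMem_support_iff.mp hn, map_zero, zero_mul, DirectSum.decompose_zero]
      rfl
  rw [← h2, DirectSum.decompose_of_mem_same _ hx]

end gen

include hj hPL in
/-- Near a point where it does not vanish a section generates its degree. -/
theorem exists_span_of_mem_nz (hL : PicF.IsInvertible L) (V : X.Opens) (hV : IsAffineOpen V) (n : ℕ)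
    {x : 𝒮L.presheaf.obj (op V)} (hx : x ∈ 𝒮L.deg V hV n) {z : PL} (hz : z ∈ nz chartL V hV x) :
    ∃ (W : X.Opens) (hW : IsAffineOpen W) (i : W ≤ V), pL z ∈ W ∧
      ((𝒮L.deg W hW n : AddSubgroup (𝒮L.presheaf.obj (op W))) : Set (𝒮L.presheaf.obj (op W))) ⊆
        (Ideal.span {(𝒮L.presheaf.map (homOfLE i).op).hom x} : Set (𝒮L.presheaf.obj (op W))) := by
  have hzV : pL z ∈ V := nz_le V hV x hz
  obtain ⟨U₀, hzU₀, g₀, hg₀⟩ := exists_isGen hL (pL z)
  obtain ⟨_, ⟨U, hU, rfl⟩, hzU, hUV⟩ :=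
    X.isBasis_affineOpens.exists_subset_of_mem_open (show pL z ∈ V ⊓ U₀ from ⟨hzV, hzU₀⟩) (V ⊓ U₀).isOpen
  have hi : U ≤ V := fun w hw => (hUV hw).1
  have hU0 : U ≤ U₀ := fun w hw => (hUV hw).2
  let g := resM L hU0 g₀
  have hg : IsGen L U g := hg₀.restrict hU0
  have hz' := (mem_nz_res_iff hPL hV hU hi x hzU).mpr hz
  obtain ⟨r, hr⟩ := exists_eq_mul_pow hj hU hg n (𝒮L.map_mem hV hU hi hx)
  let T : 𝒮L.presheaf.obj (op U) := j.app U g
  have hzr : z ∈ nz chartL U hU ((𝒮L.str.app (op U)).hom r) := by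
    obtain ⟨y, hy, rfl⟩ := hz'
    refine ⟨y, fun hc => hy ?_, rfl⟩
    show (𝒮L.presheaf.map (homOfLE hi).op).hom x ∈ y.asHomogeneousIdeal.toIdeal
    rw [← hr]
    exact Ideal.mul_mem_right _ _ hc
  have hW : pL z ∈ X.basicOpen r := (mem_nz_str_iff hPL U hU r hzU).mp hzr
  refine ⟨X.basicOpen r, hU.basicOpen r, (X.basicOpen_le r).trans hi, hW, fun w hw => ?_⟩
  have hgW : IsGen L (X.basicOpen r) (resM L (X.basicOpen_le r) g) := hg.restrict _
  obtain ⟨c, hc⟩ := exists_eq_mul_pow hj (hU.basicOpen r) hgW n hw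
  have hru : IsUnit ((X.presheaf.map (homOfLE (X.basicOpen_le r)).op).hom r) :=
    RingedSpace.isUnit_res_basicOpen _ r
  obtain ⟨b, hb⟩ := hru.exists_left_inv
  rw [SetLike.mem_coe, Ideal.mem_span_singleton]
  refine ⟨(𝒮L.str.app (op (X.basicOpen r))).hom (c * b), ?_⟩
  have e1 : (𝒮L.presheaf.map (homOfLE ((X.basicOpen_le r).trans hi)).op).hom x =
      (𝒮L.presheaf.map (homOfLE (X.basicOpen_le r)).op).hom ((𝒮L.presheaf.map (homOfLE hi).op).hom x) :=
    (res_comp hV hU (hU.basicOpen r) hi (X.basicOpen_le r) x).symm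
  have e2 : (𝒮L.presheaf.map (homOfLE (X.basicOpen_le r)).op).hom ((𝒮L.str.app (op U)).hom r) =
      (𝒮L.str.app (op (X.basicOpen r))).hom ((X.presheaf.map (homOfLE (X.basicOpen_le r)).op).hom r) :=
    (ConcreteCategory.congr_hom (𝒮L.str.naturality (homOfLE (X.basicOpen_le r)).op) r).symm
  have e3 : (𝒮L.presheaf.map (homOfLE (X.basicOpen_le r)).op).hom T =
      (show 𝒮L.presheaf.obj (op (X.basicOpen r)) from j.app (X.basicOpen r) (resM L (X.basicOpen_le r) g)) :=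
    (ConcreteCategory.congr_hom (j.mapPresheaf.naturality (homOfLE (X.basicOpen_le r)).op) g).symm
  rw [← hc, e1, ← hr, map_mul, map_pow, e2, e3, map_mul]
  have hb' : (𝒮L.str.app (op (X.basicOpen r))).hom b *
      (𝒮L.str.app (op (X.basicOpen r))).hom ((X.presheaf.map (homOfLE (X.basicOpen_le r)).op).hom r) = 1 := by
    rw [← map_mul, hb, map_one]
  linear_combination (-((𝒮L.str.app (op (X.basicOpen r))).hom c *
    (show 𝒮L.presheaf.obj (op (X.basicOpen r)) from j.app (X.basicOpen r) (resM L (X.basicOpen_le r) g)) ^ n)) * hb'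

include hj hPL in
/-- The structure morphism of the `Proj` of the algebra of an invertible module is an isomorphism. -/
theorem isIso_line (hL : PicF.IsInvertible L) (hLq : Coh.IsQCoh L) : IsIso pL := by
  obtain ⟨O1, lam, hO1⟩ := TwistLib.G.exists_isRelTwist (n := (1 : ℤ)) hPL
  obtain ⟨φ, D⟩ := RelVALib.exists_pBundle hLq hj hPL hO1
  exact D.isIso_of_isInvertible hL

section loci

variable {Y P : Scheme.{u}} {q : X ⟶ Y} {𝒮 : RelProj.QCGrAlg Y} (u : RelProj.QGrHom q 𝒮 𝒮L)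

/-- The open of `X` where the image of a global section does not vanish. -/
def sLocus (d : ℕ) (f : 𝒮.presheaf.obj (op ⊤)) : X.Opens :=
  ⨆ V : {V : X.affineOpens //
    ((𝒮L.deg V.1 V.2 d : AddSubgroup (𝒮L.presheaf.obj (op (V.1 : X.Opens)))) : Set (𝒮L.presheaf.obj (op (V.1 : X.Opens)))) ⊆
      (Ideal.span {(u.appLE ⊤ (V.1 : X.Opens) (le_top.trans (Scheme.Hom.preimage_top q).ge)).hom f} : Set (𝒮L.presheaf.obj (op (V.1 : X.Opens))))},
    (V.1.1 : X.Opens)

include hj hPL in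
theorem mem_sLocus_iff (hL : PicF.IsInvertible L) (hY : IsAffineOpen (⊤ : Y.Opens)) {d : ℕ}
    {f : 𝒮.presheaf.obj (op ⊤)} (hf : f ∈ 𝒮.deg ⊤ hY d) (V : X.Opens) (hV : IsAffineOpen V) {z : PL} (hz : pL z ∈ V) :
    pL z ∈ sLocus u d f ↔
      z ∈ nz chartL V hV (u.gradedAt ⊤ hY V hV (le_top.trans (Scheme.Hom.preimage_top q).ge) f) := by
  constructor
  · intro h
    obtain ⟨⟨⟨W, hW⟩, hspan⟩, hzW⟩ := Opens.mem_iSup.mp h
    have h1 := mem_nz_of_span hj hPL W hW d hspan hzW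
    obtain ⟨O, hO, hzO, hOV, hOW, -, -, -⟩ := exists_common_basic hV hW ⊤ hz hzW (Set.mem_univ _)
    rw [← mem_nz_res_iff hPL hV hO hOV _ hzO, gradedAt_res_right]
    rw [show (u.appLE ⊤ W (le_top.trans (Scheme.Hom.preimage_top q).ge)).hom f =
      u.gradedAt ⊤ hY W hW (le_top.trans (Scheme.Hom.preimage_top q).ge) f from rfl,
      ← mem_nz_res_iff hPL hW hO hOW _ hzO, gradedAt_res_right] at h1
    exact h1
  · intro h
    obtain ⟨W, hW, i, hzW, hspan⟩ := exists_span_of_mem_nz hj hPL hL V hV d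
      ((u.gradedAt ⊤ hY V hV (le_top.trans (Scheme.Hom.preimage_top q).ge)).map_mem hf) h
    refine Opens.mem_iSup.mpr ⟨⟨⟨W, hW⟩, ?_⟩, hzW⟩
    have e : (𝒮L.presheaf.map (homOfLE i).op).hom (u.gradedAt ⊤ hY V hV (le_top.trans (Scheme.Hom.preimage_top q).ge) f) =
        (u.appLE ⊤ W (le_top.trans (Scheme.Hom.preimage_top q).ge)).hom f :=
      gradedAt_res_right u hY hV hW (le_top.trans (Scheme.Hom.preimage_top q).ge) i f
    rw [← e]
    exact hspan

end loci

end Groth.Agent.QProj
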