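import Groth.Agent.ProjLib.QDom

/-!
# The morphism `G(u) ⟶ Proj 𝒮` of a graded morphism over a morphism of bases
-/

set_option linter.unusedSectionVars false
set_option autoImplicit false
set_option backward.isDefEq.respectTransparency.types false

namespace Groth.Agent.QProj

open CategoryTheory CategoryTheory.Limits AlgebraicGeometry TopologicalSpace Opposite
open scoped HomogeneousIdeal
open Groth.Agent.ProjLib (domMap domChart domChart_ι domMap_ext domChart_domMap awayMapTo_rfl domRes_domMap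
  map_mem_domOpen)

universe u

variable {S S' P P' : Scheme.{u}} {g : S' ⟶ S} {𝒮 : RelProj.QCGrAlg S} {𝒮' : RelProj.QCGrAlg S'}
  (u : RelProj.QGrHom g 𝒮 𝒮') {p : P ⟶ S}
  {chart : ∀ (U : S.Opens) (hU : IsAffineOpen U), (((p ⁻¹ᵁ U : P.Opens) : Scheme.{u}) ≅ Proj (𝒮.deg U hU))}
  (hP : RelProj.IsRelProj 𝒮 p chart) {p' : P' ⟶ S'}
  {chart' : ∀ (U' : S'.Opens) (hU' : IsAffineOpen U'), (((p' ⁻¹ᵁ U' : P'.Opens) : Scheme.{u}) ≅ Proj (𝒮'.deg U' hU'))}
  (hP' : RelProj.IsRelProj 𝒮' p' chart')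

lemma apply_eq {X Y : Scheme.{u}} {a b : X ⟶ Y} (h : a = b) (x : X) : a x = b x := by rw [h]

/-- An affine pair. -/
abbrev Pair (g : S' ⟶ S) : Type u := {V : S.affineOpens × S'.affineOpens // (V.2 : S'.Opens) ≤ g ⁻¹ᵁ (V.1 : S.Opens)}

/-- The graded homomorphism of a pair. -/
abbrev psi (i : Pair g) : 𝒮.deg i.1.1.1 i.1.1.2 →+*ᵍ 𝒮'.deg i.1.2.1 i.1.2.2 :=
  u.gradedAt i.1.1.1 i.1.1.2 i.1.2.1 i.1.2.2 i.2

variable (chart') in
lemma domQ_range_le (i : Pair g) :
    Set.range ((RelCone.domOpen (psi u i)).ι ≫ RelProj.emb p' chart' i.1.2.1 i.1.2.2) ⊆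
      Set.range (RelProj.domQ u p' chart').ι := by
  rw [Scheme.Opens.range_ι]
  rintro _ ⟨y, rfl⟩
  exact Opens.mem_iSup.mpr ⟨i, y.1, y.2, rfl⟩

variable (chart') in
/-- The part of `G(u)` of a pair. -/
noncomputable def incl (i : Pair g) :
    (RelCone.domOpen (psi u i)).toScheme ⟶ (RelProj.domQ u p' chart').toScheme :=
  IsOpenImmersion.lift _ _ (domQ_range_le u chart' i)

variable (chart') in
@[reassoc]
lemma incl_ι (i : Pair g) : incl u chart' i ≫ (RelProj.domQ u p' chart').ι =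
    (RelCone.domOpen (psi u i)).ι ≫ RelProj.emb p' chart' i.1.2.1 i.1.2.2 :=
  IsOpenImmersion.lift_fac _ _ _

instance (i : Pair g) : IsOpenImmersion (incl u chart' i) := by
  have : IsOpenImmersion (incl u chart' i ≫ (RelProj.domQ u p' chart').ι) := by
    rw [incl_ι]; infer_instance
  exact IsOpenImmersion.of_comp _ (RelProj.domQ u p' chart').ι

include hP' in
lemma mem_range_incl (i : Pair g) (x : (RelProj.domQ u p' chart').toScheme) (hx : p' x.1 ∈ i.1.2.1) :
    x ∈ (incl u chart' i).opensRange := by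
  have h := (domQ_inf_preimage u hP' i.1.1.1 i.1.1.2 i.1.2.1 i.1.2.2 i.2).le ⟨x.2, hx⟩
  obtain ⟨y, hy, hyx⟩ := h
  refine ⟨⟨y, hy⟩, Subtype.ext ?_⟩
  exact (apply_eq (incl_ι u chart' i) ⟨y, hy⟩).trans hyx

lemma incl_mem (i : Pair g) (y : (RelCone.domOpen (psi u i)).toScheme) :
    p' (incl u chart' i y).1 ∈ i.1.2.1 := by
  have h : (incl u chart' i y).1 = RelProj.emb p' chart' i.1.2.1 i.1.2.2 y.1 :=
    apply_eq (incl_ι u chart' i) y
  rw [h]
  exact (range_emb i.1.2.1 i.1.2.2).le ⟨y.1, rfl⟩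

lemma exists_pair (x : S') : ∃ i : Pair g, x ∈ i.1.2.1 := by
  obtain ⟨U, hU⟩ := Opens.mem_iSup.mp ((iSup_affineOpens_eq_top S).ge (Set.mem_univ (g x)))
  obtain ⟨_, ⟨U', hU', rfl⟩, hxU', hle⟩ :=
    S'.isBasis_affineOpens.exists_subset_of_mem_open (show x ∈ g ⁻¹ᵁ U.1 from hU) (g ⁻¹ᵁ U.1).isOpen
  exact ⟨⟨(U, ⟨U', hU'⟩), hle⟩, hxU'⟩

include hP' in
/-- The cover of `G(u)` by the pairs. -/
noncomputable def cover : (RelProj.domQ u p' chart').toScheme.OpenCover :=
  Scheme.Cover.mkOfCovers (Pair g) (fun i => (RelCone.domOpen (psi u i)).toScheme) (fun i => incl u chart' i)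
    (fun x => by
      obtain ⟨i, hi⟩ := exists_pair (g := g) (p' x.1)
      obtain ⟨y, hy⟩ := mem_range_incl u hP' i x hi
      exact ⟨i, y, hy⟩)

variable (chart) in
/-- The morphism on a pair. -/
noncomputable def piece (i : Pair g) : (RelCone.domOpen (psi u i)).toScheme ⟶ P :=
  domMap (psi u i) ≫ RelProj.emb p chart i.1.1.1 i.1.1.2

include hP hP' in
lemma exists_refine {i k : Pair g} (hV : k.1.1.1 ≤ i.1.1.1) (hbV : ∃ r : Γ(S, i.1.1.1), k.1.1.1 = S.basicOpen r)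
    (hV' : k.1.2.1 ≤ i.1.2.1) (hbV' : ∃ r : Γ(S', i.1.2.1), k.1.2.1 = S'.basicOpen r) :
    ∃ ρ : (RelCone.domOpen (psi u k)).toScheme ⟶ (RelCone.domOpen (psi u i)).toScheme,
      ρ ≫ incl u chart' i = incl u chart' k ∧ ρ ≫ piece u chart i = piece u chart k := by
  let a := 𝒮.res i.1.1.2 k.1.1.2 hV
  let b := 𝒮'.res i.1.2.2 k.1.2.2 hV'
  have ha := irrelevant_le_res (𝒮 := 𝒮) i.1.1.2 k.1.1.2 hV hbV
  have hb := irrelevant_le_res (𝒮 := 𝒮') i.1.2.2 k.1.2.2 hV' hbV'
  have hab : ∀ x, b (psi u i x) = psi u k (a x) := fun x =>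
    (gradedAt_res_right u i.1.1.2 i.1.2.2 k.1.2.2 i.2 hV' x).trans
      (gradedAt_res_left u i.1.1.2 k.1.1.2 hV k.1.2.2 k.2 x).symm
  have hr : Set.range ((RelCone.domOpen (psi u k)).ι ≫ Proj.map b hb) ⊆
      Set.range (RelCone.domOpen (psi u i)).ι := by
    rw [Scheme.Opens.range_ι]
    rintro _ ⟨y, rfl⟩
    exact map_mem_domOpen (psi u i) (psi u k) a b hab ha hb y.2
  refine ⟨IsOpenImmersion.lift _ _ hr, ?_, ?_⟩
  · rw [← cancel_mono (RelProj.domQ u p' chart').ι, Category.assoc, incl_ι, incl_ι, IsOpenImmersion.lift_fac_assoc,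
      Category.assoc]
    exact congrArg ((RelCone.domOpen (psi u k)).ι ≫ ·) (map_res_emb hP' i.1.2.2 k.1.2.2 hV' hbV')
  · rw [piece, piece, ← Category.assoc,
      domRes_domMap (psi u i) (psi u k) a b hab ha hb _ (IsOpenImmersion.lift_fac _ _ hr), Category.assoc]
    exact congrArg (domMap (psi u k) ≫ ·) (map_res_emb hP i.1.1.2 k.1.1.2 hV hbV)

include hP hP' in
lemma piece_compat {T : Scheme.{u}} (i i' : Pair g) (a : T ⟶ (RelCone.domOpen (psi u i)).toScheme)
    (b : T ⟶ (RelCone.domOpen (psi u i')).toScheme) (h : a ≫ incl u chart' i = b ≫ incl u chart' i') :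
    a ≫ piece u chart i = b ≫ piece u chart i' := by
  refine Scheme.hom_ext_of_forall _ _ fun z => ?_
  let t : T ⟶ (RelProj.domQ u p' chart').toScheme := a ≫ incl u chart' i
  have hz1 : p' (t z).1 ∈ i.1.2.1 := incl_mem u i (a z)
  have hz2 : p' (t z).1 ∈ i'.1.2.1 := by
    simp only [t, h]
    exact incl_mem u i' (b z)
  obtain ⟨W, hW, hzW, hW1, hW2, -, hb1, hb2⟩ :=
    exists_common_basic i.1.1.2 i'.1.1.2 ⊤ (show g (p' (t z).1) ∈ i.1.1.1 from i.2 hz1) (i'.2 hz2) (Set.mem_univ _)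
  obtain ⟨W', hW', hzW', hW1', hW2', hWW, hb1', hb2'⟩ :=
    exists_common_basic i.1.2.2 i'.1.2.2 (g ⁻¹ᵁ W) hz1 hz2 hzW
  let k : Pair g := ⟨(⟨W, hW⟩, ⟨W', hW'⟩), hWW⟩
  obtain ⟨ρ, hρ1, hρ2⟩ := exists_refine u hP hP' (i := i) (k := k) hW1 hb1 hW1' hb1'
  obtain ⟨σ, hσ1, hσ2⟩ := exists_refine u hP hP' (i := i') (k := k) hW2 hb2 hW2' hb2'
  refine ⟨t ⁻¹ᵁ (incl u chart' k).opensRange, mem_range_incl u hP' k (t z) hzW', ?_⟩
  let O := t ⁻¹ᵁ (incl u chart' k).opensRange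
  let c : O.toScheme ⟶ (RelCone.domOpen (psi u k)).toScheme :=
    IsOpenImmersion.lift (incl u chart' k) (O.ι ≫ t) (by
      rintro _ ⟨y, rfl⟩
      exact y.2)
  have hc : c ≫ incl u chart' k = O.ι ≫ t := IsOpenImmersion.lift_fac _ _ _
  have h1 : O.ι ≫ a = c ≫ ρ := by
    rw [← cancel_mono (incl u chart' i), Category.assoc, Category.assoc, hρ1, hc]
  have h2 : O.ι ≫ b = c ≫ σ := by
    rw [← cancel_mono (incl u chart' i'), Category.assoc, Category.assoc, hσ1, hc]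
    exact congrArg (O.ι ≫ ·) h.symm
  show O.ι ≫ a ≫ piece u chart i = O.ι ≫ b ≫ piece u chart i'
  rw [reassoc_of% h1, hρ2, reassoc_of% h2, hσ2]

include hP hP' in
/-- The glued morphism. -/
noncomputable def qMap : (RelProj.domQ u p' chart').toScheme ⟶ P :=
  (cover u hP').glueMorphisms (fun i => piece u chart i) fun i i' =>
    piece_compat u hP hP' i i' (pullback.fst ((cover u hP').f i) ((cover u hP').f i'))
      (pullback.snd ((cover u hP').f i) ((cover u hP').f i')) pullback.condition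

lemma incl_qMap (i : Pair g) : incl u chart' i ≫ qMap u hP hP' = piece u chart i :=
  (cover u hP').ι_glueMorphisms _ _ i

lemma domChart_incl (i : Pair g) {d : ℕ} (hd : 0 < d) {f : 𝒮.presheaf.obj (op i.1.1.1)}
    (hf : f ∈ 𝒮.deg i.1.1.1 i.1.1.2 d)
    (hW : Set.range (RelProj.awayEmb u p' chart' i.1.1.1 i.1.1.2 i.1.2.1 i.1.2.2 i.2 hd f hf).base ⊆
      Set.range (RelProj.domQ u p' chart').ι.base) :
    domChart (psi u i) hd hf _ rfl ≫ incl u chart' i =
      IsOpenImmersion.lift (RelProj.domQ u p' chart').ι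
        (RelProj.awayEmb u p' chart' i.1.1.1 i.1.1.2 i.1.2.1 i.1.2.2 i.2 hd f hf) hW := by
  rw [← cancel_mono (RelProj.domQ u p' chart').ι, Category.assoc, incl_ι, IsOpenImmersion.lift_fac, ← Category.assoc,
    domChart_ι]
  rfl

/-- The chart equations determine a morphism on the pairs. -/
lemma incl_comp_of_isProjQMapOn {v : (RelProj.domQ u p' chart').toScheme ⟶ P}
    (hv : RelProj.IsProjQMapOn u p chart p' chart' (RelProj.domQ u p' chart') v) (i : Pair g) :
    incl u chart' i ≫ v = piece u chart i := by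
  refine domMap_ext _ fun d hd f hf => ?_
  have hW := RelProj.range_awayEmb_subset_domQ u p' chart' i.1.1.1 i.1.1.2 i.1.2.1 i.1.2.2 i.2 hd f hf
  rw [← Category.assoc, domChart_incl u i hd hf hW, piece, ← Category.assoc, domChart_domMap, Category.assoc]
  exact hv i.1.1.1 i.1.1.2 i.1.2.1 i.1.2.2 i.2 d hd f hf hW

include hP' in
theorem eq_of_isProjQMapOn {v w : (RelProj.domQ u p' chart').toScheme ⟶ P}
    (hv : RelProj.IsProjQMapOn u p chart p' chart' (RelProj.domQ u p' chart') v)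
    (hw : RelProj.IsProjQMapOn u p chart p' chart' (RelProj.domQ u p' chart') w) : v = w :=
  (cover u hP').hom_ext _ _ fun i =>
    (incl_comp_of_isProjQMapOn u hv i).trans (incl_comp_of_isProjQMapOn u hw i).symm

include hP hP' in
theorem isProjQMapOn_qMap :
    RelProj.IsProjQMapOn u p chart p' chart' (RelProj.domQ u p' chart') (qMap u hP hP') := by
  intro U hU U' hU' hle d hd f hf hW
  let i : Pair g := ⟨(⟨U, hU⟩, ⟨U', hU'⟩), hle⟩
  rw [← domChart_incl u i hd hf hW, Category.assoc, incl_qMap, piece, ← Category.assoc, domChart_domMap,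
    Category.assoc]
  rfl

include hP hP' in
theorem existsUnique_qMap :
    ∃! v : (RelProj.domQ u p' chart').toScheme ⟶ P,
      RelProj.IsProjQMapOn u p chart p' chart' (RelProj.domQ u p' chart') v :=
  ⟨qMap u hP hP', isProjQMapOn_qMap u hP hP', fun _ hv => eq_of_isProjQMapOn u hP' hv (isProjQMapOn_qMap u hP hP')⟩

lemma chartBase_comp {d : ℕ} (hd : 0 < d) (U : S.Opens) (hU : IsAffineOpen U) (U' : S'.Opens) (hU' : IsAffineOpen U')
    (hle : U' ≤ g ⁻¹ᵁ U) {f : 𝒮.presheaf.obj (op U)} (hf : f ∈ 𝒮.deg U hU d) :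
    Spec.map (CommRingCat.ofHom (HomogeneousLocalization.Away.map (u.gradedAt U hU U' hU' hle) f)) ≫
        Proj.awayι (𝒮.deg U hU) f hf hd ≫ ProjLib.chartBase 𝒮 U hU ≫ U.ι =
      Proj.awayι (𝒮'.deg U' hU') _ ((u.gradedAt U hU U' hU' hle).map_mem hf) hd ≫
        ProjLib.chartBase 𝒮' U' hU' ≫ U'.ι ≫ g := by
  rw [ProjLib.chartBase_ι, ← Category.assoc (ProjLib.chartBase 𝒮' U' hU'), ProjLib.chartBase_ι]
  simp only [Category.assoc, Proj.awayι_toSpecZero_assoc]
  rw [← IsAffineOpen.SpecMap_appLE_fromSpec g hU hU' hle]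
  simp only [← Spec.map_comp_assoc]
  congr 2
  ext r
  simp only [CommRingCat.hom_comp, CommRingCat.hom_ofHom, RingHom.comp_apply]
  change (HomogeneousLocalization.map _ _ (HomogeneousLocalization.mk _)).val = _
  rw [HomogeneousLocalization.map_mk]
  simp only [HomogeneousLocalization.val_mk]
  congr 1
  · exact ConcreteCategory.congr_hom (u.str_appLE U U' hle) r
  · exact Subtype.ext (map_one _)

lemma emb_comp {S P : Scheme.{u}} {𝒮 : RelProj.QCGrAlg S} {p : P ⟶ S}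
    {chart : ∀ (U : S.Opens) (hU : IsAffineOpen U), (((p ⁻¹ᵁ U : P.Opens) : Scheme.{u}) ≅ Proj (𝒮.deg U hU))}
    (hP : RelProj.IsRelProj 𝒮 p chart) (U : S.Opens) (hU : IsAffineOpen U) :
    RelProj.emb p chart U hU ≫ p = ProjLib.chartBase 𝒮 U hU ≫ U.ι := by
  show ((chart U hU).inv ≫ (p ⁻¹ᵁ U).ι) ≫ p = _
  rw [Category.assoc, ← morphismRestrict_ι, ProjLib.chart_morphismRestrict hP U hU, Category.assoc,
    Iso.inv_hom_id_assoc]

include hP hP' in
theorem qMap_comp {v : (RelProj.domQ u p' chart').toScheme ⟶ P}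
    (hv : RelProj.IsProjQMapOn u p chart p' chart' (RelProj.domQ u p' chart') v) :
    v ≫ p = (RelProj.domQ u p' chart').ι ≫ p' ≫ g := by
  refine (cover u hP').hom_ext _ _ fun i => ?_
  show incl u chart' i ≫ v ≫ p = incl u chart' i ≫ _
  rw [← Category.assoc, incl_comp_of_isProjQMapOn u hv i, piece, incl_ι_assoc, Category.assoc, emb_comp hP,
    reassoc_of% (emb_comp hP')]
  refine domMap_ext _ fun d hd f hf => ?_
  rw [← Category.assoc, domChart_domMap, ← Category.assoc (domChart _ _ _ _ _), domChart_ι, Category.assoc]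
  exact chartBase_comp u hd i.1.1.1 i.1.1.2 i.1.2.1 i.1.2.2 i.2 hf

end Groth.Agent.QProj
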