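import Groth.Agent.ProjLib.QMap

/-!
# `Proj` of a graded homomorphism over the identity, and preimages under `Proj(u)`
-/

set_option linter.unusedSectionVars false
set_option autoImplicit false
set_option backward.isDefEq.respectTransparency.types false

namespace Groth.Agent.QProj

open CategoryTheory CategoryTheory.Limits AlgebraicGeometry TopologicalSpace Opposite
open scoped HomogeneousIdeal
open Groth.Agent.ProjLib (domMap isAffineHom_domMap exists_homogeneous_notMem iSup_basicOpen_pos)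

universe u

variable {S S' P P' : Scheme.{u}} {g : S' ⟶ S} {𝒮 : RelProj.QCGrAlg S} {𝒮' : RelProj.QCGrAlg S'}
  (u : RelProj.QGrHom g 𝒮 𝒮') {p : P ⟶ S}
  {chart : ∀ (U : S.Opens) (hU : IsAffineOpen U), (((p ⁻¹ᵁ U : P.Opens) : Scheme.{u}) ≅ Proj (𝒮.deg U hU))}
  (hP : RelProj.IsRelProj 𝒮 p chart) {p' : P' ⟶ S'}
  {chart' : ∀ (U' : S'.Opens) (hU' : IsAffineOpen U'), (((p' ⁻¹ᵁ U' : P'.Opens) : Scheme.{u}) ≅ Proj (𝒮'.deg U' hU'))}
  (hP' : RelProj.IsRelProj 𝒮' p' chart')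
  {v : (RelProj.domQ u p' chart').toScheme ⟶ P}
  (hv : RelProj.IsProjQMapOn u p chart p' chart' (RelProj.domQ u p' chart') v)

include hv in
lemma incl_apply (i : Pair g) (y : (RelCone.domOpen (psi u i)).toScheme) :
    v (incl u chart' i y) = RelProj.emb p chart i.1.1.1 i.1.1.2 (domMap (psi u i) y) :=
  apply_eq (incl_comp_of_isProjQMapOn u hv i) y

include hP hP' hv in
lemma apply_qMap (x : (RelProj.domQ u p' chart').toScheme) : p (v x) = g (p' x.1) :=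
  apply_eq (qMap_comp u hP hP' hv) x

include hP hP' hv in
/-- The preimage of `D₊(f)` under `Proj(u)`. -/
theorem mem_preimage_nz_iff (U : S.Opens) (hU : IsAffineOpen U) (U' : S'.Opens) (hU' : IsAffineOpen U')
    (hle : U' ≤ g ⁻¹ᵁ U) {d : ℕ} (hd : 0 < d) {f : 𝒮.presheaf.obj (op U)} (hf : f ∈ 𝒮.deg U hU d)
    (x : (RelProj.domQ u p' chart').toScheme) (hx : p' x.1 ∈ U') :
    v x ∈ nz chart U hU f ↔ x.1 ∈ nz chart' U' hU' (u.gradedAt U hU U' hU' hle f) := by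
  let i : Pair g := ⟨(⟨U, hU⟩, ⟨U', hU'⟩), hle⟩
  obtain ⟨y, rfl⟩ := mem_range_incl u hP' i x hx
  have h1 : (incl u chart' i y).1 = RelProj.emb p' chart' U' hU' y.1 := apply_eq (incl_ι u chart' i) y
  rw [incl_apply u hv i y, h1]
  have h2 := SetLike.ext_iff.mp (ProjLib.domMap_preimage_basicOpen (psi u i) hd hf) y
  constructor
  · rintro ⟨w, hw, hwy⟩
    exact ⟨y.1, h2.mp (show domMap (psi u i) y ∈ Proj.basicOpen _ f from
      (RelProj.emb p chart U hU).isOpenEmbedding.injective hwy ▸ hw), rfl⟩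
  · rintro ⟨w, hw, hwy⟩
    exact ⟨_, h2.mpr (show y.1 ∈ Proj.basicOpen _ _ from
      (RelProj.emb p' chart' U' hU').isOpenEmbedding.injective hwy ▸ hw), rfl⟩

lemma exists_nz_mem {x : P} (U : S.Opens) (hU : IsAffineOpen U) (hx : p x ∈ U) :
    ∃ (d : ℕ) (_ : 0 < d) (f : 𝒮.presheaf.obj (op U)), f ∈ 𝒮.deg U hU d ∧ x ∈ nz chart U hU f := by
  obtain ⟨y, hy⟩ := (range_emb (p := p) (chart := chart) U hU).ge hx
  obtain ⟨⟨⟨d, hd⟩, f, hf⟩, hyf⟩ := Opens.mem_iSup.mp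
    ((iSup_basicOpen_pos (𝒜 := 𝒮.deg U hU)).ge (Set.mem_univ y))
  exact ⟨d, hd, f, hf, y, hyf, hy⟩

end Groth.Agent.QProj

namespace Groth.Agent.QProj

open CategoryTheory CategoryTheory.Limits AlgebraicGeometry TopologicalSpace Opposite
open scoped HomogeneousIdeal
open Groth.Agent.ProjLib (domMap isAffineHom_domMap)

universe u

variable {S PA PB : Scheme.{u}} {𝒜 ℬ : RelProj.QCGrAlg S} (φ : 𝒜.toQCAlg ⟶ ℬ.toQCAlg) (hφ : RelProj.IsGradedHom φ)

lemma gradedAt_ofHom_apply (U : S.Opens) (hU : IsAffineOpen U) (x : 𝒜.presheaf.obj (op U)) :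
    (RelProj.QGrHom.ofHom φ hφ).gradedAt U hU U hU le_rfl x = RelProj.gradedHomAt φ hφ U hU x := by
  show (ℬ.presheaf.map (homOfLE _).op).hom ((φ.hom.app (op U)).hom x) = (φ.hom.app (op U)).hom x
  rw [show (homOfLE (le_rfl : U ≤ U)).op = 𝟙 (op U) from Subsingleton.elim _ _, CategoryTheory.Functor.map_id]
  rfl

lemma gradedAt_ofHom (U : S.Opens) (hU : IsAffineOpen U) :
    (RelProj.QGrHom.ofHom φ hφ).gradedAt U hU U hU le_rfl = RelProj.gradedHomAt φ hφ U hU :=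
  GradedRingHom.ext (gradedAt_ofHom_apply φ hφ U hU)

variable {pA : PA ⟶ S}
  {chartA : ∀ (U : S.Opens) (hU : IsAffineOpen U), (((pA ⁻¹ᵁ U : PA.Opens) : Scheme.{u}) ≅ Proj (𝒜.deg U hU))}
  (hA : RelProj.IsRelProj 𝒜 pA chartA) {pB : PB ⟶ S}
  {chartB : ∀ (U : S.Opens) (hU : IsAffineOpen U), (((pB ⁻¹ᵁ U : PB.Opens) : Scheme.{u}) ≅ Proj (ℬ.deg U hU))}
  (hB : RelProj.IsRelProj ℬ pB chartB)

include hB in
theorem domQ_ofHom_inf (U : S.Opens) (hU : IsAffineOpen U) :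
    RelProj.domQ (RelProj.QGrHom.ofHom φ hφ) pB chartB ⊓ pB ⁻¹ᵁ U =
      RelProj.emb pB chartB U hU ''ᵁ RelCone.domOpen (RelProj.gradedHomAt φ hφ U hU) := by
  rw [domQ_inf_preimage _ hB U hU U hU le_rfl, gradedAt_ofHom φ hφ U hU]

include hA hB in
theorem isAffineHom_qMap {Φ : (RelProj.domQ (RelProj.QGrHom.ofHom φ hφ) pB chartB).toScheme ⟶ PA}
    (hΦ : RelProj.IsProjQMapOn (RelProj.QGrHom.ofHom φ hφ) pA chartA pB chartB
      (RelProj.domQ (RelProj.QGrHom.ofHom φ hφ) pB chartB) Φ) : IsAffineHom Φ := by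
  refine isAffineHom_of_forall_exists_isAffineOpen _ fun x => ?_
  obtain ⟨U, hxU⟩ := Opens.mem_iSup.mp ((ProjLib.iSup_preimage_affine pA).ge (Set.mem_univ x))
  obtain ⟨d, hd, f, hf, hxf⟩ := exists_nz_mem (chart := chartA) U.1 U.2 hxU
  refine ⟨_, hxf, (Proj.isAffineOpen_basicOpen (𝒜.deg U.1 U.2) f hf hd).image_of_isOpenImmersion _, ?_⟩
  let w := RelProj.QGrHom.ofHom φ hφ
  let i : Pair (𝟙 S) := ⟨(U, U), le_rfl⟩
  have hle : Φ ⁻¹ᵁ (RelProj.emb pA chartA U.1 U.2 ''ᵁ Proj.basicOpen (𝒜.deg U.1 U.2) f) ≤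
      (incl w chartB i).opensRange := fun z hz => by
    refine mem_range_incl w hB i z ?_
    have h : Φ z ∈ pA ⁻¹ᵁ U.1 := (range_emb (p := pA) (chart := chartA) U.1 U.2).le (Scheme.Hom.image_le_opensRange _ _ hz)
    have h3 := apply_qMap (u := w) hA hB hΦ z
    have h4 : pA (Φ z) ∈ U.1 := h
    rw [h3] at h4
    exact h4
  have e : incl w chartB i ⁻¹ᵁ Φ ⁻¹ᵁ (RelProj.emb pA chartA U.1 U.2 ''ᵁ Proj.basicOpen (𝒜.deg U.1 U.2) f) =
      domMap (psi w i) ⁻¹ᵁ Proj.basicOpen (𝒜.deg U.1 U.2) f := by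
    rw [← Scheme.Hom.comp_preimage, incl_comp_of_isProjQMapOn w hΦ i, piece, Scheme.Hom.comp_preimage,
      Scheme.Hom.preimage_image_eq]
  have := (isAffineHom_domMap (psi w i))
  have haff : IsAffineOpen (incl w chartB i ⁻¹ᵁ Φ ⁻¹ᵁ
      (RelProj.emb pA chartA U.1 U.2 ''ᵁ Proj.basicOpen (𝒜.deg U.1 U.2) f)) := by
    rw [e]
    exact (Proj.isAffineOpen_basicOpen (𝒜.deg U.1 U.2) f hf hd).preimage _
  have h2 := haff.image_of_isOpenImmersion (incl w chartB i)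
  rwa [Scheme.Hom.image_preimage_eq_opensRange_inf, inf_eq_right.mpr hle] at h2

include hB in
theorem domQ_ofHom_eq_top (h : ∀ y : S, ∃ (U : S.Opens) (hU : IsAffineOpen U), y ∈ U ∧
      (ℬ.deg U hU)₊ ≤ ((𝒜.deg U hU)₊).map (RelProj.gradedHomAt φ hφ U hU)) :
    RelProj.domQ (RelProj.QGrHom.ofHom φ hφ) pB chartB = ⊤ := by
  refine eq_top_iff.mpr fun z _ => ?_
  obtain ⟨U, hU, hzU, hirr⟩ := h (pB z)
  obtain ⟨y, rfl⟩ := (range_emb (p := pB) (chart := chartB) U hU).ge hzU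
  have hy : y ∈ RelCone.domOpen (RelProj.gradedHomAt φ hφ U hU) := by
    by_contra hc
    refine y.not_irrelevant_le (hirr.trans (Ideal.map_le_of_le_comap fun a ha => ?_))
    by_contra ha'
    exact hc ((RelCone.mem_domOpen _ _).mpr ⟨a, ha, ha'⟩)
  exact ((domQ_ofHom_inf φ hφ hB U hU).ge ⟨y, hy, rfl⟩).1

end Groth.Agent.QProj
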