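import Groth.Agent.ProjLib.QMapHom
import Mathlib.AlgebraicGeometry.Morphisms.ClosedImmersion

/-!
# `Proj` of homomorphisms bijective or surjective in large degrees
-/

set_option linter.unusedSectionVars false
set_option autoImplicit false
set_option backward.isDefEq.respectTransparency.types false

namespace Groth.Agent.QProj

open CategoryTheory CategoryTheory.Limits AlgebraicGeometry TopologicalSpace Opposite HomogeneousLocalization
open scoped HomogeneousIdeal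
open Groth.Agent.ProjLib (domMap domChart domChart_ι domChart_domMap iSup_basicOpen_pos away_eq_zero_of_forall
  away_mk_eq_zero_iff exists_homogeneous_notMem domMap_preimage_basicOpen)

universe u

section ring

variable {σ A : Type u} [CommRing A] [SetLike σ A] [AddSubgroupClass σ A] {𝒜 : ℕ → σ}
  [GradedRing 𝒜] {τ B : Type u} [CommRing B] [SetLike τ B] [AddSubgroupClass τ B]
  {ℬ : ℕ → τ} [GradedRing ℬ] (ψ : 𝒜 →+*ᵍ ℬ) {N : ℕ}

lemma away_map_surjective_of_eventually {d : ℕ} (hd : 0 < d) {s : A} (hs : s ∈ 𝒜 d)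
    (h : ∀ n : ℕ, N ≤ n → ∀ b ∈ ℬ n, ∃ a ∈ 𝒜 n, ψ a = b) :
    Function.Surjective (Away.map ψ s : Away 𝒜 s →+* Away ℬ (ψ s)) := by
  intro y
  obtain ⟨n, b, hb, rfl⟩ := Away.mk_surjective ℬ (show ψ s ∈ ℬ _ from ψ.2 hs) y
  obtain ⟨a, ha, hab⟩ := h ((n + N) • d)
    (le_trans (Nat.le_mul_of_pos_right N hd) (by rw [smul_eq_mul, add_mul]; exact Nat.le_add_left _ _))
    (b * ψ s ^ N) (by
    have h2 := SetLike.mul_mem_graded hb (SetLike.pow_mem_graded N (show ψ s ∈ ℬ _ from ψ.2 hs))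
    simpa [add_mul] using h2)
  refine ⟨Away.mk 𝒜 hs (n + N) a ha, ?_⟩
  ext
  rw [Away.map_mk ψ s hs, Away.val_mk, Away.val_mk, Localization.mk_eq_mk_iff, Localization.r_iff_exists]
  exact ⟨1, by simp [hab]; ring⟩

lemma away_map_injective_of_eventually {d : ℕ} (hd : 0 < d) {s : A} (hs : s ∈ 𝒜 d)
    (h : ∀ n : ℕ, N ≤ n → ∀ a ∈ 𝒜 n, ψ a = 0 → a = 0) :
    Function.Injective (Away.map ψ s : Away 𝒜 s →+* Away ℬ (ψ s)) := by
  refine (injective_iff_map_eq_zero _).mpr fun y hy => away_eq_zero_of_forall 𝒜 hs y fun n a ha hya => ?_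
  rw [hya, Away.map_mk ψ s hs, away_mk_eq_zero_iff] at hy
  obtain ⟨k, hk⟩ := hy
  refine ⟨k + N, h ((k + N) • d + n • d)
    (le_trans (Nat.le_mul_of_pos_right N hd) (by rw [smul_eq_mul, add_mul]; omega))
    _ (SetLike.mul_mem_graded (SetLike.pow_mem_graded (k + N) hs) ha) ?_⟩
  rw [map_mul, map_pow, pow_add, mul_right_comm, hk, zero_mul]

lemma domOpen_eq_top_of_eventually (h : ∀ n : ℕ, N ≤ n → ∀ b ∈ ℬ n, ∃ a ∈ 𝒜 n, ψ a = b) :
    RelCone.domOpen ψ = ⊤ := by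
  refine eq_top_iff.mpr fun x _ => ?_
  obtain ⟨⟨⟨d, hd⟩, b, hb⟩, hxb⟩ := Opens.mem_iSup.mp ((iSup_basicOpen_pos (𝒜 := ℬ)).ge (Set.mem_univ x))
  obtain ⟨a, ha, hab⟩ := h ((N + 1) • d)
    (le_trans (Nat.le_mul_of_pos_right N hd) (by rw [smul_eq_mul, add_mul]; exact Nat.le_add_right _ _))
    (b ^ (N + 1)) (SetLike.pow_mem_graded _ hb)
  refine (RelCone.mem_domOpen ψ x).mpr ⟨a, HomogeneousIdeal.mem_irrelevant_of_mem _
    (by rw [smul_eq_mul]; exact Nat.mul_pos (Nat.succ_pos N) hd) ha, ?_⟩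
  rw [hab]
  exact fun hc => hxb (x.isPrime.mem_of_pow_mem _ hc)

end ring

variable {S PA PB : Scheme.{u}} {𝒜 ℬ : RelProj.QCGrAlg S} (φ : 𝒜.toQCAlg ⟶ ℬ.toQCAlg) (hφ : RelProj.IsGradedHom φ)
  {pA : PA ⟶ S}
  {chartA : ∀ (U : S.Opens) (hU : IsAffineOpen U), (((pA ⁻¹ᵁ U : PA.Opens) : Scheme.{u}) ≅ Proj (𝒜.deg U hU))}
  (hA : RelProj.IsRelProj 𝒜 pA chartA) {pB : PB ⟶ S}
  {chartB : ∀ (U : S.Opens) (hU : IsAffineOpen U), (((pB ⁻¹ᵁ U : PB.Opens) : Scheme.{u}) ≅ Proj (ℬ.deg U hU))}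
  (hB : RelProj.IsRelProj ℬ pB chartB)

include hA hB in
/-- A property local at the target holds for `Proj φ` if it holds for the standard charts. -/
theorem qMap_property {Φ : (RelProj.domQ (RelProj.QGrHom.ofHom φ hφ) pB chartB).toScheme ⟶ PA}
    (hΦ : RelProj.IsProjQMapOn (RelProj.QGrHom.ofHom φ hφ) pA chartA pB chartB
      (RelProj.domQ (RelProj.QGrHom.ofHom φ hφ) pB chartB) Φ)
    {Q : MorphismProperty Scheme.{u}} [IsZariskiLocalAtTarget Q]
    (H : ∀ (U : S.Opens) (hU : IsAffineOpen U) (d : ℕ) (_ : 0 < d) (f : 𝒜.presheaf.obj (op U)),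
      f ∈ 𝒜.deg U hU d → Q (Spec.map (CommRingCat.ofHom
        (Away.map ((RelProj.QGrHom.ofHom φ hφ).gradedAt U hU U hU le_rfl) f)))) : Q Φ := by
  let w := RelProj.QGrHom.ofHom φ hφ
  let I := Σ U : S.affineOpens, Σ d : {d : ℕ // 0 < d}, {f // f ∈ 𝒜.deg U.1 U.2 d.1}
  refine IsZariskiLocalAtTarget.of_openCover (P := Q) (Scheme.Cover.mkOfCovers I
    (fun i => Spec (.of (Away (𝒜.deg i.1.1 i.1.2) i.2.2.1)))
    (fun i => Proj.awayι (𝒜.deg i.1.1 i.1.2) i.2.2.1 i.2.2.2 i.2.1.2 ≫ RelProj.emb pA chartA i.1.1 i.1.2)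
    (fun x => ?_)) fun i => ?_
  · obtain ⟨U, hxU⟩ := Opens.mem_iSup.mp ((ProjLib.iSup_preimage_affine pA).ge (Set.mem_univ x))
    obtain ⟨d, hd, f, hf, y, hy, hyx⟩ := exists_nz_mem (chart := chartA) U.1 U.2 hxU
    obtain ⟨z, hz⟩ := (Proj.opensRange_awayι (𝒜.deg U.1 U.2) f hf hd).ge hy
    refine ⟨⟨U, ⟨d, hd⟩, f, hf⟩, z, ?_⟩
    exact (congrArg (RelProj.emb pA chartA U.1 U.2) hz).trans hyx
  · obtain ⟨⟨U, hU⟩, ⟨d, hd⟩, f, hf⟩ := i
    let k : Pair (𝟙 S) := ⟨(⟨U, hU⟩, ⟨U, hU⟩), le_rfl⟩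
    show Q (pullback.snd Φ (Proj.awayι (𝒜.deg U hU) f hf hd ≫ RelProj.emb pA chartA U hU))
    have hcomm : (domChart (psi w k) hd hf _ rfl ≫ incl w chartB k) ≫ Φ =
        Spec.map (CommRingCat.ofHom (Away.map (psi w k) f)) ≫
          Proj.awayι (𝒜.deg U hU) f hf hd ≫ RelProj.emb pA chartA U hU := by
      rw [Category.assoc, incl_comp_of_isProjQMapOn w hΦ k, piece, ← Category.assoc, domChart_domMap,
        Category.assoc]
      rfl
    have hpb : IsPullback (domChart (psi w k) hd hf _ rfl ≫ incl w chartB k)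
        (Spec.map (CommRingCat.ofHom (Away.map (psi w k) f))) Φ
        (Proj.awayι (𝒜.deg U hU) f hf hd ≫ RelProj.emb pA chartA U hU) := by
      refine (IsOpenImmersion.isPullback _ _ _ _ hcomm ?_).flip
      symm
      ext z
      have hz0 : z ∈ (Φ ⁻¹ᵁ (Proj.awayι (𝒜.deg U hU) f hf hd ≫ RelProj.emb pA chartA U hU).opensRange) ↔
          Φ z ∈ nz chartA U hU f := by
        rw [Scheme.Hom.opensRange_comp, Proj.opensRange_awayι]
        rfl
      constructor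
      · rintro ⟨t, rfl⟩
        rw [SetLike.mem_coe, hz0, show ((domChart (psi w k) hd hf _ rfl ≫ incl w chartB k) t) =
          incl w chartB k (domChart (psi w k) hd hf _ rfl t) from rfl, incl_apply w hΦ k]
        refine ⟨_, ?_, rfl⟩
        refine (SetLike.ext_iff.mp (domMap_preimage_basicOpen (psi w k) hd hf) _).mpr ?_
        exact (Proj.opensRange_awayι _ _ _ hd).le ⟨t, (apply_eq (domChart_ι (psi w k) hd hf _ rfl) t).symm⟩
      · intro hz
        have hz' := hz0.mp hz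
        have hzU : pB z.1 ∈ U := by
          have h3 := apply_qMap (u := w) hA hB hΦ z
          have h4 : pA (Φ z) ∈ U := nz_le U hU f hz'
          rw [h3] at h4
          exact h4
        obtain ⟨y, rfl⟩ := mem_range_incl w hB k z hzU
        rw [incl_apply w hΦ k] at hz'
        obtain ⟨q, hq, hqy⟩ := hz'
        have hy : domMap (psi w k) y ∈ Proj.basicOpen _ f :=
          (RelProj.emb pA chartA U hU).isOpenEmbedding.injective hqy ▸ hq
        have hy2 := (SetLike.ext_iff.mp (domMap_preimage_basicOpen (psi w k) hd hf) y).mp hy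
        obtain ⟨t, ht⟩ := (Proj.opensRange_awayι _ _ ((psi w k).map_mem hf) hd).ge hy2
        refine ⟨t, ?_⟩
        exact congrArg (incl w chartB k) (Subtype.ext ((apply_eq (domChart_ι (psi w k) hd hf _ rfl) t).trans ht))
    rw [← hpb.isoPullback_inv_snd, Q.cancel_left_of_respectsIso]
    exact H U hU d hd f hf

variable {N : ℕ}

include hB in
theorem domQ_eq_top_of_eventually (h : ∀ k, N ≤ k → ∀ (U : S.Opens) (hU : IsAffineOpen U), ∀ y ∈ ℬ.deg U hU k,
    ∃ x ∈ 𝒜.deg U hU k, (φ.hom.app (op U)).hom x = y) :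
    RelProj.domQ (RelProj.QGrHom.ofHom φ hφ) pB chartB = ⊤ := by
  refine eq_top_iff.mpr fun z _ => ?_
  obtain ⟨U, hzU⟩ := Opens.mem_iSup.mp ((ProjLib.iSup_preimage_affine pB).ge (Set.mem_univ z))
  obtain ⟨y, rfl⟩ := (range_emb (p := pB) (chart := chartB) U.1 U.2).ge hzU
  refine ((domQ_ofHom_inf φ hφ hB U.1 U.2).ge ⟨y, ?_, rfl⟩).1
  rw [domOpen_eq_top_of_eventually (RelProj.gradedHomAt φ hφ U.1 U.2) fun n hn b hb => h n hn U.1 U.2 b hb]
  exact Set.mem_univ _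

include hA hB in
theorem property_of_isProjQMap {h : PB ⟶ PA}
    (hh : RelProj.IsProjQMap (RelProj.QGrHom.ofHom φ hφ) pA chartA pB chartB h)
    {Q : MorphismProperty Scheme.{u}} [IsZariskiLocalAtTarget Q]
    (H : ∀ (U : S.Opens) (hU : IsAffineOpen U) (d : ℕ) (_ : 0 < d) (f : 𝒜.presheaf.obj (op U)),
      f ∈ 𝒜.deg U hU d → Q (Spec.map (CommRingCat.ofHom
        (Away.map ((RelProj.QGrHom.ofHom φ hφ).gradedAt U hU U hU le_rfl) f)))) : Q h := by
  have hW := hh.1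
  have : IsIso (RelProj.domQ (RelProj.QGrHom.ofHom φ hφ) pB chartB).ι := by
    rw [hW]
    exact inferInstanceAs (IsIso PB.topIso.hom)
  rw [← Q.cancel_left_of_respectsIso (RelProj.domQ (RelProj.QGrHom.ofHom φ hφ) pB chartB).ι]
  refine qMap_property φ hφ hA hB ?_ H
  intro U hU U' hU' hle d hd f hf hr
  rw [IsOpenImmersion.lift_fac_assoc]
  exact hh.2 U hU U' hU' hle d hd f hf

end Groth.Agent.QProj
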