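import Groth.Agent.Coherent.SubFTApps
import Groth.Agent.RelVALib.DegPiece
import Groth.Prelude.Def_RelProj4
import Groth.Agent.SymAlgLib.Build

/-!
# The graded subalgebra generated by a submodule of one graded piece
-/

set_option autoImplicit false
set_option linter.unusedSectionVars false
set_option backward.isDefEq.respectTransparency.types false

universe u

open CategoryTheory CategoryTheory.Limits AlgebraicGeometry TopologicalSpace Opposite
open Groth.Agent.Coherent Groth.Agent.PicLib Groth.Agent.AmpleLib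

namespace Groth.Agent.QProj

variable {Y : Scheme.{u}} (𝒮 : RelProj.QCGrAlg Y) {n : ℕ} {Q : SubM 𝒮.toModule}

/-- The properties of the homogeneous components of a section of the generated algebra. -/
structure SubComps (U : Y.Opens) (hU : IsAffineOpen U) (n : ℕ) (Q : SubM 𝒮.toModule)
    (a : 𝒮.presheaf.obj (op U)) : Prop where
  mem : ∀ i, (DirectSum.decompose (𝒮.deg U hU) a i : 𝒮.presheaf.obj (op U)) ∈ genAlg 𝒮.toQCAlg Q U
  zero : (DirectSum.decompose (𝒮.deg U hU) a 0 : 𝒮.presheaf.obj (op U)) ∈ (algStr 𝒮.toQCAlg U).range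
  piece : (show Γ(𝒮.toModule, U) from (DirectSum.decompose (𝒮.deg U hU) a n : 𝒮.presheaf.obj (op U))) ∈ Q.carrier U
  dvd : ∀ i, ¬ n ∣ i → (DirectSum.decompose (𝒮.deg U hU) a i : 𝒮.presheaf.obj (op U)) = 0

lemma str_mul_mem_carrier (Q : SubM 𝒮.toModule) {U : Y.Opens} (r : Γ(Y, U)) {x : 𝒮.presheaf.obj (op U)}
    (hx : (show Γ(𝒮.toModule, U) from x) ∈ Q.carrier U) :
    (show Γ(𝒮.toModule, U) from algStr 𝒮.toQCAlg U r * x) ∈ Q.carrier U :=
  (Q.carrier U).smul_mem r hx

lemma subComps_of_hom {U : Y.Opens} (hU : IsAffineOpen U) (hn : 0 < n) {d : ℕ} {a : 𝒮.presheaf.obj (op U)}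
    (ha : a ∈ 𝒮.deg U hU d) (hmem : a ∈ genAlg 𝒮.toQCAlg Q U)
    (h0 : d = 0 → a ∈ (algStr 𝒮.toQCAlg U).range)
    (hp : d = n → (show Γ(𝒮.toModule, U) from a) ∈ Q.carrier U) (hd : d = 0 ∨ d = n) :
    SubComps 𝒮 U hU n Q a := by
  refine ⟨fun i => ?_, ?_, ?_, fun i hi => ?_⟩
  · rcases eq_or_ne d i with rfl | hne
    · rwa [DirectSum.decompose_of_mem_same _ ha]
    · rw [DirectSum.decompose_of_mem_ne _ ha hne]
      exact zero_mem _
  · rcases eq_or_ne d 0 with rfl | hne
    · rw [DirectSum.decompose_of_mem_same _ ha]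
      exact h0 rfl
    · rw [DirectSum.decompose_of_mem_ne _ ha hne]
      exact zero_mem _
  · rcases eq_or_ne d n with rfl | hne
    · rw [DirectSum.decompose_of_mem_same _ ha]
      exact hp rfl
    · rw [DirectSum.decompose_of_mem_ne _ ha hne]
      exact zero_mem _
  · refine DirectSum.decompose_of_mem_ne _ ha fun h => hi (h ▸ ?_)
    rcases hd with rfl | rfl
    · exact dvd_zero n
    · exact dvd_refl d

theorem subComps_of_mem {U : Y.Opens} (hU : IsAffineOpen U) (hn : 0 < n)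
    (hdeg : ∀ x : 𝒮.presheaf.obj (op U), (show Γ(𝒮.toModule, U) from x) ∈ Q.carrier U → x ∈ 𝒮.deg U hU n)
    {a : 𝒮.presheaf.obj (op U)} (ha : a ∈ genAlg 𝒮.toQCAlg Q U) : SubComps 𝒮 U hU n Q a := by
  classical
  induction ha using Subring.closure_induction with
  | mem x hx =>
    rcases hx with ⟨c, rfl⟩ | hx
    · exact subComps_of_hom 𝒮 hU hn (𝒮.str_mem U hU c) (str_mem_genAlg _ Q U c) (fun _ => ⟨c, rfl⟩)
        (fun h => absurd h hn.ne) (Or.inl rfl)
    · exact subComps_of_hom 𝒮 hU hn (hdeg x hx) (Subring.subset_closure (Or.inr hx)) (fun h => absurd h hn.ne')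
        (fun _ => hx) (Or.inr rfl)
  | zero =>
    refine ⟨fun i => ?_, ?_, ?_, fun i _ => ?_⟩ <;> rw [DirectSum.decompose_zero]
    exacts [zero_mem _, zero_mem _, zero_mem _, rfl]
  | one =>
    exact subComps_of_hom 𝒮 hU hn (SetLike.GradedOne.one_mem) (one_mem _) (fun _ => one_mem _)
      (fun h => absurd h hn.ne) (Or.inl rfl)
  | add x y _ _ hx hy =>
    refine ⟨fun i => ?_, ?_, ?_, fun i hi => ?_⟩ <;>
      rw [DirectSum.decompose_add, DirectSum.add_apply, AddMemClass.coe_add]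
    exacts [add_mem (hx.mem i) (hy.mem i), add_mem hx.zero hy.zero, add_mem hx.piece hy.piece,
      by rw [hx.dvd i hi, hy.dvd i hi, add_zero]]
  | neg x _ hx =>
    refine ⟨fun i => ?_, ?_, ?_, fun i hi => ?_⟩ <;>
      rw [DirectSum.decompose_neg, DFinsupp.neg_apply, NegMemClass.coe_neg]
    exacts [neg_mem (hx.mem i), neg_mem hx.zero, neg_mem hx.piece, by rw [hx.dvd i hi, neg_zero]]
  | mul x y _ _ hx hy =>
    refine ⟨fun l => ?_, ?_, ?_, fun l hl => ?_⟩ <;> rw [DirectSum.decompose_mul, DirectSum.coe_mul_apply]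
    · exact sum_mem fun ij _ => mul_mem (hx.mem ij.1) (hy.mem ij.2)
    · refine sum_mem fun ij hij => ?_
      obtain ⟨h1, h2⟩ := Nat.add_eq_zero_iff.mp (Finset.mem_filter.mp hij).2
      rw [h1, h2]
      exact mul_mem hx.zero hy.zero
    · refine Submodule.sum_mem (Q.carrier U) fun ij hij => ?_
      have hl : ij.1 + ij.2 = n := (Finset.mem_filter.mp hij).2
      by_cases hdvd : n ∣ ij.1
      · rcases Nat.eq_zero_or_pos ij.1 with h1 | h1
        · obtain ⟨c, hc⟩ := hx.zero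
          rw [show ij.2 = n by omega, h1, ← hc]
          exact str_mul_mem_carrier 𝒮 Q c hy.piece
        · obtain ⟨c, hc⟩ := hy.zero
          have h3 := Nat.le_of_dvd h1 hdvd
          rw [show ij.2 = 0 by omega, show ij.1 = n by omega, ← hc, mul_comm]
          exact str_mul_mem_carrier 𝒮 Q c hx.piece
      · rw [hx.dvd _ hdvd, zero_mul]
        exact zero_mem _
    · refine Finset.sum_eq_zero fun ij hij => ?_
      have hl' : ij.1 + ij.2 = l := (Finset.mem_filter.mp hij).2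
      by_cases hdvd : n ∣ ij.1
      · rw [hy.dvd ij.2 fun h => hl (hl' ▸ dvd_add hdvd h), mul_zero]
      · rw [hx.dvd _ hdvd, zero_mul]

/-- The grading on the generated algebra. -/
theorem nonempty_gradedRing_subAlg (hQ : Q.Good ⊤) {U : Y.Opens} (hU : IsAffineOpen U) (hn : 0 < n)
    (hdeg : ∀ x : 𝒮.presheaf.obj (op U), (show Γ(𝒮.toModule, U) from x) ∈ Q.carrier U → x ∈ 𝒮.deg U hU n) :
    Nonempty (GradedRing fun i : ℕ =>
      (𝒮.deg U hU i).comap (genSh 𝒮.toQCAlg Q U).subtype.toAddMonoidHom) := by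
  classical
  let B := genSh 𝒮.toQCAlg Q U
  let deg' : ℕ → AddSubgroup B := fun i => (𝒮.deg U hU i).comap B.subtype.toAddMonoidHom
  have hcomp : ∀ b : B, SubComps 𝒮 U hU n Q b.1 := fun b =>
    subComps_of_mem 𝒮 hU hn hdeg ((genSh_eq_genAlg 𝒮.toQCAlg hQ hU).le b.2)
  haveI : SetLike.GradedMonoid deg' :=
    { one_mem := SetLike.GradedOne.one_mem (A := 𝒮.deg U hU)
      mul_mem := fun _ _ _ _ ha hb => SetLike.mul_mem_graded (A := 𝒮.deg U hU) ha hb }
  let f : ∀ i, deg' i →+ 𝒮.deg U hU i := fun i => AddMonoidHom.mk' (fun x => ⟨x.1.1, x.2⟩) fun _ _ => rfl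
  have hinj : Function.Injective (DirectSum.map f) := fun x y h => DFinsupp.ext fun i => by
    have h' := congrArg (fun z => (z i : 𝒮.presheaf.obj (op U))) h
    simp only [DirectSum.map_apply] at h'
    exact Subtype.ext (Subtype.ext h')
  have hcoe : ∀ x, (DirectSum.coeAddMonoidHom deg' x).1 = DirectSum.coeAddMonoidHom (𝒮.deg U hU) (DirectSum.map f x) := by
    intro x
    refine DFunLike.congr_fun (f := B.subtype.toAddMonoidHom.comp (DirectSum.coeAddMonoidHom deg'))
      (g := (DirectSum.coeAddMonoidHom (𝒮.deg U hU)).comp (DirectSum.map f)) (DirectSum.addHom_ext fun i z => ?_) x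
    rw [AddMonoidHom.comp_apply, AddMonoidHom.comp_apply, DirectSum.map_of, DirectSum.coeAddMonoidHom_of,
      DirectSum.coeAddMonoidHom_of]
    rfl
  let dec : B → DirectSum ℕ fun i => deg' i := fun b =>
    DFinsupp.mk (DirectSum.decompose (𝒮.deg U hU) b.1).support fun i =>
      ⟨⟨_, genAlg_le_genSh 𝒮.toQCAlg Q U ((hcomp b).mem i)⟩, (DirectSum.decompose (𝒮.deg U hU) b.1 i).2⟩
  have hdec : ∀ b, DirectSum.map f (dec b) = DirectSum.decompose (𝒮.deg U hU) b.1 := fun b => DFinsupp.ext fun i => by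
    rw [DirectSum.map_apply]
    refine Subtype.ext ?_
    show ((DFinsupp.mk _ _ : DirectSum ℕ fun i => deg' i) i).1.1 = _
    rw [DFinsupp.mk_apply]
    split_ifs with hi
    · rfl
    · rw [DFinsupp.notMem_support_iff.mp hi]
      rfl
  letI : DirectSum.Decomposition deg' :=
    { decompose' := dec
      left_inv := fun b => Subtype.ext (by
        rw [hcoe, hdec]
        exact (DirectSum.decompose (𝒮.deg U hU)).left_inv b.1)
      right_inv := fun x => hinj (by
        rw [hdec, hcoe]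
        exact (DirectSum.decompose (𝒮.deg U hU)).right_inv _) }
  exact ⟨{}⟩

/-- The graded subalgebra generated by a good submodule of the piece of degree `n`. -/
theorem exists_subGrAlg (hn : 0 < n) (hQ : Q.Good ⊤)
    (hdeg : ∀ (U : Y.Opens) (hU : IsAffineOpen U) (x : 𝒮.presheaf.obj (op U)),
      (show Γ(𝒮.toModule, U) from x) ∈ Q.carrier U → x ∈ 𝒮.deg U hU n) :
    ∃ (𝒮' : RelProj.QCGrAlg Y) (j : 𝒮'.toQCAlg ⟶ 𝒮.toQCAlg), RelProj.IsGradedHom j ∧
      (∀ U : Y.Opens, Function.Injective (j.hom.app (op U)).hom) ∧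
      (∀ (U : Y.Opens) (hU : IsAffineOpen U),
        ((𝒮'.deg U hU 0 : AddSubgroup (𝒮'.presheaf.obj (op U))) : Set (𝒮'.presheaf.obj (op U))) =
          Set.range (𝒮'.str.app (op U)).hom) ∧
      (∀ (U : Y.Opens) (hU : IsAffineOpen U),
        Subring.closure (((𝒮'.deg U hU 0 : AddSubgroup (𝒮'.presheaf.obj (op U))) : Set (𝒮'.presheaf.obj (op U))) ∪
          ((𝒮'.deg U hU n : AddSubgroup (𝒮'.presheaf.obj (op U))) : Set (𝒮'.presheaf.obj (op U)))) = ⊤) ∧
      𝒮'.IsFTDeg n ∧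
      ∀ (U : Y.Opens) (hU : IsAffineOpen U) (x : 𝒮.presheaf.obj (op U)),
        (show Γ(𝒮.toModule, U) from x) ∈ Q.carrier U → ∃ y ∈ 𝒮'.deg U hU n, (j.hom.app (op U)).hom y = x := by
  classical
  let A := 𝒮.toQCAlg
  let 𝒮' : RelProj.QCGrAlg Y :=
    { toQCAlg := ⟨subAlgPre A (Q := Q), isSheaf_subAlgPre A, subAlgStr A, isQC_subAlg A hQ⟩
      deg := fun U hU i => (𝒮.deg U hU i).comap (genSh A Q U).subtype.toAddMonoidHom
      graded := fun U hU => (nonempty_gradedRing_subAlg 𝒮 hQ hU hn (hdeg U hU)).some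
      map_mem := fun {U V} hU hV i {_ _} hx => 𝒮.map_mem hU hV i hx
      str_mem := fun U hU r => 𝒮.str_mem U hU r }
  let j : 𝒮'.toQCAlg ⟶ 𝒮.toQCAlg :=
    { hom :=
        { app := fun W => CommRingCat.ofHom (genSh A Q W.unop).subtype
          naturality := fun W W' f => by
            ext a
            show algRes A (leOfHom f.unop) a.1 = 𝒮.presheaf.map f a.1
            rw [show f = (homOfLE (leOfHom f.unop)).op from Subsingleton.elim _ _] }
      comm := rfl }
  have hcomp : ∀ (U : Y.Opens) (hU : IsAffineOpen U) (b : genSh A Q U), SubComps 𝒮 U hU n Q b.1 := fun U hU b =>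
    subComps_of_mem 𝒮 hU hn (hdeg U hU) ((genSh_eq_genAlg A hQ hU).le b.2)
  have hlift : ∀ (U : Y.Opens) (x : 𝒮.presheaf.obj (op U)), (show Γ(𝒮.toModule, U) from x) ∈ Q.carrier U →
      x ∈ genSh A Q U := fun U x hx => genAlg_le_genSh A Q U (Subring.subset_closure (Or.inr hx))
  refine ⟨𝒮', j, fun U hU d x hx => hx, fun U => Subtype.val_injective, fun U hU => ?_, fun U hU => ?_,
    fun U hU => ?_, fun U hU x hx => ⟨⟨x, hlift U x hx⟩, hdeg U hU x hx, rfl⟩⟩
  · ext b
    constructor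
    · intro hb
      obtain ⟨c, hc⟩ := (hcomp U hU b).zero
      refine ⟨c, Subtype.ext (hc.trans ?_)⟩
      exact DirectSum.decompose_of_mem_same _ hb
    · rintro ⟨c, rfl⟩
      exact 𝒮.str_mem U hU c
  · refine eq_top_iff.mpr fun b _ => ?_
    obtain ⟨z, hz⟩ := b
    have key : ∀ z ∈ genAlg A Q U, ∀ hz : z ∈ genSh A Q U, (⟨z, hz⟩ : genSh A Q U) ∈ Subring.closure
        (((𝒮'.deg U hU 0 : AddSubgroup (𝒮'.presheaf.obj (op U))) : Set (𝒮'.presheaf.obj (op U))) ∪
          ((𝒮'.deg U hU n : AddSubgroup (𝒮'.presheaf.obj (op U))) : Set (𝒮'.presheaf.obj (op U)))) := by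
      intro z hz
      induction hz using Subring.closure_induction with
      | mem x hx =>
        rcases hx with ⟨c, rfl⟩ | hx
        · exact fun _ => Subring.subset_closure (Or.inl (𝒮.str_mem U hU c))
        · exact fun _ => Subring.subset_closure (Or.inr (hdeg U hU x hx))
      | zero => exact fun _ => zero_mem _
      | one => exact fun _ => one_mem _
      | add x y hx₀ hy₀ hx hy =>
        exact fun _ => add_mem (hx (genAlg_le_genSh A Q U hx₀)) (hy (genAlg_le_genSh A Q U hy₀))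
      | neg x hx₀ hx => exact fun _ => neg_mem (hx (genAlg_le_genSh A Q U hx₀))
      | mul x y hx₀ hy₀ hx hy =>
        exact fun _ => mul_mem (hx (genAlg_le_genSh A Q U hx₀)) (hy (genAlg_le_genSh A Q U hy₀))
    exact key z ((genSh_eq_genAlg A hQ hU).le hz) hz
  · have := Coherent.isQCoh_toModule A
    have := SubM.isQCoh hQ
    obtain ⟨S, hS⟩ := (finite_sections Q.toMod (locallyFinGen_of_isFT _ (SubM.isFT hQ)) hU).fg_top
    let g : Γ(Q.toMod, U) → 𝒮'.presheaf.obj (op U) := fun e => ⟨Q.toι.app U e, hlift U _ e.2⟩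
    refine ⟨S.image g, ?_, fun b hb => ?_⟩
    · intro x hx
      obtain ⟨e, -, rfl⟩ := Finset.mem_image.mp hx
      exact hdeg U hU _ e.2
    · have hbQ : (show Γ(𝒮.toModule, U) from b.1) ∈ Q.carrier U :=
        (DirectSum.decompose_of_mem_same _ (show b.1 ∈ 𝒮.deg U hU n from hb) : _ = b.1) ▸ (hcomp U hU b).piece
      obtain ⟨c, hc⟩ := Submodule.mem_span_finset.mp (hS.ge (Submodule.mem_top (x := show Γ(Q.toMod, U) from ⟨b.1, hbQ⟩)))
      have hg : Function.Injective g := fun e₁ e₂ h => Q.toι_injective U (congrArg (fun z : genSh A Q U => z.1) h)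
      refine ⟨fun t => if h : ∃ e, g e = t then c h.choose else 0, ?_⟩
      rw [Finset.sum_image hg.injOn]
      have hval : ∀ e, (if h : ∃ e', g e' = g e then c h.choose else 0) = c e := fun e => by
        have h : ∃ e', g e' = g e := ⟨e, rfl⟩
        rw [dif_pos h, hg h.choose_spec]
      simp only [hval]
      refine Subtype.ext ?_
      have h1 := congrArg (fun e => (Q.toι.app U e : Γ(𝒮.toModule, U))) hc.2
      simp only [map_sum, Scheme.Modules.Hom.app_smul] at h1
      refine h1.symm.trans ?_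
      exact (map_sum (genSh A Q U).subtype (fun e => (𝒮'.str.app (op U)).hom (c e) * g e) S).symm

end Groth.Agent.QProj

namespace Groth.Agent.QProj

section image

variable {X : Scheme.{u}} {M F : X.Modules} (ι : M ⟶ F) (P : SubM M)

/-- The image of a submodule under a morphism of modules. -/
noncomputable def subMImage : SubM F where
  carrier W :=
    { carrier := {a | ∀ y ∈ W, ∃ (W' : X.Opens) (h : W' ≤ W), y ∈ W' ∧ ∃ b ∈ P.carrier W', ι.app W' b = resM F h a}
      zero_mem' := fun y hy => ⟨W, le_rfl, hy, 0, zero_mem _, by rw [map_zero, map_zero]⟩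
      add_mem' := fun {a c} ha hc y hy => by
        obtain ⟨W₁, h₁, hy₁, b₁, m₁, e₁⟩ := ha y hy
        obtain ⟨W₂, h₂, hy₂, b₂, m₂, e₂⟩ := hc y hy
        refine ⟨W₁ ⊓ W₂, inf_le_left.trans h₁, ⟨hy₁, hy₂⟩, resM M inf_le_left b₁ + resM M inf_le_right b₂,
          add_mem (P.res _ m₁) (P.res _ m₂), ?_⟩
        rw [map_add, map_add, app_resM, app_resM, e₁, e₂, resM_resM, resM_resM]
      smul_mem' := fun c a ha y hy => by
        obtain ⟨W₁, h₁, hy₁, b₁, m₁, e₁⟩ := ha y hy
        refine ⟨W₁, h₁, hy₁, _, Submodule.smul_mem _ (X.presheaf.map (homOfLE h₁).op c) m₁, ?_⟩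
        rw [resM_smul, Scheme.Modules.Hom.app_smul, e₁] }
  res {W W'} h {a} ha y hy := by
    obtain ⟨W₁, h₁, hy₁, b₁, m₁, e₁⟩ := ha y (h hy)
    refine ⟨W₁ ⊓ W', inf_le_right, ⟨hy₁, hy⟩, resM M inf_le_left b₁, P.res _ m₁, ?_⟩
    rw [app_resM, e₁, resM_resM, resM_resM]
  of_local {W} a ha y hy := by
    obtain ⟨W₁, h₁, hy₁, m⟩ := ha y hy
    obtain ⟨W₂, h₂, hy₂, b, mb, e⟩ := m y hy₁
    refine ⟨W₂, h₂.trans h₁, hy₂, b, mb, ?_⟩
    rw [e, resM_resM]

lemma app_mem_subMImage {W : X.Opens} {b : Γ(M, W)} (hb : b ∈ P.carrier W) :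
    ι.app W b ∈ (subMImage ι P).carrier W :=
  fun _ hy => ⟨W, le_rfl, hy, b, hb, (resM_self _ _ _).symm⟩

theorem good_subMImage {U : X.Opens} (hP : P.Good U) : (subMImage ι P).Good U := by
  intro x hx
  obtain ⟨V, hVU, hxV, I, hI, s, hs1, hs2⟩ := hP x hx
  refine ⟨V, hVU, hxV, I, hI, fun i => ι.app V (s i), fun i => app_mem_subMImage ι P (hs1 i), ?_⟩
  intro W hW a ha y hy hyV
  obtain ⟨W₁, h₁, hy₁, b, mb, e⟩ := ha y hy
  obtain ⟨W₂, h₂, h₂', hy₂, m₂⟩ := hs2 W₁ (h₁.trans hW) b mb y hy₁ hyV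
  refine ⟨W₂, h₂.trans h₁, h₂', hy₂, ?_⟩
  rw [← resM_resM (M := F) h₁ h₂ a, ← e, ← app_resM]
  have key : ∀ z ∈ Submodule.span Γ(X, W₂) (Set.range fun i => resM M h₂' (s i)),
      ι.app W₂ z ∈ Submodule.span Γ(X, W₂) (Set.range fun i => resM F h₂' (ι.app V (s i))) := by
    intro z hz
    induction hz using Submodule.span_induction with
    | mem z hz =>
      obtain ⟨i, rfl⟩ := hz
      rw [app_resM]
      exact Submodule.subset_span ⟨i, rfl⟩
    | zero => rw [map_zero]; exact zero_mem _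
    | add a b _ _ ha hb => rw [map_add]; exact add_mem ha hb
    | smul c a _ ha => rw [Scheme.Modules.Hom.app_smul]; exact Submodule.smul_mem _ _ ha
  exact key _ m₂

end image

variable {Y : Scheme.{u}} (𝒮 : RelProj.QCGrAlg Y)

/-- Finitely many sections of one degree span, with their scalar multiples, a good submodule of that degree. -/
theorem exists_good_deg {N : ℕ} [CompactSpace Y] [QuasiSeparatedSpace Y] {κ : Type u} [Finite κ]
    (U : κ → Y.affineOpens) (f : ∀ c, 𝒮.presheaf.obj (op (U c).1)) (hf : ∀ c, f c ∈ 𝒮.deg (U c).1 (U c).2 N) :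
    ∃ Q : SubM 𝒮.toModule, Q.Good ⊤ ∧
      (∀ (W : Y.Opens) (hW : IsAffineOpen W) (x : 𝒮.presheaf.obj (op W)),
        (show Γ(𝒮.toModule, W) from x) ∈ Q.carrier W → x ∈ 𝒮.deg W hW N) ∧
      ∀ c, (show Γ(𝒮.toModule, (U c).1) from f c) ∈ Q.carrier (U c).1 := by
  classical
  obtain ⟨M, ι, hM, hinj, hdeg⟩ := RelVALib.exists_degPiece 𝒮 N
  choose b hb using fun c => (hdeg (U c).1 (U c).2).2 (f c) (hf c)
  choose P hP hbP using fun c => exists_good_containing_qcqs (F := M) (U c).2.isCompact (fun _ : PUnit.{u + 1} => b c)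
  refine ⟨subMImage ι (SubM.sum P), good_subMImage ι _ (SubM.good_sum P hP), fun W hW x hx => ?_,
    fun c => hb c ▸ app_mem_subMImage ι _ (SubM.le_sum P c _ (hbP c PUnit.unit))⟩
  suffices h : ∀ i, i ≠ N → (DirectSum.decompose (𝒮.deg W hW) x i : 𝒮.presheaf.obj (op W)) = 0 by
    rw [← DirectSum.sum_support_decompose (𝒮.deg W hW) x]
    refine sum_mem fun i _ => ?_
    by_cases hi : i = N
    · exact hi ▸ (DirectSum.decompose (𝒮.deg W hW) x i).2
    · rw [h i hi]
      exact zero_mem _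
  intro i hi
  refine TopCat.Sheaf.eq_of_locally_eq' (SymAlgLib.abSheaf 𝒮.toQCAlg)
    (fun V : {V : Y.affineOpens // ∃ h : V.1 ≤ W, ∃ b : Γ(M, V.1),
      ι.app V.1 b = resM 𝒮.toModule h (show Γ(𝒮.toModule, W) from x)} => V.1.1) W (fun V => homOfLE V.2.1)
    (fun y hy => ?_) _ 0 fun V => ?_
  · obtain ⟨W', h', hy', b', -, e⟩ := hx y hy
    obtain ⟨O, hO, hyO, hOW⟩ := Opens.isBasis_iff_nbhd.mp Y.isBasis_affineOpens hy'
    refine Opens.mem_iSup.mpr ⟨⟨⟨O, hO⟩, hOW.trans h', resM M hOW b', ?_⟩, hyO⟩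
    rw [app_resM, e, resM_resM]
  · obtain ⟨h, b', e⟩ := V.2
    rw [map_zero]
    show 𝒮.res hW V.1.2 h _ = 0
    rw [GradedRingHom.map_directSumDecompose]
    refine DirectSum.decompose_of_mem_ne _ ?_ hi.symm
    have := (hdeg V.1.1 V.1.2).1 b'
    rw [e] at this
    exact this

end Groth.Agent.QProj
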