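import Mathlib.AlgebraicGeometry.Scheme
import Mathlib.AlgebraicGeometry.Morphisms.UnderlyingMap

/-!
# Factorisation of morphisms along a quotient map `h` with `O_V ≅ h_* O_U`
-/

namespace Groth.Agent.ProjLib

open AlgebraicGeometry CategoryTheory TopologicalSpace

universe u

lemma presheafedSpace_ext_of_isIso_c {U V W : PresheafedSpace.{u} CommRingCat.{u}} (h : U ⟶ V)
    [IsIso h.c] (v₁ v₂ : V ⟶ W) (hb : v₁.base = v₂.base) (e : h ≫ v₁ = h ≫ v₂) : v₁ = v₂ := by
  obtain ⟨b, c₁⟩ := v₁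
  obtain ⟨b', c₂⟩ := v₂
  subst hb
  have h2 : c₁ ≫ (TopCat.Presheaf.pushforward _ b).map h.c =
      c₂ ≫ (TopCat.Presheaf.pushforward _ b).map h.c := by
    have e' : PresheafedSpace.Hom.mk (h.base ≫ b) (c₁ ≫ (TopCat.Presheaf.pushforward _ b).map h.c) =
        PresheafedSpace.Hom.mk (h.base ≫ b) (c₂ ≫ (TopCat.Presheaf.pushforward _ b).map h.c) := e
    exact eq_of_heq (PresheafedSpace.Hom.mk.inj e').2
  rw [cancel_mono] at h2
  rw [h2]

lemma presheafedSpace_exists_factor {U V W : PresheafedSpace.{u} CommRingCat.{u}} (h : U ⟶ V)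
    [IsIso h.c] (u : U ⟶ W) (b : (V : TopCat) ⟶ (W : TopCat)) (hb : h.base ≫ b = u.base) :
    ∃ v : V ⟶ W, v.base = b ∧ h ≫ v = u := by
  obtain ⟨ub, uc⟩ := u
  subst hb
  let uc' : W.presheaf ⟶ (TopCat.Presheaf.pushforward _ b).obj
      ((TopCat.Presheaf.pushforward _ h.base).obj U.presheaf) := uc
  refine ⟨⟨b, uc' ≫ (TopCat.Presheaf.pushforward _ b).map (inv h.c)⟩, rfl, ?_⟩
  change PresheafedSpace.Hom.mk _ _ = PresheafedSpace.Hom.mk _ _
  congr 1
  change (uc' ≫ (TopCat.Presheaf.pushforward _ b).map (inv h.c)) ≫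
    (TopCat.Presheaf.pushforward _ b).map h.c = uc'
  exact (Category.assoc _ _ _).trans (by
    rw [← Functor.map_comp, IsIso.inv_hom_id, CategoryTheory.Functor.map_id, Category.comp_id])

lemma ext_of_quotient {U V W : Scheme.{u}} (h : U ⟶ V) [Surjective h] [IsIso h.c]
    (v₁ v₂ : V ⟶ W) (e : h ≫ v₁ = h ≫ v₂) : v₁ = v₂ := by
  have hb : v₁.toPshHom.base = v₂.toPshHom.base := by
    ext y
    obtain ⟨x, rfl⟩ := h.surjective y
    exact congrArg (fun f : U ⟶ W => f x) e
  have : IsIso h.toPshHom.c := ‹IsIso h.c›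
  have := presheafedSpace_ext_of_isIso_c h.toPshHom v₁.toPshHom v₂.toPshHom hb
    (congrArg (fun f : U ⟶ W => f.toPshHom) e)
  apply Scheme.Hom.ext'
  exact LocallyRingedSpace.Hom.ext' this

lemma exists_factor_of_quotient {U V W : Scheme.{u}} (h : U ⟶ V) [Surjective h] [IsIso h.c]
    (hq : Topology.IsQuotientMap h.base) (u : U ⟶ W)
    (hu : ∀ x y : U, h.base x = h.base y → u.base x = u.base y) : ∃ v : V ⟶ W, h ≫ v = u := by
  let b : V.toPresheafedSpace.carrier ⟶ W.toPresheafedSpace.carrier :=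
    TopCat.ofHom ⟨Function.extend h.base u.base (fun y => u.base (h.surjective y).choose),
      hq.continuous_iff.mpr (by
        refine u.continuous.congr fun x => ?_
        exact (Function.FactorsThrough.extend_apply (fun a b hab => hu a b hab) _ x).symm)⟩
  have hb : h.toPshHom.base ≫ b = u.toPshHom.base := by
    ext x
    exact (Function.FactorsThrough.extend_apply (f := h.base) (g := u.base)
      (fun a b hab => hu a b hab) (fun y => u.base (h.surjective y).choose) x :)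
  have : IsIso h.toPshHom.c := ‹IsIso h.c›
  obtain ⟨v₀, hv₀b, hv₀⟩ := presheafedSpace_exists_factor h.toPshHom u.toPshHom b hb
  refine ⟨⟨⟨v₀, fun y => ?_⟩⟩, Scheme.Hom.ext' (LocallyRingedSpace.Hom.ext' hv₀)⟩
  obtain ⟨x, rfl⟩ := h.surjective y
  have hloc : IsLocalHom ((h.toPshHom ≫ v₀).stalkMap x).hom := by
    rw [hv₀]
    exact u.toLRSHom.prop x
  rw [PresheafedSpace.stalkMap.comp] at hloc
  have : IsLocalHom ((h.toPshHom.stalkMap x).hom.comp (v₀.stalkMap (h.toPshHom.base x)).hom) := hloc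
  exact isLocalHom_of_comp (v₀.stalkMap (h.toPshHom.base x)).hom (h.toPshHom.stalkMap x).hom

end Groth.Agent.ProjLib
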