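import Groth.Agent.ProjLib.RelProjBasics
import Groth.Agent.ProjLib.GradedGen

/-!
# The opens of a relative `Proj` defined by homogeneous global sections
-/

set_option linter.unusedSectionVars false

namespace Groth.Agent.ProjLib

open CategoryTheory CategoryTheory.Limits AlgebraicGeometry TopologicalSpace Opposite

universe u

variable {S P : Scheme.{u}} {𝒮 : RelProj.QCGrAlg S} {p : P ⟶ S}
  (chart : ∀ (U : S.Opens) (hU : IsAffineOpen U),
    (((p ⁻¹ᵁ U : P.Opens) : Scheme.{u}) ≅ Proj (𝒮.deg U hU)))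
  (f : 𝒮.presheaf.obj (op ⊤))

/-- `D₊(f|U)`, transported to `P`. -/
noncomputable def chartOpen (U : S.Opens) (hU : IsAffineOpen U) : P.Opens :=
  (p ⁻¹ᵁ U).ι ''ᵁ ((chart U hU).hom ⁻¹ᵁ
    Proj.basicOpen (𝒮.deg U hU) ((𝒮.presheaf.map (homOfLE le_top).op).hom f))

lemma chartOpen_le (U : S.Opens) (hU : IsAffineOpen U) : chartOpen chart f U hU ≤ p ⁻¹ᵁ U := by
  rintro x ⟨y, -, rfl⟩
  exact y.2

variable {chart} (hP : RelProj.IsRelProj 𝒮 p chart)
include hP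

lemma chartOpen_basicOpen {U : S.Opens} (hU : IsAffineOpen U) (r : Γ(S, U)) :
    chartOpen chart f (S.basicOpen r) (hU.basicOpen r) =
      chartOpen chart f U hU ⊓ p ⁻¹ᵁ S.basicOpen r := by
  have e : (𝒮.presheaf.map (homOfLE (le_top : S.basicOpen r ≤ ⊤)).op).hom f =
      𝒮.res hU (hU.basicOpen r) (S.basicOpen_le r)
        ((𝒮.presheaf.map (homOfLE (le_top : U ≤ ⊤)).op).hom f) :=
    ConcreteCategory.congr_hom
      ((congrArg 𝒮.presheaf.map (Subsingleton.elim _ _)).trans (𝒮.presheaf.map_comp _ _)) f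
  rw [chartOpen, chartOpen, e,
    ← Proj.map_preimage_basicOpen _ (𝒮.irrelevant_le_map U hU r), ← Scheme.Hom.comp_preimage,
    ← hP.chart_res, Scheme.Hom.comp_preimage]
  exact Scheme.ι_image_homOfLE_eq_ι_image_inf _ _

lemma mem_chartOpen_basicOpen_iff {U : S.Opens} (hU : IsAffineOpen U) (r : Γ(S, U)) {x : P}
    (hx : x ∈ p ⁻¹ᵁ S.basicOpen r) :
    x ∈ chartOpen chart f (S.basicOpen r) (hU.basicOpen r) ↔ x ∈ chartOpen chart f U hU := by
  rw [chartOpen_basicOpen f hP hU r]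
  exact ⟨And.left, fun h => ⟨h, hx⟩⟩

lemma mem_chartOpen_iff_mem {U V : S.Opens} (hU : IsAffineOpen U) (hV : IsAffineOpen V) {x : P}
    (hxU : x ∈ p ⁻¹ᵁ U) (hxV : x ∈ p ⁻¹ᵁ V) :
    x ∈ chartOpen chart f U hU ↔ x ∈ chartOpen chart f V hV := by
  obtain ⟨r, s, hrs, hz⟩ := exists_basicOpen_le_affine_inter hU hV (p x) ⟨hxU, hxV⟩
  rw [← mem_chartOpen_basicOpen_iff f hP hU r hz,
    ← mem_chartOpen_basicOpen_iff f hP hV s (show x ∈ p ⁻¹ᵁ S.basicOpen s from hrs ▸ hz)]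
  have key : ∀ (W : S.Opens) (hW : IsAffineOpen W), S.basicOpen r = W →
      (x ∈ chartOpen chart f (S.basicOpen r) (hU.basicOpen r) ↔ x ∈ chartOpen chart f W hW) := by
    rintro W hW rfl; exact Iff.rfl
  exact key _ (hV.basicOpen s) hrs

/-- The open `X_f`. -/
lemma exists_relProjOpen : ∃ Xf : P.Opens, ∀ (U : S.Opens) (hU : IsAffineOpen U),
    Xf ⊓ p ⁻¹ᵁ U = chartOpen chart f U hU := by
  refine ⟨⨆ V : S.affineOpens, chartOpen chart f V.1 V.2, fun U hU => ?_⟩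
  ext x
  constructor
  · rintro ⟨h1, h2⟩
    obtain ⟨V, hV⟩ := Opens.mem_iSup.mp h1
    exact (mem_chartOpen_iff_mem f hP V.2 hU (chartOpen_le chart f _ _ hV) h2).mp hV
  · exact fun h => ⟨Opens.mem_iSup.mpr ⟨⟨U, hU⟩, h⟩, chartOpen_le chart f U hU h⟩

set_option backward.isDefEq.respectTransparency.types false in
lemma relProjOpen_isAffineHom {d : ℕ} (hd : 0 < d)
    (hf : ∀ (U : S.Opens) (hU : IsAffineOpen U),
      (𝒮.presheaf.map (homOfLE le_top).op).hom f ∈ 𝒮.deg U hU d)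
    (Xf : P.Opens) (hX : ∀ (U : S.Opens) (hU : IsAffineOpen U),
      Xf ⊓ p ⁻¹ᵁ U = chartOpen chart f U hU) :
    IsAffineHom (Xf.ι ≫ p) := by
  refine isAffineHom_of_forall_exists_isAffineOpen _ fun y => ?_
  obtain ⟨_, ⟨U, hU, rfl⟩, hyU, -⟩ :=
    S.isBasis_affineOpens.exists_subset_of_mem_open (Set.mem_univ y) isOpen_univ
  refine ⟨U, hyU, hU, (Xf.ι.isAffineOpen_iff_of_isOpenImmersion).mp ?_⟩
  rw [Scheme.Hom.comp_preimage, Scheme.Hom.image_preimage_eq_opensRange_inf,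
    Scheme.Opens.opensRange_ι, hX U hU]
  exact (Proj.isAffineOpen_basicOpen (𝒮.deg U hU) _ (hf U hU) hd).preimage_of_isIso
    (chart U hU).hom |>.image_of_isOpenImmersion _

end Groth.Agent.ProjLib
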