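import Groth.Prelude.Def_GrMod2
import Groth.Agent.ProjLib.SpecLocus
import Groth.Agent.ProjLib.GradedGen

set_option linter.unusedSectionVars false

/-!
# Elementary facts about the sheaf associated to a graded module
-/

namespace Groth.Agent.ProjLib

open DirectSum HomogeneousIdeal AlgebraicGeometry CategoryTheory CategoryTheory.Limits
  TopologicalSpace Opposite TopCat

universe u

variable {R A : Type u} [CommRing R] [CommRing A] [Algebra R A] {𝒜 : ℕ → Submodule R A}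
  [GradedAlgebra 𝒜] {M : Type u} [AddCommGroup M] [Module R M] [Module A M] {ℳ : ℕ → Submodule R M}

section

variable (𝒜)

lemma exists_pos_homogeneous_notMem (x : ProjectiveSpectrum 𝒜) :
    ∃ (d : ℕ) (t : A), 0 < d ∧ t ∈ 𝒜 d ∧ t ∉ x.asHomogeneousIdeal.toIdeal := by
  by_contra! h
  exact x.not_irrelevant_le ((HomogeneousIdeal.toIdeal_irrelevant_le 𝒜).mpr
    fun d hd t ht => h d t hd ht)

lemma exists_homogeneous_component_notMem (x : ProjectiveSpectrum 𝒜) {c : A}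
    (hc : c ∉ x.asHomogeneousIdeal.toIdeal) :
    ∃ k, (decompose 𝒜 c k : A) ∉ x.asHomogeneousIdeal.toIdeal := by
  classical
  by_contra! h
  exact hc (by rw [← DirectSum.sum_support_decompose 𝒜 c]; exact sum_mem fun k _ => h k)

lemma exists_degree_one_notMem
    (hgen : (irrelevant 𝒜).toIdeal = Ideal.span (𝒜 1 : Set A)) (x : ProjectiveSpectrum 𝒜) :
    ∃ g ∈ 𝒜 1, g ∉ x.asHomogeneousIdeal.toIdeal := by
  by_contra! h
  exact x.not_irrelevant_le (show (irrelevant 𝒜).toIdeal ≤ x.asHomogeneousIdeal.toIdeal from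
    hgen ▸ Ideal.span_le.mpr h)

end

variable [DirectSum.Decomposition ℳ] [SetLike.GradedSMul 𝒜 ℳ]

lemma decompose_smul_of_mem {i : ℕ} {m : M} (hm : m ∈ ℳ i) (c : A) (j : ℕ) :
    (decompose ℳ (c • m) (j + i) : M) = (decompose 𝒜 c j : A) • m := by
  classical
  conv_lhs => rw [← DirectSum.sum_support_decompose 𝒜 c]
  rw [Finset.sum_smul, DirectSum.decompose_sum, DFinsupp.finsetSum_apply, Submodule.coe_sum]
  rw [Finset.sum_eq_single j]
  · rw [DirectSum.decompose_of_mem_same]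
    exact SetLike.GradedSMul.smul_mem (decompose 𝒜 c j).2 hm
  · intro k _ hk
    rw [DirectSum.decompose_of_mem_ne ℳ
      (SetLike.GradedSMul.smul_mem (decompose 𝒜 c k).2 hm)]
    change k + i ≠ j + i
    omega
  · intro hj
    rw [DFinsupp.notMem_support_iff.mp hj]
    simp

lemma decompose_smul_eq_zero {i : ℕ} {m : M} (hm : m ∈ ℳ i) {c : A} (h : c • m = 0) (j : ℕ) :
    (decompose 𝒜 c j : A) • m = 0 := by
  rw [← decompose_smul_of_mem hm c j, h, DirectSum.decompose_zero]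
  rfl

/-- A homogeneous element of degree zero. -/
lemma one_notMem (x : ProjectiveSpectrum 𝒜) : (1 : A) ∉ x.asHomogeneousIdeal.toIdeal :=
  fun h => x.isPrime.ne_top ((Ideal.eq_top_iff_one _).mpr h)

/-- Every element of `tildeAt` is one fraction. -/
lemma tildeAt_eq_frac (n : ℤ) (x : ProjectiveSpectrum 𝒜) {q : GrTilde.LocMod 𝒜 (M := M) x}
    (hq : q ∈ GrTilde.tildeAt 𝒜 ℳ n x) :
    ∃ (i j : ℕ) (m : ℳ i) (s : 𝒜 j) (hs : s.1 ∉ x.asHomogeneousIdeal.toIdeal),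
      (i : ℤ) = j + n ∧ q = LocalizedModule.mk m.1 ⟨s.1, hs⟩ := by
  unfold GrTilde.tildeAt at hq
  induction hq using Submodule.span_induction with
  | mem q hq => exact hq
  | zero =>
    obtain ⟨d, t, hd, ht, htx⟩ := exists_pos_homogeneous_notMem 𝒜 x
    refine ⟨(((d * n.natAbs : ℕ) : ℤ) + n).toNat, d * n.natAbs, 0,
      ⟨t ^ n.natAbs, by simpa [mul_comm] using SetLike.pow_mem_graded n.natAbs ht⟩,
      fun h => htx (x.isPrime.mem_of_pow_mem _ h), ?_, by simp⟩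
    rw [Int.toNat_of_nonneg]
    have : (n.natAbs : ℤ) ≤ ((d * n.natAbs : ℕ) : ℤ) := by
      exact_mod_cast Nat.le_mul_of_pos_left _ hd
    omega
  | add q r _ _ ihq ihr =>
    obtain ⟨i, j, ⟨m, hm⟩, ⟨s, hs⟩, hsx, e, rfl⟩ := ihq
    obtain ⟨i', j', ⟨m', hm'⟩, ⟨s', hs'⟩, hsx', e', rfl⟩ := ihr
    have he : j' + i = j + i' := by omega
    refine ⟨j + i', j + j', ⟨s' • m + s • m', add_mem ?_ (SetLike.GradedSMul.smul_mem hs hm')⟩,
      ⟨s * s', SetLike.mul_mem_graded hs hs'⟩,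
      fun h => (x.isPrime.mem_or_mem h).elim hsx hsx', by push_cast; omega, ?_⟩
    · exact he ▸ SetLike.GradedSMul.smul_mem hs' hm
    · rw [LocalizedModule.mk_add_mk]
      rfl
  | smul c q _ ihq =>
    obtain ⟨i, j, ⟨m, hm⟩, ⟨s, hs⟩, hsx, e, rfl⟩ := ihq
    obtain ⟨⟨k, ⟨a, ha⟩, ⟨b, hb⟩, hbx⟩, rfl⟩ := HomogeneousLocalization.mk_surjective c
    refine ⟨k + i, k + j, ⟨a • m, SetLike.GradedSMul.smul_mem ha hm⟩,
      ⟨b * s, SetLike.mul_mem_graded hb hs⟩,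
      fun h => (x.isPrime.mem_or_mem h).elim hbx hsx, by push_cast; omega, ?_⟩
    rw [GrTilde.a0_smul_def, HomogeneousLocalization.val_mk, LocalizedModule.mk_smul_mk]
    rfl

lemma frac_mem_tildeAt (n : ℤ) (x : ProjectiveSpectrum 𝒜) (i j : ℕ) (m : ℳ i) (s : 𝒜 j)
    (hs : s.1 ∉ x.asHomogeneousIdeal.toIdeal) (e : (i : ℤ) = j + n) :
    LocalizedModule.mk m.1 ⟨s.1, hs⟩ ∈ GrTilde.tildeAt 𝒜 ℳ n x :=
  Submodule.subset_span ⟨i, j, m, s, hs, e, rfl⟩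

lemma stalkToFiber_tilde_surjective (n : ℤ) (p : ProjectiveSpectrum 𝒜) :
    Function.Surjective (TopCat.stalkToFiber (GrTilde.isLocFrac 𝒜 ℳ n) p) := by
  refine TopCat.stalkToFiber_surjective _ _ fun t => ?_
  obtain ⟨i, j, m, s, hs, e, ht⟩ := tildeAt_eq_frac n p t.2
  refine ⟨⟨ProjectiveSpectrum.basicOpen 𝒜 s.1, hs⟩,
    fun y => ⟨LocalizedModule.mk m.1 ⟨s.1, y.2⟩, frac_mem_tildeAt n _ i j m s y.2 e⟩,
    fun y => ⟨_, y.2, 𝟙 _, i, j, m, s, fun z => z.2, Or.inl e, fun z => rfl⟩,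
    Subtype.ext ht.symm⟩

lemma exists_homogeneous_kill {i : ℕ} {m : M} (hm : m ∈ ℳ i) (x : ProjectiveSpectrum 𝒜)
    {c : A} (hc : c ∉ x.asHomogeneousIdeal.toIdeal) (h : c • m = 0) :
    ∃ (k : ℕ) (c' : A), c' ∈ 𝒜 k ∧ c' ∉ x.asHomogeneousIdeal.toIdeal ∧ c' • m = 0 := by
  obtain ⟨k, hk⟩ := exists_homogeneous_component_notMem 𝒜 x hc
  exact ⟨k, _, (decompose 𝒜 c k).2, hk, decompose_smul_eq_zero hm h k⟩

lemma stalkToFiber_tilde_injective (n : ℤ) (p : ProjectiveSpectrum.top 𝒜) :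
    Function.Injective (TopCat.stalkToFiber (GrTilde.isLocFrac 𝒜 ℳ n) p) := by
  refine TopCat.stalkToFiber_injective _ _ fun Uu Vv fU hU fV hV e => ?_
  obtain ⟨U, hpU, iU, i, j, ⟨a, ha⟩, ⟨s, hs⟩, hsU, ca, wa⟩ := hU ⟨p, Uu.2⟩
  obtain ⟨V, hpV, iV, i', j', ⟨b, hb⟩, ⟨t, ht⟩, htV, cb, wb⟩ := hV ⟨p, Vv.2⟩
  have e' : (LocalizedModule.mk a ⟨s, hsU ⟨p, hpU⟩⟩ : GrTilde.LocMod 𝒜 (M := M) p) =
      LocalizedModule.mk b ⟨t, htV ⟨p, hpV⟩⟩ :=
    ((wa ⟨p, hpU⟩).symm.trans ((congrArg Subtype.val e).trans (wb ⟨p, hpV⟩)))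
  obtain ⟨⟨c, hc⟩, hc'⟩ := LocalizedModule.mk_eq.mp e'
  replace hc' : c • (t • a) = c • (s • b) := hc'
  have hkill : ∃ (k : ℕ) (c' : A), c' ∈ 𝒜 k ∧ c' ∉ p.asHomogeneousIdeal.toIdeal ∧
      c' • (t • a) = c' • (s • b) := by
    have hta : t • a ∈ ℳ (j' + i) := SetLike.GradedSMul.smul_mem ht ha
    have hsb : s • b ∈ ℳ (j + i') := SetLike.GradedSMul.smul_mem hs hb
    obtain ⟨l, hl⟩ : ∃ l, t • a - s • b ∈ ℳ l := by
      rcases ca with h1 | h1 <;> rcases cb with h2 | h2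
      · refine ⟨j' + i, sub_mem hta ?_⟩
        have he : j' + i = j + i' := by omega
        rw [he]; exact hsb
      · exact ⟨j' + i, by rw [(show b = 0 from h2), smul_zero, sub_zero]; exact hta⟩
      · exact ⟨j + i', by rw [(show a = 0 from h1), smul_zero, zero_sub]; exact neg_mem hsb⟩
      · exact ⟨0, by rw [(show a = 0 from h1), (show b = 0 from h2), smul_zero, smul_zero, sub_zero]; exact zero_mem _⟩
    obtain ⟨k, c', hk, hk', hz⟩ :=
      exists_homogeneous_kill hl p (c := c) hc (by rw [smul_sub, hc', sub_self])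
    exact ⟨k, c', hk, hk', sub_eq_zero.mp (by rwa [← smul_sub])⟩
  obtain ⟨k, c', hk, hcp, hzero⟩ := hkill
  let W : Opens (ProjectiveSpectrum.top 𝒜) := U ⊓ V ⊓ ProjectiveSpectrum.basicOpen 𝒜 c'
  have hWU : W ≤ Uu.1 := (inf_le_left.trans inf_le_left).trans iU.le
  have hWV : W ≤ Vv.1 := (inf_le_left.trans inf_le_right).trans iV.le
  refine ⟨⟨W, ⟨⟨hpU, hpV⟩, hcp⟩⟩, homOfLE hWU, homOfLE hWV, fun w => Subtype.ext ?_⟩
  refine (wa ⟨w.1, w.2.1.1⟩).trans (Eq.trans ?_ (wb ⟨w.1, w.2.1.2⟩).symm)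
  exact LocalizedModule.mk_eq.mpr ⟨⟨c', w.2.2⟩, hzero⟩

lemma isZero_modules_of_subsingleton {X : Scheme.{u}} (N : X.Modules)
    (h : ∀ U : (Opens X)ᵒᵖ, Subsingleton (N.presheaf.obj U)) : IsZero N := by
  rw [IsZero.iff_id_eq_zero]
  refine Scheme.Modules.hom_ext _ _ fun U => ?_
  ext x
  exact (h (op U)).elim _ _

end Groth.Agent.ProjLib
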