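import Groth.Prelude.Def_RelProj4

/-!
# An algebra as a graded algebra concentrated in degree `0`
-/

set_option autoImplicit false
set_option backward.isDefEq.respectTransparency.types false

namespace Groth.Agent.ProjLib

open CategoryTheory AlgebraicGeometry TopologicalSpace Opposite DirectSum

universe u

/-- The pieces of the grading concentrated in degree `0`. -/
def trivDeg (A : Type u) [CommRing A] (i : ℕ) : AddSubgroup A := if i = 0 then ⊤ else ⊥

lemma mem_trivDeg_iff {A : Type u} [CommRing A] {i : ℕ} {a : A} : a ∈ trivDeg A i ↔ i = 0 ∨ a = 0 := by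
  unfold trivDeg
  split_ifs with h <;> simp [h]

theorem nonempty_trivDeg_graded (A : Type u) [CommRing A] : Nonempty (GradedRing (trivDeg A)) := by
  classical
  haveI : SetLike.GradedMonoid (trivDeg A) :=
    { one_mem := mem_trivDeg_iff.mpr (Or.inl rfl)
      mul_mem := fun i k a b ha hb => by
        rcases mem_trivDeg_iff.mp ha with rfl | rfl
        · rcases mem_trivDeg_iff.mp hb with rfl | rfl
          · exact mem_trivDeg_iff.mpr (Or.inl rfl)
          · exact mem_trivDeg_iff.mpr (Or.inr (mul_zero _))
        · exact mem_trivDeg_iff.mpr (Or.inr (zero_mul _)) }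
  let dec : A →+ ⨁ i, trivDeg A i :=
    (DirectSum.of (fun i => trivDeg A i) 0).comp
      (AddMonoidHom.mk' (fun a => (⟨a, mem_trivDeg_iff.mpr (Or.inl rfl)⟩ : trivDeg A 0)) fun _ _ => rfl)
  letI : DirectSum.Decomposition (trivDeg A) :=
    DirectSum.Decomposition.ofAddHom _ dec
      (AddMonoidHom.ext fun a => by
        show DirectSum.coeAddMonoidHom _ (DirectSum.of _ 0 _) = a
        rw [DirectSum.coeAddMonoidHom_of]
        rfl)
      (DirectSum.addHom_ext fun i x => by
        show dec (DirectSum.coeAddMonoidHom _ (DirectSum.of _ i x)) = DirectSum.of _ i x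
        rw [DirectSum.coeAddMonoidHom_of]
        rcases mem_trivDeg_iff.mp x.2 with rfl | h
        · rfl
        · have hx : x = 0 := Subtype.ext h
          rw [hx, ZeroMemClass.coe_zero, map_zero, map_zero])
  exact ⟨{}⟩

variable {S : Scheme.{u}} (𝒜 : RelSpec.QCAlg S)

/-- The algebra graded in degree `0`. -/
noncomputable def trivGrAlg : RelProj.QCGrAlg S where
  toQCAlg := 𝒜
  deg _ _ := trivDeg _
  graded _ _ := (nonempty_trivDeg_graded _).some
  map_mem := fun {_ _} _ _ _ {_ _} hx => by
    rcases mem_trivDeg_iff.mp hx with h | h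
    · exact mem_trivDeg_iff.mpr (Or.inl h)
    · exact mem_trivDeg_iff.mpr (Or.inr (by rw [h, map_zero]))
  str_mem _ _ _ := mem_trivDeg_iff.mpr (Or.inl rfl)

end Groth.Agent.ProjLib
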