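import Groth.Agent.ProjLib.AwayDehom
import Groth.Agent.ProjLib.SpecLocus
import Mathlib.AlgebraicGeometry.ProjectiveSpectrum.Basic
import Mathlib.AlgebraicGeometry.Morphisms.IsIso

/-!
# `Proj` of a Veronese subring
-/

set_option linter.unusedSectionVars false

namespace Groth.Agent.ProjLib

open DirectSum HomogeneousLocalization AlgebraicGeometry CategoryTheory CategoryTheory.Limits

universe u

variable {R A : Type u} [CommRing R] [CommRing A] [Algebra R A] {𝒜 : ℕ → Submodule R A}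
  [GradedAlgebra 𝒜] {B : Type u} [CommRing B] [Algebra R B] {ℬ : ℕ → Submodule R B}
  [GradedAlgebra ℬ]

/-- Two points of `Proj` agree if they agree on homogeneous elements of positive degree. -/
lemma point_ext {x y : Proj 𝒜} (h : ∀ n, 0 < n → ∀ a ∈ 𝒜 n,
    (a ∈ x.asHomogeneousIdeal.toIdeal ↔ a ∈ y.asHomogeneousIdeal.toIdeal)) : x = y := by
  obtain ⟨j, t, hj, ht, htx⟩ : ∃ j, ∃ t, 0 < j ∧ t ∈ 𝒜 j ∧ t ∉ x.asHomogeneousIdeal.toIdeal := by
    by_contra! hcon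
    exact x.not_irrelevant_le
      ((HomogeneousIdeal.toIdeal_irrelevant_le 𝒜).mpr fun j hj t ht => hcon j t hj ht)
  have hty : t ∉ y.asHomogeneousIdeal.toIdeal := fun hc => htx ((h j hj t ht).mpr hc)
  refine ProjectiveSpectrum.ext (HomogeneousIdeal.ext' fun i a ha => ?_)
  have h1 := h (i + j) (by omega) _ (SetLike.mul_mem_graded ha ht)
  exact ⟨fun hax => (y.isPrime.mem_or_mem (h1.mp (Ideal.mul_mem_right t _ hax))).resolve_right hty,
    fun hay => (x.isPrime.mem_or_mem (h1.mpr (Ideal.mul_mem_right t _ hay))).resolve_right htx⟩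

variable {d : ℕ} (hd : 0 < d) (φ : B →ₐ[R] A)
  (hdeg : ∀ n : ℕ, Submodule.map φ.toLinearMap (ℬ n) = 𝒜 (n * d))

include hd hdeg in
lemma iSup_veronese_eq_top :
    ⨆ i : (Σ n : PNat, ℬ n), Proj.basicOpen 𝒜 (φ (i.2 : B)) = ⊤ := by
  refine (iSup_basicOpen_eq_top_iff 𝒜 _ fun i =>
    ⟨_, veronese_mem 𝒜 ℬ φ hdeg i.2.2⟩).mpr ?_
  refine irrelevant_le_of_homogeneous 𝒜 fun n hn a ha => ⟨d, ?_⟩
  obtain ⟨b, hb, hba⟩ := veronese_surj 𝒜 ℬ φ hdeg (n := n) (a := a ^ d)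
    (by simpa [mul_comm] using SetLike.pow_mem_graded d ha)
  exact hba ▸ Ideal.subset_span ⟨⟨⟨n, hn⟩, b, hb⟩, rfl⟩

/-- The cover of `Proj 𝒜` by the `D₊(φ g)`. -/
noncomputable def veroneseCover : (Proj 𝒜).AffineOpenCover where
  I₀ := Σ n : PNat, ℬ n
  X i := .of (Away 𝒜 (φ (i.2 : B)))
  f i := Proj.awayι 𝒜 (φ (i.2 : B)) (veronese_mem 𝒜 ℬ φ hdeg i.2.2) (Nat.mul_pos i.1.2 hd)
  idx x := (TopologicalSpace.Opens.mem_iSup.mp
    ((iSup_veronese_eq_top hd φ hdeg).ge (Set.mem_univ x))).choose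
  covers x := by
    change x ∈ (Proj.awayι 𝒜 _ _ _).opensRange
    rw [Proj.opensRange_awayι]
    exact (TopologicalSpace.Opens.mem_iSup.mp
      ((iSup_veronese_eq_top hd φ hdeg).ge (Set.mem_univ x))).choose_spec

lemma veroneseAway_mk {e : ℕ} {g : B} (hg : g ∈ ℬ e) (n : ℕ) (b : B) (hb : b ∈ ℬ (n • e)) :
    veroneseAway φ hdeg hg (Away.mk ℬ hg n b hb) =
      Away.mk 𝒜 (veronese_mem 𝒜 ℬ φ hdeg hg) n (φ b)
        (by simpa [mul_assoc] using veronese_mem 𝒜 ℬ φ hdeg hb) := by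
  apply val_injective
  rw [veroneseAway_val, Away.val_mk, Away.val_mk, Localization.awayMap, IsLocalization.Away.map,
    Localization.mk_eq_mk', Localization.mk_eq_mk', IsLocalization.map_mk']
  congr 1
  ext
  simp

lemma veroneseAway_natural {e e' : ℕ} {g h : B} (hg : g ∈ ℬ e) (hh : h ∈ ℬ e') {x : B}
    (hx : x = g * h) :
    (veroneseAway φ hdeg (hx ▸ SetLike.mul_mem_graded hg hh : x ∈ ℬ (e + e'))).comp
        (awayMap ℬ hh hx) =
      (awayMap 𝒜 (veronese_mem 𝒜 ℬ φ hdeg hh)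
        (show φ x = φ g * φ h by rw [hx, map_mul])).comp (veroneseAway φ hdeg hg) := by
  refine RingHom.ext fun y => ?_
  obtain ⟨n, b, hb, rfl⟩ := Away.mk_surjective ℬ hg y
  simp only [RingHom.comp_apply]
  rw [awayMap_mk ℬ hh hx n hg b hb, veroneseAway_mk φ hdeg, veroneseAway_mk φ hdeg,
    awayMap_mk 𝒜 (veronese_mem 𝒜 ℬ φ hdeg hh) _ n (veronese_mem 𝒜 ℬ φ hdeg hg)]
  apply val_injective
  simp [Away.val_mk]

/-- The morphism on a chart. -/
noncomputable def veroneseChart {e : ℕ} (he : 0 < e) {g : B} (hg : g ∈ ℬ e) :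
    Spec (.of (Away 𝒜 (φ g))) ⟶ Proj ℬ :=
  Spec.map (CommRingCat.ofHom (veroneseAway φ hdeg hg)) ≫ Proj.awayι ℬ g hg he

lemma veroneseChart_mul {e e' : ℕ} (he : 0 < e) {g h : B} (hg : g ∈ ℬ e) (hh : h ∈ ℬ e')
    {x : B} (hx : x = g * h) :
    Spec.map (CommRingCat.ofHom (awayMap 𝒜 (veronese_mem 𝒜 ℬ φ hdeg hh)
        (show φ x = φ g * φ h by rw [hx, map_mul]))) ≫ veroneseChart φ hdeg he hg =
      veroneseChart φ hdeg (he.trans_le (Nat.le_add_right e e'))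
        (hx ▸ SetLike.mul_mem_graded hg hh : x ∈ ℬ (e + e')) := by
  rw [veroneseChart, veroneseChart, ← Spec.map_comp_assoc, ← CommRingCat.ofHom_comp,
    ← veroneseAway_natural φ hdeg hg hh hx, CommRingCat.ofHom_comp, Spec.map_comp, Category.assoc,
    Proj.SpecMap_awayMap_awayι]

lemma veroneseChart_compat {e e' : ℕ} (he : 0 < e) (he' : 0 < e') {g h : B} (hg : g ∈ ℬ e)
    (hh : h ∈ ℬ e') :
    pullback.fst (Proj.awayι 𝒜 (φ g) (veronese_mem 𝒜 ℬ φ hdeg hg) (Nat.mul_pos he hd))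
        (Proj.awayι 𝒜 (φ h) (veronese_mem 𝒜 ℬ φ hdeg hh) (Nat.mul_pos he' hd)) ≫
          veroneseChart φ hdeg he hg =
      pullback.snd _ _ ≫ veroneseChart φ hdeg he' hh := by
  rw [← Proj.pullbackAwayιIso_hom_SpecMap_awayMap_left 𝒜 _ _ (veronese_mem 𝒜 ℬ φ hdeg hh)
      (Nat.mul_pos he' hd) (show φ (g * h) = φ g * φ h from map_mul φ g h),
    ← Proj.pullbackAwayιIso_hom_SpecMap_awayMap_right 𝒜 (veronese_mem 𝒜 ℬ φ hdeg hg)
      (Nat.mul_pos he hd) _ _ (show φ (g * h) = φ g * φ h from map_mul φ g h),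
    Category.assoc, Category.assoc, veroneseChart_mul φ hdeg he hg hh rfl]
  congr 1
  rw [veroneseChart_mul φ hdeg he' hh hg (mul_comm g h)]
  simp only [veroneseChart]
  congr 2
  exact Nat.add_comm _ _

/-- The morphism `Proj 𝒜 ⟶ Proj ℬ`. -/
noncomputable def veroneseHom : Proj 𝒜 ⟶ Proj ℬ :=
  Scheme.Cover.glueMorphisms (veroneseCover hd φ hdeg).openCover
    (fun i => veroneseChart φ hdeg i.1.2 i.2.2)
    (fun i j => veroneseChart_compat hd φ hdeg i.1.2 j.1.2 i.2.2 j.2.2)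

lemma awayι_veroneseHom {e : ℕ} (he : 0 < e) {g : B} (hg : g ∈ ℬ e) :
    Proj.awayι 𝒜 (φ g) (veronese_mem 𝒜 ℬ φ hdeg hg) (Nat.mul_pos he hd) ≫
      veroneseHom hd φ hdeg = veroneseChart φ hdeg he hg :=
  Scheme.Cover.ι_glueMorphisms (veroneseCover hd φ hdeg).openCover
    (fun i => veroneseChart φ hdeg i.1.2 i.2.2) _ ⟨⟨e, he⟩, g, hg⟩

lemma veroneseHom_preimage {e : ℕ} (he : 0 < e) {g : B} (hg : g ∈ ℬ e) :
    veroneseHom hd φ hdeg ⁻¹ᵁ Proj.basicOpen ℬ g = Proj.basicOpen 𝒜 (φ g) := by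
  have hloc : ∀ (k : ℕ) (hk : 0 < k) (h : B) (hh : h ∈ ℬ k),
      Proj.awayι 𝒜 (φ h) (veronese_mem 𝒜 ℬ φ hdeg hh) (Nat.mul_pos hk hd) ⁻¹ᵁ
          (veroneseHom hd φ hdeg ⁻¹ᵁ Proj.basicOpen ℬ g) =
        Proj.awayι 𝒜 (φ h) (veronese_mem 𝒜 ℬ φ hdeg hh) (Nat.mul_pos hk hd) ⁻¹ᵁ
          Proj.basicOpen 𝒜 (φ g) := by
    intro k hk h hh
    rw [← Scheme.Hom.comp_preimage, awayι_veroneseHom hd φ hdeg hk hh, veroneseChart,
      Scheme.Hom.comp_preimage, Proj.awayι_preimage_basicOpen ℬ _ _ hg he,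
      Proj.awayι_preimage_basicOpen 𝒜 _ _ (veronese_mem 𝒜 ℬ φ hdeg hg) (Nat.mul_pos he hd)]
    change PrimeSpectrum.basicOpen (veroneseAway φ hdeg hh
      (Away.isLocalizationElem hh hg)) = _
    rw [← PrimeSpectrum.basicOpen_pow _ d hd]
    congr 1
    rw [Away.isLocalizationElem, veroneseAway_mk φ hdeg, Away.isLocalizationElem]
    apply val_injective
    rw [val_pow, Away.val_mk, Away.val_mk, Localization.mk_pow, Localization.mk_eq_mk_iff,
      Localization.r_iff_exists]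
    exact ⟨1, by simp [← pow_mul]⟩
  ext x
  obtain ⟨i, hi⟩ := TopologicalSpace.Opens.mem_iSup.mp
    ((iSup_veronese_eq_top hd φ hdeg).ge (Set.mem_univ x))
  rw [← Proj.opensRange_awayι 𝒜 _ (veronese_mem 𝒜 ℬ φ hdeg i.2.2) (Nat.mul_pos i.1.2 hd)] at hi
  obtain ⟨y, rfl⟩ := hi
  exact SetLike.ext_iff.mp (hloc i.1 i.1.2 i.2 i.2.2) y

lemma veroneseHom_apply (p : Proj 𝒜) :
    ((veroneseHom hd φ hdeg).base p).asHomogeneousIdeal.toIdeal =
      Ideal.comap φ p.asHomogeneousIdeal.toIdeal := by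
  set q := (veroneseHom hd φ hdeg).base p
  have hpos : ∀ e, 0 < e → ∀ g ∈ ℬ e,
      (g ∈ q.asHomogeneousIdeal.toIdeal ↔ φ g ∈ p.asHomogeneousIdeal.toIdeal) := by
    intro e he g hg
    have h := SetLike.ext_iff.mp (veroneseHom_preimage hd φ hdeg he hg) p
    exact not_iff_not.mp h
  obtain ⟨j, t, hj, ht, htq⟩ : ∃ j, ∃ t, 0 < j ∧ t ∈ ℬ j ∧ t ∉ q.asHomogeneousIdeal.toIdeal := by
    by_contra! hcon
    exact q.not_irrelevant_le
      ((HomogeneousIdeal.toIdeal_irrelevant_le ℬ).mpr fun j hj t ht => hcon j t hj ht)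
  have htp : φ t ∉ p.asHomogeneousIdeal.toIdeal := fun hc => htq ((hpos j hj t ht).mpr hc)
  have hhom : ∀ (i : ℕ) (b : B), b ∈ ℬ i →
      (b ∈ q.asHomogeneousIdeal.toIdeal ↔ φ b ∈ p.asHomogeneousIdeal.toIdeal) := fun i b hb => by
    have h1 := hpos (i + j) (by omega) _ (SetLike.mul_mem_graded hb ht)
    rw [map_mul] at h1
    exact ⟨fun h => (p.isPrime.mem_or_mem (h1.mp (Ideal.mul_mem_right t _ h))).resolve_right htp,
      fun h => (q.isPrime.mem_or_mem (h1.mpr (Ideal.mul_mem_right _ _ h))).resolve_right htq⟩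
  classical
  ext b
  rw [Ideal.mem_comap]
  constructor
  · intro hb
    rw [← sum_support_decompose ℬ b, map_sum]
    exact sum_mem fun i _ => (hhom i _ (decompose ℬ b i).2).mp
      (q.asHomogeneousIdeal.isHomogeneous i hb)
  · intro hb
    rw [← sum_support_decompose ℬ b]
    refine sum_mem fun i _ => (hhom i _ (decompose ℬ b i).2).mpr ?_
    have key : ∀ x : B, φ (decompose ℬ x i : B) = (decompose 𝒜 (φ x) (i * d) : A) := fun x => by
      induction x using DirectSum.Decomposition.inductionOn (ℳ := ℬ) with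
      | zero => simp
      | @homogeneous k c =>
        have hc : φ (c : B) ∈ 𝒜 (k * d) := veronese_mem 𝒜 ℬ φ hdeg c.2
        by_cases hk : k = i
        · subst hk
          rw [decompose_of_mem_same ℬ c.2, decompose_of_mem_same 𝒜 hc]
        · rw [decompose_of_mem_ne ℬ c.2 hk, map_zero,
            decompose_of_mem_ne 𝒜 hc fun h => hk (Nat.eq_of_mul_eq_mul_right hd h)]
      | add x y hx hy =>
        rw [map_add φ x y, decompose_add, decompose_add, DirectSum.add_apply, DirectSum.add_apply,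
          Submodule.coe_add, Submodule.coe_add, map_add, hx, hy]
    rw [key b]
    exact p.asHomogeneousIdeal.isHomogeneous (i * d) hb

set_option backward.isDefEq.respectTransparency.types false in
lemma veroneseHom_isIso (hφ : Function.Injective φ) : IsIso (veroneseHom hd φ hdeg) := by
  refine IsZariskiLocalAtTarget.of_openCover (P := MorphismProperty.isomorphisms Scheme)
    (Proj.affineOpenCover ℬ).openCover fun i => ?_
  have hsq : IsPullback
      (Proj.awayι 𝒜 (φ (i.2 : B)) (veronese_mem 𝒜 ℬ φ hdeg i.2.2) (Nat.mul_pos i.1.2 hd))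
      (Spec.map (CommRingCat.ofHom (veroneseAway φ hdeg i.2.2)))
      (veroneseHom hd φ hdeg) (Proj.awayι ℬ (i.2 : B) i.2.2 i.1.2) := by
    refine ((IsOpenImmersion.isPullback _ _ _ _
      (awayι_veroneseHom hd φ hdeg i.1.2 i.2.2) ?_)).flip
    rw [Proj.opensRange_awayι, Proj.opensRange_awayι]
    exact veroneseHom_preimage hd φ hdeg i.1.2 i.2.2
  change IsIso (pullback.snd (veroneseHom hd φ hdeg) (Proj.awayι ℬ (i.2 : B) i.2.2 i.1.2))
  have : IsIso (CommRingCat.ofHom (veroneseAway (𝒜 := 𝒜) φ hdeg i.2.2)) := by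
    rw [ConcreteCategory.isIso_iff_bijective]
    exact veroneseAway_bijective φ hdeg i.2.2 hφ
  rw [← hsq.isoPullback_inv_snd]
  infer_instance

end Groth.Agent.ProjLib
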